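import Groth.Agent.CurvFam16.GenFF.Degree
import Groth.Agent.CurveLuroth.FF
import Groth.Agent.CurveBC.Geometry
import Groth.Agent.GeomField.Chart

/-! The function field after extension of the base field. -/

noncomputable section

set_option linter.style.haveILetI false
set_option linter.unusedSectionVars false
set_option backward.isDefEq.respectTransparency false
set_option backward.isDefEq.respectTransparency.types false

universe u

open CategoryTheory CategoryTheory.Limits AlgebraicGeometry TopologicalSpace Opposite TensorProduct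

namespace Groth.Agent.CurvFam16.BCFF

attribute [local instance] GenFF.ffAlg

theorem ffC_eq {k : Type u} [Field k] {X : Scheme.{u}} [X.Over (Spec (CommRingCat.of k))] [IsIntegral X] (c : k) :
    (CurveLuroth.ffC (X ↘ Spec (CommRingCat.of k))).hom c = algebraMap k X.functionField c := by
  have h : CurveLuroth.ffC (X ↘ Spec (CommRingCat.of k)) =
      (Scheme.ΓSpecIso (CommRingCat.of k)).inv ≫ (X ↘ Spec (CommRingCat.of k)).appTop ≫
        X.presheaf.germ ⊤ (genericPoint X) trivial := by
    apply Spec.map_injective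
    rw [CurveLuroth.spec_ffC, Spec.map_comp, Spec.map_comp, ← Scheme.fromSpecStalk_toSpecΓ]
    simp only [Category.assoc]
    rw [← Scheme.toSpecΓ_naturality_assoc]
    simp
  rw [h]
  rfl

/-- The function field of the base change is generated by the function field and the new constants. -/
theorem exists_ff_bc (k : Type u) [Field k] (X : Scheme.{u}) [X.Over (Spec (CommRingCat.of k))] [IsIntegral X]
    (K : Type u) [Field K] [Algebra k K] [IsIntegral (Curv2.bc k X K)] :
    letI : (Curv2.bc k X K).Over (Spec (CommRingCat.of K)) := ⟨Curv2.bcSnd k X K⟩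
    ∃ π : X.functionField →+* (Curv2.bc k X K).functionField,
      (∀ c : k, π (algebraMap k X.functionField c) =
        algebraMap K (Curv2.bc k X K).functionField (algebraMap k K c)) ∧
      ∀ z : (Curv2.bc k X K).functionField,
        ∃ n d : Subring.closure (Set.range π ∪ Set.range (algebraMap K (Curv2.bc k X K).functionField)),
          z = (n : (Curv2.bc k X K).functionField) / d := by
  letI : (Curv2.bc k X K).Over (Spec (CommRingCat.of K)) := ⟨Curv2.bcSnd k X K⟩
  obtain ⟨c, P, hP⟩ := GeomField.exists_chart (k := k) (genericPoint X)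
  haveI : Nonempty (Spec (CommRingCat.of c.R)) := ⟨P⟩
  haveI hU : Nonempty (Spec (CommRingCat.of (c.R ⊗[k] K))) := by
    haveI : Surjective (Curv2.bcFst k X K) :=
      MorphismProperty.pullback_fst _ _ (GrpSchLib.surjective_spec_map_field (algebraMap k K))
    obtain ⟨z, hz⟩ := (Curv2.bcFst k X K).surjective (c.emb P)
    obtain ⟨Q, -⟩ := (show z ∈ Set.range (c.bcEmb K) by rw [c.range_bcEmb K]; exact ⟨P, hz.symm⟩)
    exact ⟨Q⟩
  haveI : IsIntegral (Spec (CommRingCat.of (c.R ⊗[k] K))) := isIntegral_of_isOpenImmersion (c.bcEmb K)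
  haveI : IsIntegral (Spec (CommRingCat.of c.R)) := isIntegral_of_isOpenImmersion c.emb
  haveI : IsDomain (CommRingCat.of (c.R ⊗[k] K)) := (affine_isIntegral_iff _).1 inferInstance
  haveI : IsDomain (CommRingCat.of c.R) := (affine_isIntegral_iff _).1 inferInstance
  have e' := genericPoint_eq_of_isOpenImmersion (c.bcEmb K)
  have e : Curv2.bcFst k X K (genericPoint (Curv2.bc k X K)) = genericPoint X := by
    haveI : Surjective (Curv2.bcFst k X K) :=
      MorphismProperty.pullback_fst _ _ (GrpSchLib.surjective_spec_map_field (algebraMap k K))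
    obtain ⟨w, hw⟩ := (Curv2.bcFst k X K).surjective (genericPoint X)
    exact ((hw ▸ (genericPoint_specializes w).map (Curv2.bcFst k X K).continuous).antisymm (genericPoint_specializes _)).eq
  let π : X.functionField ⟶ (Curv2.bc k X K).functionField :=
    X.presheaf.stalkSpecializes (specializes_of_eq e) ≫ (Curv2.bcFst k X K).stalkMap (genericPoint _)
  let u := (Curv2.bc k X K).presheaf.stalkSpecializes (specializes_of_eq e') ≫
    (c.bcEmb K).stalkMap (genericPoint (Spec (CommRingCat.of (c.R ⊗[k] K))))
  haveI : IsIso u := by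
    have key : ∀ (z : ↥(Curv2.bc k X K)) (h : z = genericPoint (Curv2.bc k X K)),
        IsIso ((Curv2.bc k X K).presheaf.stalkSpecializes (specializes_of_eq h)) := by
      rintro z rfl
      rw [TopCat.Presheaf.stalkSpecializes_refl]
      infer_instance
    haveI := key _ e'
    exact IsIso.comp_isIso' inferInstance inferInstance
  let toFF := StructureSheaf.toStalk (CommRingCat.of (c.R ⊗[k] K)) (genericPoint (Spec (CommRingCat.of (c.R ⊗[k] K))))
  let σ : CommRingCat.of (c.R ⊗[k] K) ⟶ (Curv2.bc k X K).functionField := toFF ≫ inv u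
  have hσ : Spec.map σ ≫ c.bcEmb K = (Curv2.bc k X K).fromSpecStalk (genericPoint _) := by
    rw [Spec.map_comp, Category.assoc,
      show Spec.map toFF = (Spec (CommRingCat.of (c.R ⊗[k] K))).fromSpecStalk _ from (Spec.fromSpecStalk_eq' _ _).symm,
      ← cancel_epi (Spec.map u), ← Spec.map_comp_assoc, IsIso.inv_hom_id, Spec.map_id]
    simp only [u, Spec.map_comp, Category.assoc]
    rw [Scheme.SpecMap_stalkSpecializes_fromSpecStalk, Scheme.SpecMap_stalkMap_fromSpecStalk]
    exact Category.id_comp _
  have e0 := genericPoint_eq_of_isOpenImmersion c.emb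
  let u₀ := X.presheaf.stalkSpecializes (specializes_of_eq e0) ≫
    c.emb.stalkMap (genericPoint (Spec (CommRingCat.of c.R)))
  haveI : IsIso u₀ := by
    have key : ∀ (z : X) (h : z = genericPoint X), IsIso (X.presheaf.stalkSpecializes (specializes_of_eq h)) := by
      rintro z rfl
      rw [TopCat.Presheaf.stalkSpecializes_refl]
      infer_instance
    haveI := key _ e0
    exact IsIso.comp_isIso' inferInstance inferInstance
  let toFF₀ := StructureSheaf.toStalk (CommRingCat.of c.R) (genericPoint (Spec (CommRingCat.of c.R)))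
  let σ₀ : CommRingCat.of c.R ⟶ X.functionField := toFF₀ ≫ inv u₀
  have hσ₀ : Spec.map σ₀ ≫ c.emb = X.fromSpecStalk (genericPoint _) := by
    rw [Spec.map_comp, Category.assoc,
      show Spec.map toFF₀ = (Spec (CommRingCat.of c.R)).fromSpecStalk _ from (Spec.fromSpecStalk_eq' _ _).symm,
      ← cancel_epi (Spec.map u₀), ← Spec.map_comp_assoc, IsIso.inv_hom_id, Spec.map_id]
    simp only [u₀, Spec.map_comp, Category.assoc]
    rw [Scheme.SpecMap_stalkSpecializes_fromSpecStalk, Scheme.SpecMap_stalkMap_fromSpecStalk]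
    exact Category.id_comp _
  have hπ : Spec.map π ≫ X.fromSpecStalk (genericPoint _) =
      (Curv2.bc k X K).fromSpecStalk (genericPoint _) ≫ Curv2.bcFst k X K := by
    simp only [π, Spec.map_comp, Category.assoc]
    rw [Scheme.SpecMap_stalkSpecializes_fromSpecStalk, Scheme.SpecMap_stalkMap_fromSpecStalk]
  have hσdef : σ = toFF ≫ inv u := rfl
  clear_value π σ₀ σ
  have hleft : ∀ r : c.R, σ (r ⊗ₜ[k] (1 : K)) = π (σ₀ r) := by
    have h : CommRingCat.ofHom (algebraMap c.R (c.R ⊗[k] K)) ≫ σ = σ₀ ≫ π := by
      apply Spec.map_injective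
      rw [← cancel_mono c.emb, Spec.map_comp, Spec.map_comp, Category.assoc, Category.assoc, hσ₀, hπ,
        ← hσ, Category.assoc, GeomField.Chart.bcEmb_fst]
    exact fun r => congr($h r)
  have hsnd : c.bcEmb K ≫ Curv2.bcSnd k X K =
      Spec.map (CommRingCat.ofHom (Algebra.TensorProduct.includeRight.toRingHom : K →+* c.R ⊗[k] K)) := by
    simp only [GeomField.Chart.bcEmb, Category.assoc]
    rw [show pullback.snd c.emb (Curv2.bcFst k X K) ≫ Curv2.bcSnd k X K =
      pullback.snd c.emb (Curv2.bcFst k X K) ≫ pullback.snd _ _ from rfl,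
      pullbackRightPullbackFstIso_inv_snd_snd, pullback.congrHom_inv, pullback.lift_snd, Category.comp_id,
      pullbackSpecIso_inv_snd]
    rfl
  have hright : ∀ a : K, σ ((1 : c.R) ⊗ₜ[k] a) = algebraMap K (Curv2.bc k X K).functionField a := by
    have h : CommRingCat.ofHom (Algebra.TensorProduct.includeRight.toRingHom : K →+* c.R ⊗[k] K) ≫ σ =
        CurveLuroth.ffC ((Curv2.bc k X K) ↘ Spec (CommRingCat.of K)) := by
      apply Spec.map_injective
      rw [CurveLuroth.spec_ffC, Spec.map_comp, ← hsnd, ← Category.assoc, hσ]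
      rfl
    exact fun a => (congr($h a)).trans (ffC_eq a)
  refine ⟨π.hom, fun a => ?_, fun z => ?_⟩
  · rw [← ffC_eq, ← ffC_eq]
    have h : CurveLuroth.ffC (X ↘ Spec (CommRingCat.of k)) ≫ π = CommRingCat.ofHom (algebraMap k K) ≫
        CurveLuroth.ffC ((Curv2.bc k X K) ↘ Spec (CommRingCat.of K)) := by
      apply Spec.map_injective
      rw [Spec.map_comp, Spec.map_comp, CurveLuroth.spec_ffC, CurveLuroth.spec_ffC, reassoc_of% hπ, Category.assoc]
      exact congrArg _ (pullback.condition (f := X ↘ Spec (CommRingCat.of k)))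
    exact congr($h a)
  · letI : Algebra (c.R ⊗[k] K) (Spec (CommRingCat.of (c.R ⊗[k] K))).functionField := toFF.hom.toAlgebra
    haveI : IsFractionRing (c.R ⊗[k] K) (Spec (CommRingCat.of (c.R ⊗[k] K))).functionField :=
      functionField_isFractionRing_of_affine (CommRingCat.of (c.R ⊗[k] K))
    have hmem : ∀ r : c.R ⊗[k] K, σ r ∈
        Subring.closure (Set.range π.hom ∪ Set.range (algebraMap K (Curv2.bc k X K).functionField)) := by
      intro r
      induction r using TensorProduct.induction_on with
      | zero => rw [map_zero]; exact zero_mem _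
      | tmul a b =>
        rw [show a ⊗ₜ[k] b = (a ⊗ₜ[k] (1 : K)) * ((1 : c.R) ⊗ₜ[k] b) by simp]
        erw [map_mul, hleft, hright]
        exact mul_mem (Subring.subset_closure (Or.inl ⟨_, rfl⟩)) (Subring.subset_closure (Or.inr ⟨_, rfl⟩))
      | add a b ha hb => erw [map_add]; exact add_mem ha hb
    obtain ⟨n, d, -, hnd⟩ := IsFractionRing.div_surjective (A := c.R ⊗[k] K) (u.hom z)
    refine ⟨⟨σ n, hmem n⟩, ⟨σ d, hmem d⟩, ?_⟩
    show z = σ n / σ d
    rw [hσdef]
    have h := congrArg (inv u).hom hnd
    rw [map_div₀] at h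
    erw [ConcreteCategory.congr_hom (IsIso.hom_inv_id u) z] at h
    exact h.symm

end Groth.Agent.CurvFam16.BCFF
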