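import Groth.Agent.LS17.CoverPair
import Groth.Agent.CurveBC.Main
import Mathlib.AlgebraicGeometry.Sites.Fpqc

/-! Uniqueness of genus zero double covers over an arbitrary field. -/

noncomputable section

set_option linter.style.haveILetI false
set_option backward.isDefEq.respectTransparency false
set_option maxHeartbeats 1000000

universe u

open CategoryTheory CategoryTheory.Limits AlgebraicGeometry

namespace Groth.Agent.CurvFam16.DoubleCoverUniq

/-- Descent of a factorisation along a faithfully flat base extension. -/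
theorem exists_factor {S T : Scheme.{u}} (t : T ⟶ S) [Flat t] [Surjective t] [QuasiCompact t]
    {C P Q : Scheme.{u}} (c : C ⟶ S) (p : P ⟶ S) (q : Q ⟶ S)
    (f : C ⟶ P) (g : C ⟶ Q) [Flat f] [Surjective f] [QuasiCompact f]
    (hf : f ≫ p = c) (hg : g ≫ q = c)
    (e : pullback p t ⟶ pullback q t)
    (he : pullback.map c t p t f (𝟙 T) (𝟙 S) (by simp [hf]) (by simp) ≫ e =
      pullback.map c t q t g (𝟙 T) (𝟙 S) (by simp [hg]) (by simp)) :
    ∃ h : P ⟶ Q, f ≫ h = g ∧ h ≫ q = p := by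
  have key : ∀ {Z : Scheme.{u}} (a b : Z ⟶ C), a ≫ f = b ≫ f → a ≫ g = b ≫ g := by
    intro Z a b hab
    haveI : Epi (pullback.fst (a ≫ c) t) := inferInstance
    rw [← cancel_epi (pullback.fst (a ≫ c) t)]
    have hbc : a ≫ c = b ≫ c := by rw [← hf, reassoc_of% hab]
    let A : pullback (a ≫ c) t ⟶ pullback c t :=
      pullback.lift (pullback.fst _ _ ≫ a) (pullback.snd _ _) (by rw [Category.assoc, pullback.condition])
    let B : pullback (a ≫ c) t ⟶ pullback c t :=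
      pullback.lift (pullback.fst _ _ ≫ b) (pullback.snd _ _) (by rw [Category.assoc, ← hbc, pullback.condition])
    have h1 : A ≫ pullback.map c t p t f (𝟙 T) (𝟙 S) (by simp [hf]) (by simp) =
        B ≫ pullback.map c t p t f (𝟙 T) (𝟙 S) (by simp [hf]) (by simp) := by
      apply pullback.hom_ext <;> simp [A, B, pullback.map, hab]
    have h2 := congrArg (fun z => z ≫ pullback.fst q t)
      (congrArg (fun z => z ≫ e) h1)
    simp only [Category.assoc] at h2
    rw [reassoc_of% he] at h2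
    simpa [A, B, pullback.map] using h2
  refine ⟨EffectiveEpi.desc f g fun a b hab => key a b hab, EffectiveEpi.fac _ _ _, ?_⟩
  rw [← cancel_epi f, EffectiveEpi.fac_assoc, hg, hf]

variable (k : Type u) [Field k]

local notation "K" => AlgebraicClosure k
local notation "S₀" => Spec (CommRingCat.of k)
local notation "τ" => Spec.map (CommRingCat.ofHom (algebraMap k (AlgebraicClosure k)))

theorem unique {C P₁ P₂ : Scheme.{u}} (p : C ⟶ S₀) [IsProper p] [Smooth p] [GeometricallyConnected p]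
    (hC : topologicalKrullDim C = 1) (hg : 2 ≤ @Curv2.genus k _ C ⟨p⟩)
    (q₁ : P₁ ⟶ S₀) (q₂ : P₂ ⟶ S₀)
    [IsProper q₁] [Smooth q₁] [GeometricallyConnected q₁] (hP₁ : topologicalKrullDim P₁ = 1)
    (hg₁ : @Curv2.genus k _ P₁ ⟨q₁⟩ = 0)
    [IsProper q₂] [Smooth q₂] [GeometricallyConnected q₂] (hP₂ : topologicalKrullDim P₂ = 1)
    (hg₂ : @Curv2.genus k _ P₂ ⟨q₂⟩ = 0)
    (f₁ : C ⟶ P₁) (hf₁ : f₁ ≫ q₁ = p) [IsFinite f₁] [Flat f₁] (hr₁ : ∀ y : P₁, f₁.finrank y = 2)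
    (f₂ : C ⟶ P₂) (hf₂ : f₂ ≫ q₂ = p) [IsFinite f₂] [Flat f₂] (hr₂ : ∀ y : P₂, f₂.finrank y = 2) :
    ∃ e : P₁ ≅ P₂, e.hom ≫ q₂ = q₁ ∧ f₁ ≫ e.hom = f₂ := by
  letI : C.Over S₀ := ⟨p⟩
  letI : P₁.Over S₀ := ⟨q₁⟩
  letI : P₂.Over S₀ := ⟨q₂⟩
  haveI : IsProper (C ↘ S₀) := ‹IsProper p›
  haveI : IsProper (P₁ ↘ S₀) := ‹IsProper q₁›
  haveI : IsProper (P₂ ↘ S₀) := ‹IsProper q₂›
  haveI : Smooth (C ↘ S₀) := ‹Smooth p›
  haveI : Smooth (P₁ ↘ S₀) := ‹Smooth q₁›
  haveI : Smooth (P₂ ↘ S₀) := ‹Smooth q₂›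
  haveI : GeometricallyConnected (C ↘ S₀) := ‹GeometricallyConnected p›
  haveI : GeometricallyConnected (P₁ ↘ S₀) := ‹GeometricallyConnected q₁›
  haveI : GeometricallyConnected (P₂ ↘ S₀) := ‹GeometricallyConnected q₂›
  haveI := CurveBC.isIntegral_of_h0 k C (CurveBC.finrank_h0_of_geometricallyConnected k C)
  haveI := CurveBC.isIntegral_of_h0 k P₁ (CurveBC.finrank_h0_of_geometricallyConnected k P₁)
  haveI := CurveBC.isIntegral_of_h0 k P₂ (CurveBC.finrank_h0_of_geometricallyConnected k P₂)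
  haveI := LS17.surjective_of_rank f₁ one_le_two hr₁
  haveI := LS17.surjective_of_rank f₂ one_le_two hr₂
  haveI : Flat τ := GrpSchLib.flat_spec_map_field _
  haveI : Surjective τ := GrpSchLib.surjective_spec_map_field _
  letI : (pullback p τ).Over (Spec (CommRingCat.of K)) := ⟨pullback.snd _ _⟩
  letI : (pullback q₁ τ).Over (Spec (CommRingCat.of K)) := ⟨pullback.snd _ _⟩
  letI : (pullback q₂ τ).Over (Spec (CommRingCat.of K)) := ⟨pullback.snd _ _⟩
  have hpC : IsPullback (pullback.fst p τ) ((pullback p τ) ↘ Spec (CommRingCat.of K)) (C ↘ S₀) τ :=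
    IsPullback.of_hasPullback p τ
  have hp1 : IsPullback (pullback.fst q₁ τ) ((pullback q₁ τ) ↘ Spec (CommRingCat.of K)) (P₁ ↘ S₀) τ :=
    IsPullback.of_hasPullback q₁ τ
  have hp2 : IsPullback (pullback.fst q₂ τ) ((pullback q₂ τ) ↘ Spec (CommRingCat.of K)) (P₂ ↘ S₀) τ :=
    IsPullback.of_hasPullback q₂ τ
  haveI := CurveBC.isProper k K _ hpC
  haveI := CurveBC.isProper k K _ hp1
  haveI := CurveBC.isProper k K _ hp2
  haveI := CurveBC.smooth k K _ hpC
  haveI := CurveBC.smooth k K _ hp1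
  haveI := CurveBC.smooth k K _ hp2
  haveI := CurveBC.isIntegral k K _ hpC (CurveBC.finrank_h0_of_geometricallyConnected k C)
  haveI := CurveBC.isIntegral k K _ hp1 (CurveBC.finrank_h0_of_geometricallyConnected k P₁)
  haveI := CurveBC.isIntegral k K _ hp2 (CurveBC.finrank_h0_of_geometricallyConnected k P₂)
  haveI := quasiSeparatedSpace_of_quasiSeparated (C ↘ S₀)
  haveI := QuasiCompact.compactSpace_of_compactSpace (C ↘ S₀)
  haveI := quasiSeparatedSpace_of_quasiSeparated (P₁ ↘ S₀)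
  haveI := QuasiCompact.compactSpace_of_compactSpace (P₁ ↘ S₀)
  haveI := quasiSeparatedSpace_of_quasiSeparated (P₂ ↘ S₀)
  haveI := QuasiCompact.compactSpace_of_compactSpace (P₂ ↘ S₀)
  let F₁ : pullback p τ ⟶ pullback q₁ τ := pullback.map p τ q₁ τ f₁ (𝟙 _) (𝟙 _) (by simp [hf₁]) (by simp)
  let F₂ : pullback p τ ⟶ pullback q₂ τ := pullback.map p τ q₂ τ f₂ (𝟙 _) (𝟙 _) (by simp [hf₂]) (by simp)
  have hF₁ : F₁ ≫ ((pullback q₁ τ) ↘ Spec (CommRingCat.of K)) = (pullback p τ) ↘ Spec (CommRingCat.of K) :=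
    (pullback.lift_snd _ _ _).trans (Category.comp_id _)
  have hF₂ : F₂ ≫ ((pullback q₂ τ) ↘ Spec (CommRingCat.of K)) = (pullback p τ) ↘ Spec (CommRingCat.of K) :=
    (pullback.lift_snd _ _ _).trans (Category.comp_id _)
  have s₁ : IsPullback (pullback.fst p τ) F₁ f₁ (pullback.fst q₁ τ) :=
    IsPullback.of_bot (by
      rw [show F₁ ≫ pullback.snd q₁ τ = pullback.snd p τ from hF₁, hf₁]
      exact IsPullback.of_hasPullback p τ) (pullback.lift_fst _ _ _).symm (IsPullback.of_hasPullback q₁ τ)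
  have s₂ : IsPullback (pullback.fst p τ) F₂ f₂ (pullback.fst q₂ τ) :=
    IsPullback.of_bot (by
      rw [show F₂ ≫ pullback.snd q₂ τ = pullback.snd p τ from hF₂, hf₂]
      exact IsPullback.of_hasPullback p τ) (pullback.lift_fst _ _ _).symm (IsPullback.of_hasPullback q₂ τ)
  haveI : IsFinite F₁ := MorphismProperty.of_isPullback s₁ inferInstance
  haveI : Flat F₁ := MorphismProperty.of_isPullback s₁ inferInstance
  haveI : IsFinite F₂ := MorphismProperty.of_isPullback s₂ inferInstance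
  haveI : Flat F₂ := MorphismProperty.of_isPullback s₂ inferInstance
  have hR₁ : ∀ y, F₁.finrank y = 2 := fun y =>
    (Scheme.Hom.finrank_of_isPullback _ _ _ _ s₁ y).trans (hr₁ _)
  have hR₂ : ∀ y, F₂.finrank y = 2 := fun y =>
    (Scheme.Hom.finrank_of_isPullback _ _ _ _ s₂ y).trans (hr₂ _)
  have hex : ∃ e : pullback q₁ τ ≅ pullback q₂ τ,
      e.hom ≫ ((pullback q₂ τ) ↘ Spec (CommRingCat.of K)) = (pullback q₁ τ) ↘ Spec (CommRingCat.of K) ∧
        F₁ ≫ e.hom = F₂ := by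
    by_contra hne
    have hle := LS17.genus_le_of_two_covers K
      (CurveBC.topologicalKrullDim_eq k K _ hpC hC) (CurveBC.topologicalKrullDim_eq k K _ hp1 hP₁)
      (CurveBC.topologicalKrullDim_eq k K _ hp2 hP₂) F₁ hF₁ F₂ hF₂ hR₁ hR₂ hne
    have eC := CurveBC.genus_eq k K _ hpC
    have e1 := CurveBC.genus_eq k K _ hp1
    have e2 := CurveBC.genus_eq k K _ hp2
    rw [eC, e1, e2] at hle
    change @Curv2.genus k _ P₁ ⟨q₁⟩ = 0 at hg₁
    have h0 : (Curv2.genus k P₁ : ℕ) = 0 := hg₁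
    have h0' : (Curv2.genus k P₂ : ℕ) = 0 := hg₂
    have h2 : 2 ≤ Curv2.genus k C := hg
    omega
  obtain ⟨e, -, he⟩ := hex
  have he' : F₂ ≫ e.inv = F₁ := by rw [← he, Category.assoc, e.hom_inv_id, Category.comp_id]
  obtain ⟨h, hfh, hhq⟩ := exists_factor τ p q₁ q₂ f₁ f₂ hf₁ hf₂ e.hom he
  obtain ⟨h', hfh', -⟩ := exists_factor τ p q₂ q₁ f₂ f₁ hf₂ hf₁ e.inv he'
  exact ⟨⟨h, h', (cancel_epi f₁).1 (by rw [reassoc_of% hfh, hfh', Category.comp_id]),
    (cancel_epi f₂).1 (by rw [reassoc_of% hfh', hfh, Category.comp_id])⟩, hhq, hfh⟩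

end Groth.Agent.CurvFam16.DoubleCoverUniq
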