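import Groth.Agent.CurvFam16.FFHyp
import Groth.Agent.FFLib.Geometric
import Groth.Agent.FFLib.Rational
import Mathlib.Algebra.Polynomial.SpecificDegree

/-! A function field of genus one with infinitely many rational places has infinitely many automorphisms. -/

set_option linter.unusedSectionVars false
set_option linter.style.haveILetI false

open FunFld WithZero Polynomial IntermediateField

namespace Groth.Agent.CurvFam16.EllAutInf

open Groth.Agent.FFLib

variable {k K : Type*} [Field k] [Field K] [Algebra k K]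

/-- A separable quadratic extension has a nontrivial automorphism. -/
theorem exists_aut_ne {F L : Type*} [Field F] [Field L] [Algebra F L] (h2 : Module.finrank F L = 2)
    [Algebra.IsSeparable F L] :
    ∃ σ : L ≃ₐ[F] L, σ ≠ AlgEquiv.refl ∧ ∀ z : L, z * σ z ∈ Set.range (algebraMap F L) := by
  haveI : FiniteDimensional F L := Module.finite_of_finrank_eq_succ h2
  obtain ⟨y, hy⟩ : ∃ y, y ∉ Set.range (algebraMap F L) := by
    by_contra! h
    have : Module.finrank F L ≤ 1 := finrank_le_one (1 : L) fun z => by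
      obtain ⟨c, hc⟩ := h z
      exact ⟨c, by rw [← hc, Algebra.smul_def, mul_one]⟩
    omega
  obtain ⟨u, r, hru⟩ := FFHyp.exists_eq_add_mul h2 hy (y ^ 2)
  have hyy : y ^ 2 = algebraMap F L r * y + algebraMap F L u := hru.symm.trans (add_comm _ _)
  obtain ⟨σ, hσ⟩ := FFHyp.exists_conj_aut h2 hy hyy
  refine ⟨σ, fun h => ?_, fun z => ?_⟩
  · rw [h, AlgEquiv.coe_refl, id_eq] at hσ
    have hr : algebraMap F L r = 2 * y := by linear_combination -hσ
    rcases eq_or_ne (2 : L) 0 with h0 | h0
    · have hr0 : r = 0 := (algebraMap F L).injective (by rw [hr, h0, zero_mul, map_zero])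
      rw [hr0, map_zero, zero_mul, zero_add] at hyy
      have hF : (2 : F) = 0 := (algebraMap F L).injective (by rw [map_ofNat, h0, map_zero])
      have hint : IsIntegral F y := Algebra.IsIntegral.isIntegral y
      have hsep := Algebra.IsSeparable.isSeparable F y
      have hp : (X ^ 2 - C u : F[X]).Monic := monic_X_pow_sub_C u two_ne_zero
      have hroot : aeval y (X ^ 2 - C u : F[X]) = 0 := by simp [hyy]
      have hm : minpoly F y = X ^ 2 - C u := by
        refine (minpoly.eq_of_irreducible_of_monic (p := X ^ 2 - C u) ?_ hroot hp).symm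
        rw [irreducible_iff_roots_eq_zero_of_degree_le_three (by rw [natDegree_X_pow_sub_C])
          (by rw [natDegree_X_pow_sub_C]; norm_num)]
        refine Multiset.eq_zero_of_forall_notMem fun a ha => hy ?_
        rw [mem_roots hp.ne_zero, IsRoot, eval_sub, eval_pow, eval_X, eval_C, sub_eq_zero] at ha
        refine ⟨a, ?_⟩
        have hL : (algebraMap F L a - y) ^ 2 = 0 := by
          have hA : algebraMap F L a ^ 2 = algebraMap F L u := by rw [← map_pow, ha]
          linear_combination hA + hyy + (algebraMap F L u - algebraMap F L a * y) * h0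
        exact sub_eq_zero.1 (pow_eq_zero_iff two_ne_zero |>.1 hL)
      refine (separable_iff_derivative_ne_zero (minpoly.irreducible hint)).1 hsep ?_
      rw [hm, derivative_sub, derivative_C, sub_zero, derivative_X_pow, Nat.cast_ofNat, hF, C_0, zero_mul]
    · refine hy ⟨r / 2, ?_⟩
      rw [map_div₀, map_ofNat, hr, mul_div_assoc, mul_div_cancel₀ _ h0]
  · obtain ⟨a, b, rfl⟩ := FFHyp.exists_eq_add_mul h2 hy z
    refine ⟨a ^ 2 + a * b * r - b ^ 2 * u, ?_⟩
    rw [map_add σ, map_mul σ, σ.commutes, σ.commutes, hσ]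
    simp only [map_sub, map_add, map_mul, map_pow]
    linear_combination (algebraMap F L b) ^ 2 * hyy

/-- An element of `k(t)` has the same value at two simple poles of `t`. -/
theorem val_eq_of_mem {t : K} (ht : Transcendental k t) {P Q : Place k K} (hP : P.1 t = exp (1 : ℤ))
    (hQ : Q.1 t = exp (1 : ℤ)) {z : K} (hz : z ∈ k⟮t⟯) : P.1 z = Q.1 z := by
  obtain ⟨a, b, rfl⟩ := (mem_adjoin_simple_iff k z).1 hz
  have h : ∀ p : k[X], P.1 (aeval t p) = Q.1 (aeval t p) := fun p => by
    rcases eq_or_ne p 0 with rfl | hp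
    · simp
    · rw [FFHyp.val_aeval P one_pos hP hp, FFHyp.val_aeval Q one_pos hQ hp]
  rw [map_div₀, map_div₀, h, h]

/-- The involution attached to two places of genus one. -/
theorem exists_aut_swap [IsAlgClosed k] (hK : IsFunctionField k K)
    (hg : genus k K = 1)
    (hsep : ∀ t : K, Transcendental k t → Module.finrank k⟮t⟯ K = 2 → Algebra.IsSeparable k⟮t⟯ K)
    {P₀ P : Place k K} (hne : P ≠ P₀) :
    ∃ σ : K ≃ₐ[k] K, (P₀.1.comap (σ : K →+* K)) = P.1 := by
  classical
  let D : Divisor k K := Finsupp.single P₀ 1 + Finsupp.single P 1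
  have hd : D.deg = 2 := by
    rw [Divisor.deg_add, Divisor.deg_single, Divisor.deg_single, deg_eq_one hK.1, deg_eq_one hK.1]; rfl
  have hl : (ell D : ℤ) = 2 := by rw [ell_of_deg_gt hK (by rw [hd, hg]; norm_num), hd, hg]; rfl
  haveI := L_finite hK.1 D
  haveI := L_finite hK.1 (0 : Divisor k K)
  obtain ⟨t, htL, ht0⟩ : ∃ t, t ∈ L D ∧ t ∉ L (0 : Divisor k K) := by
    by_contra! h
    have := Submodule.finrank_mono (show L D ≤ L (0 : Divisor k K) from h)
    have h0 := ell_zero hK
    change Module.finrank k (L (0 : Divisor k K)) = 1 at h0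
    change ((Module.finrank k (L D) : ℕ) : ℤ) = 2 at hl
    omega
  have ht : Transcendental k t := transcendental_of_not_range hK fun ⟨c, hc⟩ => ht0 <| by
    subst hc
    exact mem_L.2 fun Q => by rw [Finsupp.coe_zero, Pi.zero_apply, exp_zero]; exact Q.2.1 c
  have ht' : t ≠ 0 := fun e => ht (e ▸ isAlgebraic_zero)
  have hle : (poles t : Divisor k K) ≤ D := fun Q => by
    rw [poles, Finsupp.mapRange_apply, div_apply hK.1]
    have h1 := mem_L.1 htL Q
    rw [val_le_exp_iff Q ht'] at h1
    have h2 : 0 ≤ D Q := by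
      simp only [D, Finsupp.add_apply, Finsupp.single_apply]
      split <;> split <;> norm_num
    omega
  have hfin : 2 ≤ Module.finrank k⟮t⟯ K := by
    haveI := IsFF.finite_adjoin hK.1 ht
    by_contra hlt
    have hpos : 0 < Module.finrank k⟮t⟯ K := Module.finrank_pos
    have := (genus_eq_zero_of_adjoin hK (adjoin_eq_top_iff.2 (show Module.finrank k⟮t⟯ K = 1 by omega))).1
    omega
  have hdeg := deg_poles hK.1 ht
  have hpo : (poles t : Divisor k K) = D := by
    refine deg_eq_of_le hK.1 hle ?_
    rw [hdeg, hd]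
    exact_mod_cast hfin
  have h2 : Module.finrank k⟮t⟯ K = 2 := by rw [hpo, hd] at hdeg; exact_mod_cast hdeg.symm
  have hval : ∀ Q, (Q = P₀ ∨ Q = P) → Q.1 t = exp (1 : ℤ) := fun Q hQ => by
    have hDQ : D Q = 1 := by
      rcases hQ with rfl | rfl <;> simp [D, Finsupp.single_apply, hne, Ne.symm hne]
    have := congrArg (fun E : Divisor k K => E Q) hpo
    simp only [poles, Finsupp.mapRange_apply, div_apply hK.1, hDQ] at this
    rw [val_eq_exp Q ht']
    congr 1
    omega
  haveI := hsep t ht h2
  obtain ⟨σ, -, hσn⟩ := exists_aut_ne (F := k⟮t⟯) (L := K) h2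
  have hσt : σ t = t := σ.commutes ⟨t, mem_adjoin_simple_self k t⟩
  let σ' : K ≃ₐ[k] K := σ.restrictScalars k
  refine ⟨σ', ?_⟩
  have hsurj : ∀ R : Place k K, Function.Surjective (R.1.comap (σ' : K →+* K)) := fun R g => by
    obtain ⟨x, hx⟩ := R.2.2 g
    exact ⟨σ'.symm x, by show R.1 (σ' (σ'.symm x)) = g; rw [σ'.apply_symm_apply, hx]⟩
  let cm : Place k K → Place k K := fun R => ⟨R.1.comap (σ' : K →+* K),
    fun c => by show R.1 (σ' (algebraMap k K c)) ≤ 1; rw [σ'.commutes]; exact R.2.1 c, hsurj R⟩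
  have hcases : ∀ R, (R = P₀ ∨ R = P) → cm R = P₀ ∨ cm R = P := fun R hR => by
    have h1 : (cm R).1 t = exp (1 : ℤ) := by
      show R.1 (σ t) = _
      rw [hσt]; exact hval R hR
    by_contra hno
    rw [not_or] at hno
    have h0 : (poles t : Divisor k K) (cm R) = 0 := by
      rw [hpo]; simp [D, Finsupp.single_apply, Ne.symm hno.1, Ne.symm hno.2]
    simp only [poles, Finsupp.mapRange_apply, div_apply hK.1] at h0
    have := (val_eq_exp (cm R) ht').symm.trans h1
    rw [exp_inj] at this
    omega
  rcases hcases P₀ (Or.inl rfl) with h0 | h0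
  swap
  · exact congrArg Subtype.val h0
  exfalso
  have hinj : ∀ R R' : Place k K, cm R = cm R' → R = R' := fun R R' h => Subtype.ext (Valuation.ext fun x => by
    have := congrArg (fun S : Place k K => S.1 (σ'.symm x)) h
    simpa [cm] using this)
  have hP : cm P = P := (hcases P (Or.inr rfl)).resolve_left fun h => hne (hinj _ _ (h.trans h0.symm))
  obtain ⟨z, hz1, hz2⟩ := exists_sep_two (P := P₀) (Q := P) hne
  obtain ⟨c, hc⟩ := hσn z
  have h := val_eq_of_mem ht (hval P₀ (Or.inl rfl)) (hval P (Or.inr rfl)) (z := algebraMap k⟮t⟯ K c) c.2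
  rw [hc, map_mul, map_mul, show P₀.1 (σ z) = P₀.1 z from congrArg (fun S : Place k K => S.1 z) h0,
    show P.1 (σ z) = P.1 z from congrArg (fun S : Place k K => S.1 z) hP] at h
  exact (((mul_lt_one_of_lt_of_le hz1 hz1.le).trans (one_lt_mul'' hz2 hz2)).ne) h

end Groth.Agent.CurvFam16.EllAutInf
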