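import Groth.Agent.CurvFam16.FFTrace

/-! The different of a separable extension of arbitrary function fields, through the cotrace. -/

set_option linter.style.haveILetI false
set_option linter.unusedSectionVars false

namespace Groth.Agent.CurvFam16.FFDiff

open FunFld WithZero IntermediateField
open Groth.Agent.FFLib
open Groth.Agent.CurvFam16.FFTrace

universe u v

variable {k k' : Type u} {K K' : Type v} [Field k] [Field k'] [Field K] [Field K'] [Algebra k K] [Algebra k k']
  [Algebra k' K'] [Algebra k K'] [IsScalarTower k k' K'] [Algebra K K'] [IsScalarTower k K K']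
  [FiniteDimensional k k'] [FiniteDimensional K K'] [Algebra.IsSeparable K K']

/-- The bounds `m` at the places over `P` have integral traces. -/
def TraceBound (P : Place k K) (m : Place k K' → ℤ) : Prop :=
  ∀ z : K', (∀ Q, IsOver Q P → Q.1 z ≤ exp (m Q)) → P.1 (Algebra.trace K K' z) ≤ 1

/-- `b` is a trace of the repartition `a` with respect to the bound `C`. -/
def IsTr (C : Divisor k K) (a : Place k' K' → K') (b : Place k K → K) : Prop :=
  ∀ P, ∃ z : K', b P = Algebra.trace K K' z ∧
    ∀ (Q : Place k' K') (e : ℕ), IsOverWith (placeEquiv (k := k) Q) P e → Q.1 (z - a Q) ≤ exp ((e : ℤ) * C P)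

theorem IsTr.add {C : Divisor k K} {a a' : Place k' K' → K'} {b b' : Place k K → K}
    (h : IsTr C a b) (h' : IsTr C a' b') : IsTr C (a + a') (b + b') := fun P => by
  obtain ⟨z, hz, hz'⟩ := h P
  obtain ⟨w, hw, hw'⟩ := h' P
  refine ⟨z + w, by rw [Pi.add_apply, map_add, hz, hw], fun Q e he => ?_⟩
  rw [Pi.add_apply, add_sub_add_comm]
  exact (Q.1.map_add _ _).trans (max_le (hz' Q e he) (hw' Q e he))

theorem IsTr.smul {C : Divisor k K} {a : Place k' K' → K'} {b : Place k K → K} (c : k)
    (h : IsTr C a b) : IsTr C (c • a) (c • b) := fun P => by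
  obtain ⟨z, hz, hz'⟩ := h P
  refine ⟨c • z, by rw [Pi.smul_apply, hz, ← LinearMap.map_smul_of_tower], fun Q e he => ?_⟩
  rw [Pi.smul_apply, ← smul_sub, Algebra.smul_def, map_mul, IsScalarTower.algebraMap_apply k k' K']
  exact (mul_le_of_le_one_left' (Q.2.1 _)).trans (hz' Q e he)

theorem IsTr.sub_mem_AD (hF : IsFF k K) {C : Divisor k K} {a : Place k' K' → K'} {b b' : Place k K → K}
    (h : IsTr C a b) (h' : IsTr C a b') : b - b' ∈ AD C := fun P => by
  obtain ⟨z, hz, hz'⟩ := h P
  obtain ⟨w, hw, hw'⟩ := h' P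
  rw [Pi.sub_apply, hz, hw, ← map_sub]
  refine trace_le_exp hF P _ fun Q e he => ?_
  obtain ⟨Q', rfl⟩ := (placeEquiv (k := k) (k' := k') (K' := K')).surjective Q
  rw [placeEquiv_val, ← sub_sub_sub_cancel_right z w (a Q')]
  exact (Valuation.map_sub _ _ _).trans (max_le (hz' Q' e he) (hw' Q' e he))

variable (k') in
theorem finite_fibres (hF : IsFF k K) {T : Set (Place k K)} (hT : T.Finite) :
    {Q : Place k' K' | ∃ P ∈ T, IsOver (placeEquiv (k := k) Q) P}.Finite :=
  ((hT.biUnion fun P _ => over_finite (K' := K') hF P).preimage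
    ((placeEquiv (k := k) (k' := k') (K' := K')).injective.injOn)).subset fun _ ⟨_, hP, h⟩ =>
      Set.mem_biUnion hP h

/-- Traces of repartitions exist. -/
theorem exists_isTr (hF : IsFF k K) (C : Divisor k K) (a : adele k' K') :
    ∃ b : adele k K, IsTr C a.1 b.1 := by
  classical
  have happrox : ∀ P : Place k K, ∃ z : K', ∀ (Q : Place k' K') (e : ℕ),
      IsOverWith (placeEquiv (k := k) Q) P e → Q.1 (z - a.1 Q) ≤ exp ((e : ℤ) * C P) := fun P => by
    let S : Finset (Place k' K') :=
      (finite_fibres k' (K' := K') hF (Set.finite_singleton P)).toFinset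
    obtain ⟨z, hz⟩ := exists_approx S a.1 fun Q => -((ramIdx (placeEquiv (k := k) Q) P : ℤ) * C P)
    refine ⟨z, fun Q e he => ?_⟩
    have h := hz Q ((Set.Finite.mem_toFinset _).2 ⟨P, rfl, ⟨e, he⟩⟩)
    rwa [ramIdx_eq hF he, neg_neg] at h
  choose z hz using happrox
  let w : Place k K → K' := fun P =>
    if C P = 0 ∧ ∀ Q : Place k' K', IsOver (placeEquiv (k := k) Q) P → Q.1 (a.1 Q) ≤ 1 then 0 else z P
  have hw : (fun P => Algebra.trace K K' (w P)) ∈ adele k K := by
    show ∀ᶠ P : Place k K in Filter.cofinite, P.1 (Algebra.trace K K' (w P)) ≤ 1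
    rw [Filter.eventually_cofinite]
    have hafin : {Q : Place k' K' | ¬ Q.1 (a.1 Q) ≤ 1}.Finite := Filter.eventually_cofinite.1 a.2
    have hbelow : ∀ Q : Place k' K', ∃ P : Place k K, IsOver (placeEquiv (k := k) Q) P := fun Q => by
      obtain ⟨P, e, -, he⟩ := exists_over hF (placeEquiv (k := k) Q)
      exact ⟨P, e, he⟩
    choose below hb using hbelow
    refine ((C.support.finite_toSet).union (hafin.image below)).subset fun P hP => ?_
    by_contra hn
    rw [Set.mem_union, not_or, Finset.mem_coe, Finsupp.mem_support_iff, not_not] at hn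
    refine hP ?_
    simp only [w]
    have hint : ∀ Q : Place k' K', IsOver (placeEquiv (k := k) Q) P → Q.1 (a.1 Q) ≤ 1 := fun Q hQ =>
      not_not.1 fun hbad => by
        obtain ⟨e, he⟩ := hQ
        obtain ⟨e', he'⟩ := hb Q
        exact hn.2 ⟨Q, hbad, (over_unique hF he' he).1⟩
    rw [if_pos ⟨hn.1, hint⟩, map_zero, map_zero]
    exact zero_le
  refine ⟨⟨_, hw⟩, fun P => ⟨w P, rfl, fun Q e he => ?_⟩⟩
  simp only [w]
  split_ifs with h
  · rw [h.1, mul_zero, exp_zero, zero_sub, Valuation.map_neg]
    exact h.2 Q ⟨e, he⟩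
  · exact hz P Q e he

/-- The cotrace of a Weil differential. -/
theorem exists_cotrace (hF : IsFF k K) {ω : Module.Dual k (adele k K)} {C : Divisor k K} (hC : ω ∈ WD C) :
    ∃ lam : adele k' K' →ₗ[k] k, ∀ a b, IsTr C a.1 b.1 → lam a = ω b := by
  choose tr htr using fun a : adele k' K' => exists_isTr hF C a
  have huniq : ∀ (a : adele k' K') (b : adele k K), IsTr C a.1 b.1 → ω (tr a) = ω b := fun a b hb => by
    rw [← sub_eq_zero, ← map_sub]
    exact mem_WD.mp hC _ (Submodule.mem_sup_left (IsTr.sub_mem_AD hF (htr a) hb))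
  refine ⟨{ toFun := fun a => ω (tr a), map_add' := fun a a' => ?_, map_smul' := fun c a => ?_ }, huniq⟩
  · rw [← map_add]
    exact huniq _ _ ((htr a).add (htr a'))
  · rw [RingHom.id_apply, ← map_smul]
    exact huniq _ _ ((htr a).smul c)

/-- A linear form over the small field is a linear form over the big one followed by a fixed one. -/
theorem exists_dual_lift {V : Type*} [AddCommGroup V] [Module k' V] [Module k V] [IsScalarTower k k' V]
    {s : k' →ₗ[k] k} (hs : s ≠ 0) (f : V →ₗ[k] k) :
    ∃ η : V →ₗ[k'] k', ∀ v, s (η v) = f v := by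
  let μ : k' →ₗ[k] Module.Dual k k' := LinearMap.llcomp k k' k' k s ∘ₗ LinearMap.mul k k'
  have hμ : ∀ a b, μ a b = s (a * b) := fun _ _ => rfl
  have hinj : Function.Injective μ := (injective_iff_map_eq_zero μ).2 fun a ha => by
    by_contra ha0
    refine hs (LinearMap.ext fun c => ?_)
    have := LinearMap.congr_fun ha (a⁻¹ * c)
    rwa [hμ, mul_inv_cancel_left₀ ha0] at this
  let μe := LinearEquiv.ofBijective μ
    ⟨hinj, (LinearMap.injective_iff_surjective_of_finrank_eq_finrank (Subspace.dual_finrank_eq).symm).1 hinj⟩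
  let g : V → Module.Dual k k' := fun v => f ∘ₗ (LinearMap.toSpanSingleton k' V v).restrictScalars k
  have hg : ∀ v c, g v c = f (c • v) := fun _ _ => rfl
  have hηc : ∀ v c, s (μe.symm (g v) * c) = f (c • v) := fun v c => by
    rw [← hμ, show μ (μe.symm (g v)) = g v from μe.apply_symm_apply (g v), hg]
  have hadd : ∀ v w, μe.symm (g (v + w)) = μe.symm (g v) + μe.symm (g w) := fun v w => hinj (LinearMap.ext fun c => by
    rw [map_add, LinearMap.add_apply, hμ, hμ, hμ, hηc, hηc, hηc, smul_add, map_add])
  refine ⟨{ toFun := fun v => μe.symm (g v), map_add' := hadd, map_smul' := fun c v => hinj (LinearMap.ext fun d => ?_) },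
    fun v => ?_⟩
  · rw [hμ, hμ, hηc, RingHom.id_apply, smul_eq_mul, show c * μe.symm (g v) * d = μe.symm (g v) * (d * c) by ring,
      hηc, smul_smul]
  · have := hηc v 1
    rwa [mul_one, one_smul] at this

theorem trace_le_exp_of_bound (P : Place k K) (n : ℤ) {m : Place k K' → ℤ} (hm : TraceBound P m) {z : K'}
    (hz : ∀ (Q : Place k K') (e : ℕ), IsOverWith Q P e → Q.1 z ≤ exp ((e : ℤ) * n + m Q)) :
    P.1 (Algebra.trace K K' z) ≤ exp n := by
  obtain ⟨t, ht0, ht⟩ := exists_val_eq_exp P n
  have h := hm ((algebraMap K K' t)⁻¹ * z) fun Q hQ => by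
    obtain ⟨e, he⟩ := hQ
    rw [map_mul, map_inv₀, he t, ht, ← exp_nsmul, inv_mul_le_iff₀ (zero_lt_iff.mpr exp_ne_zero), ← exp_add,
      nsmul_eq_mul]
    exact hz Q e he
  rw [← map_inv₀, ← Algebra.smul_def, map_smul, smul_eq_mul, map_mul, map_inv₀, ht,
    inv_mul_le_iff₀ (zero_lt_iff.mpr exp_ne_zero), mul_one] at h
  exact h

/-- Evaluation of a sum of point masses. -/
theorem sum_single_apply {ι : Type*} [DecidableEq ι] (S : Finset ι) (m : ι → ℤ) (i : ι) :
    (∑ j ∈ S, Finsupp.single j (m j)) i = if i ∈ S then m i else 0 := by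
  rw [Finsupp.finsetSum_apply]
  simp [Finsupp.single_apply]

variable (k') in
/-- The different, and the Riemann-Hurwitz formula. -/
theorem exists_different (hK : IsFunctionField k K) (hK' : IsFunctionField k' K') :
    ∃ D : Divisor k K',
      (∀ (P : Place k K) (m : Place k K' → ℤ), TraceBound P m ↔ ∀ Q, IsOver Q P → m Q ≤ D Q) ∧
      (Module.finrank k k' : ℤ) * (2 * (genus k' K' : ℤ) - 2) =
        (Module.finrank K K' : ℤ) * (2 * (genus k K : ℤ) - 2) + D.deg := by
  classical
  have hF := hK.1
  obtain ⟨ω, hω, h0⟩ := exists_weil_ne_zero hK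
  obtain ⟨C, hC⟩ := exists_isDivOf hK hω h0
  obtain ⟨lam, hlam⟩ := exists_cotrace (k' := k') (K' := K') hF ((hC C).2 le_rfl)
  obtain ⟨s, hs⟩ : ∃ s : k' →ₗ[k] k, s ≠ 0 := by
    obtain ⟨s, hs⟩ := Module.Projective.exists_dual_ne_zero k (one_ne_zero (α := k'))
    exact ⟨s, fun h => hs (by rw [h]; rfl)⟩
  obtain ⟨η, hη⟩ := exists_dual_lift (V := adele k' K') hs lam
  let G : Divisor k K' := conorm K' C
  have hG : ∀ {Q : Place k K'} {P : Place k K} {e : ℕ}, IsOverWith Q P e → G Q = e * C P :=
    fun h => conorm_apply hF C h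
  -- bounds with integral traces give subspaces killed by the cotrace
  have key1 : ∀ E : Divisor k K', (∀ P : Place k K, TraceBound P (fun Q : Place k K' => E Q - G Q)) →
      η ∈ WD (upDiv (k' := k') E) := by
    intro E hE
    refine mem_WD.mpr fun a ha => ?_
    obtain ⟨u, hu, _, ⟨x, rfl⟩, hux⟩ := Submodule.mem_sup.mp ha
    have hlam0 : ∀ c : k', lam (c • a) = 0 := fun c => by
      obtain ⟨b, hb⟩ := exists_isTr hF C (c • a)
      rw [hlam _ _ hb]
      refine mem_WD.mp ((hC C).2 le_rfl) b (Submodule.mem_sup.mpr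
        ⟨b.1 - diag k K (Algebra.trace K K' (c • x)), ?_, _, ⟨_, rfl⟩, sub_add_cancel _ _⟩)
      intro P
      obtain ⟨z, hz, hz'⟩ := hb P
      rw [Pi.sub_apply, diag_apply, hz, ← map_sub]
      -- split `z - c x` into a part small over `C` and a part in the bound
      let S : Finset (Place k' K') := (finite_fibres k' (K' := K') hF (Set.finite_singleton P)).toFinset
      obtain ⟨w, hw⟩ := exists_approx S (fun Q => c • u Q)
        (fun Q => -(min ((ramIdx (placeEquiv (k := k) Q) P : ℤ) * C P) (E (placeEquiv Q))))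
      have hcu : ∀ Q : Place k' K', Q.1 (c • u Q) ≤ exp (E (placeEquiv Q)) := fun Q => by
        rw [← upDiv_apply (k' := k') E Q]
        exact (upDiv (k' := k') E |> AD).smul_mem c hu Q
      rw [show z - c • x = (z - c • x - w) + w by ring, map_add]
      refine (P.1.map_add _ _).trans (max_le ?_ ?_)
      · refine trace_le_exp hF P _ fun Q e he => ?_
        obtain ⟨Q', rfl⟩ := (placeEquiv (k := k) (k' := k') (K' := K')).surjective Q
        have h1 := hz' Q' e he
        have h2 := hw Q' ((Set.Finite.mem_toFinset _).2 ⟨P, rfl, ⟨e, he⟩⟩)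
        rw [ramIdx_eq hF he, neg_neg] at h2
        have hca : (c • a).1 Q' = c • u Q' + c • x := by
          show c • a.1 Q' = _
          rw [← smul_add]
          exact congrArg (c • ·) (congrFun hux Q').symm
        rw [hca] at h1
        rw [placeEquiv_val, show z - c • x - w = (z - (c • u Q' + c • x)) - (w - c • u Q') by ring]
        exact (Valuation.map_sub _ _ _).trans (max_le h1 (h2.trans (exp_le_exp.2 (min_le_left _ _))))
      · refine trace_le_exp_of_bound P _ (hE P) fun Q e he => ?_
        obtain ⟨Q', rfl⟩ := (placeEquiv (k := k) (k' := k') (K' := K')).surjective Q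
        have h2 := hw Q' ((Set.Finite.mem_toFinset _).2 ⟨P, rfl, ⟨e, he⟩⟩)
        rw [neg_neg] at h2
        rw [hG he, add_sub_cancel, placeEquiv_val, show w = (w - c • u Q') + c • u Q' by ring]
        exact (Q'.1.map_add _ _).trans (max_le (h2.trans (exp_le_exp.2 (min_le_right _ _))) (hcu Q'))
    by_contra hne
    refine hs (LinearMap.ext fun d => ?_)
    have hd := hη ((d * (η a)⁻¹) • a)
    rw [map_smul, smul_eq_mul, inv_mul_cancel_right₀ hne, hlam0] at hd
    exact hd
  -- the cotrace detects the traces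
  have key2 : ∀ E : Divisor k K', η ∈ WD (upDiv (k' := k') E) → ∀ P : Place k K, TraceBound P (fun Q : Place k K' => E Q - G Q) := by
    intro E hE P z hz
    by_contra hgt
    rw [not_le] at hgt
    refine absurd ((hC (C + Finsupp.single P 1)).1 ?_) (fun hle => by
      have := hle P
      simp at this)
    refine mem_WD.mpr fun c hc => ?_
    obtain ⟨u, hu, x, hx, hux⟩ := Submodule.mem_sup.mp hc
    obtain ⟨t, ht0, ht⟩ := exists_val_eq_exp P (C P)
    set τ := Algebra.trace K K' z
    have hτ0 : τ ≠ 0 := fun h => by rw [h, map_zero] at hgt; exact not_lt_zero hgt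
    let y := u P / (t * τ)
    have hy : P.1 y ≤ 1 := by
      have hu' := hu P
      rw [Finsupp.add_apply, Finsupp.single_eq_same, exp_add] at hu'
      rw [map_div₀, map_mul, ht, div_le_one₀ (by
        rw [zero_lt_iff]; exact mul_ne_zero exp_ne_zero (val_ne_zero P hτ0))]
      refine hu'.trans (mul_le_mul_right ?_ _)
      rw [val_eq_exp P hτ0] at hgt ⊢
      rw [← exp_zero, exp_lt_exp] at hgt
      exact exp_le_exp.2 (by omega)
    let a : Place k' K' → K' := fun Q =>
      if IsOver (placeEquiv (k := k) Q) P then algebraMap K K' (t * y) * z else 0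
    have ha : a ∈ AD (upDiv (k' := k') E) := fun Q => by
      simp only [a]
      split_ifs with h
      · obtain ⟨e, he⟩ := id h
        rw [upDiv_apply, map_mul, ← placeEquiv_val (k := k) Q, he, map_mul, ht]
        refine (mul_le_mul' (pow_le_pow_left' (mul_le_of_le_one_right' hy) e) (hz _ h)).trans ?_
        simp only []
        rw [← exp_nsmul, ← exp_add, hG he, nsmul_eq_mul, add_sub_cancel]
      · rw [map_zero]; exact zero_le
    let av : adele k' K' := ⟨a, AD_le_adele _ ha⟩
    let bf : Place k K → K := fun P' => if P' = P then u P else 0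
    have hbf : bf ∈ adele k K := by
      show ∀ᶠ P' : Place k K in Filter.cofinite, P'.1 (bf P') ≤ 1
      rw [Filter.eventually_cofinite]
      refine (Set.finite_singleton P).subset fun P' h => ?_
      by_contra hne
      exact h (by simp only [bf, if_neg (show P' ≠ P from hne), map_zero]; exact zero_le)
    have hb : IsTr C av.1 bf := fun P' => by
      rcases eq_or_ne P' P with rfl | hne
      · refine ⟨algebraMap K K' (t * y) * z, ?_, fun Q e he => ?_⟩
        · simp only [bf, if_pos]
          rw [← Algebra.smul_def, map_smul, smul_eq_mul]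
          simp only [y]
          field_simp
          rfl
        · show Q.1 (_ - a Q) ≤ _
          simp only [a]
          rw [if_pos ⟨e, he⟩, sub_self, map_zero]
          exact zero_le
      · refine ⟨0, by simp only [bf, if_neg hne, map_zero], fun Q e he => ?_⟩
        show Q.1 (_ - a Q) ≤ _
        simp only [a]
        rw [if_neg fun ⟨e', he'⟩ => hne (over_unique hF he he').1, sub_zero, map_zero]
        exact zero_le
    have h1 := hlam av ⟨bf, hbf⟩ hb
    rw [← hη av, mem_WD.mp hE av (Submodule.mem_sup_left ha), map_zero] at h1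
    have h2 : ω (c - ⟨bf, hbf⟩) = 0 := by
      refine mem_WD.mp ((hC C).2 le_rfl) _ (Submodule.mem_sup.mpr ⟨u - bf, fun P' => ?_, x, hx, ?_⟩)
      · rcases eq_or_ne P' P with rfl | hne
        · simp [bf]
        · have := hu P'
          rw [Finsupp.add_apply, Finsupp.single_eq_of_ne hne, add_zero] at this
          simpa [bf, hne] using this
      · show u - bf + x = c.1 - bf
        rw [← hux]; abel
    rwa [map_sub, ← h1, sub_zero] at h2
  have hη0 : η ≠ 0 := fun h => by
    obtain ⟨θ, hθ⟩ := Algebra.trace_surjective K K' 1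
    have htr : ∀ E : Divisor k K', ∀ P : Place k K, TraceBound P (fun Q : Place k K' => E Q - G Q) := fun E =>
      key2 E (h ▸ zero_mem _)
    obtain ⟨P⟩ := exists_place hF
    obtain ⟨t, ht0, ht⟩ := exists_val_eq_exp P (1 : ℤ)
    let E : Divisor k K' := G + ∑ Q ∈ (over_finite (K' := K') hF P).toFinset,
      Finsupp.single Q (-Q.ord (algebraMap K K' t * θ))
    have := htr E P (algebraMap K K' t * θ) fun Q hQ => by
      have hne : algebraMap K K' t * θ ≠ 0 := mul_ne_zero ((map_ne_zero _).2 ht0)
        (fun h => one_ne_zero (α := K) (by rw [← hθ, h, map_zero]))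
      simp only [E, Finsupp.add_apply, add_sub_cancel_left, sum_single_apply]
      rw [if_pos (show Q ∈ (over_finite (K' := K') hF P).toFinset from (Set.Finite.mem_toFinset _).2 hQ), val_eq_exp Q hne]
    rw [← Algebra.smul_def, map_smul, hθ, smul_eq_mul, mul_one, ht, ← exp_zero, exp_le_exp] at this
    omega
  obtain ⟨C', hC'⟩ := exists_isDivOf hK' ⟨upDiv (k' := k') G, key1 G fun P => by
    intro z hz
    exact trace_le_one hF P fun Q hQ => by simpa using hz Q hQ⟩ hη0
  let ρ := placeEquiv (k := k) (k' := k') (K' := K')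
  let C₀ : Divisor k K' := Finsupp.equivMapDomain ρ C'
  have hC₀ : ∀ E : Divisor k K', (∀ P : Place k K, TraceBound P (fun Q : Place k K' => E Q - G Q)) ↔ E ≤ C₀ := fun E => by
    refine (Iff.intro (key1 E) (fun h P => key2 E h P)).trans ((hC' _).trans ⟨fun h Q => ?_, fun h Q => ?_⟩)
    · have := h (ρ.symm Q)
      rw [upDiv_apply] at this
      simpa [C₀, Finsupp.equivMapDomain_apply, ρ] using this
    · rw [upDiv_apply]
      simpa [C₀, Finsupp.equivMapDomain_apply, ρ] using h (ρ Q)
  refine ⟨C₀ - G, fun P m => ⟨fun hm Q hQ => ?_, fun hle z hz => ?_⟩, ?_⟩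
  · let E : Divisor k K' := G + ∑ R ∈ (over_finite (K' := K') hF P).toFinset, Finsupp.single R (m R)
    have hval : ∀ R, E R - G R = if IsOver R P then m R else 0 := fun R => by
      simp only [E, Finsupp.add_apply, add_sub_cancel_left, sum_single_apply, Set.Finite.mem_toFinset]
      rfl
    have h := (hC₀ E).1 (fun P' z hz => by
      by_cases hP : P' = P
      · subst hP
        exact hm z fun R hR => by simpa [hval, if_pos hR] using hz R hR
      · exact trace_le_one hF P' fun R hR => by
          have : R.1 z ≤ exp (E R - G R) := hz R hR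
          rw [hval, if_neg fun h => hP ?_, exp_zero] at this
          · exact this
          · obtain ⟨e, he⟩ := hR
            obtain ⟨e', he'⟩ := h
            exact (over_unique hF he he').1) Q
    have h' := hval Q
    rw [if_pos hQ] at h'
    rw [Finsupp.sub_apply]
    omega
  · exact (hC₀ C₀).2 le_rfl P z fun Q hQ => (hz Q hQ).trans (exp_le_exp.2 (by
      have := hle Q hQ; rwa [Finsupp.sub_apply] at this))
  · have h1 := deg_upDiv (k' := k') C₀
    have hup : upDiv (k' := k') C₀ = C' := Finsupp.ext fun Q => by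
      rw [upDiv_apply]; simp [C₀, Finsupp.equivMapDomain_apply, ρ]
    rw [hup, deg_canonical hK' ⟨η, hη0, hC'⟩] at h1
    rw [Divisor.deg_sub, ← h1, deg_conorm hF, deg_canonical hK ⟨ω, h0, hC⟩]
    ring

end Groth.Agent.CurvFam16.FFDiff
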