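import Groth.Agent.CurvFam16.FFDiff
import Groth.Agent.FFLib.Trace.IntegralBasis
import Mathlib.RingTheory.Trace.Basic

/-! The different exponent is at least `e - 1`, with equality exactly at tame places. -/

set_option linter.style.haveILetI false
set_option linter.unusedSectionVars false

namespace Groth.Agent.CurvFam16.FFDiff

open FunFld WithZero
open Groth.Agent.FFLib

universe u v

variable {k : Type u} {K K' : Type v} [Field k] [Field K] [Field K'] [Algebra k K] [Algebra K K']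
  [Algebra k K'] [IsScalarTower k K K'] [FiniteDimensional K K']

/-- The data of a layered integral basis over `P`. -/
structure Layers (P : Place k K) (Qs : Finset (Place k K')) (f : Qs → ℕ) (a : ∀ R : Qs, Fin (f R) → K')
    (t : Qs → K') (B : Module.Basis (Σ R : Qs, Fin (ramIdx R.1 P) × Fin (f R)) K K') : Prop where
  hover : ∀ Q, Q ∈ Qs ↔ IsOver Q P
  res : ∀ R : Qs, f R * P.deg = R.1.deg ∧ R.1.1 (t R) = exp (-1 : ℤ) ∧ (∀ j, R.1.1 (a R j) ≤ 1) ∧
    ∀ c : Fin (f R) → K, (∀ j, P.1 (c j) ≤ 1) → R.1.1 (∑ j, algebraMap K K' (c j) * a R j) < 1 →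
      ∀ j, P.1 (c j) < 1
  near : ∀ (R : Qs) (p : Fin (ramIdx R.1 P) × Fin (f R)),
    R.1.1 (B ⟨R, p⟩ - a R p.2 * t R ^ (p.1 : ℕ)) ≤ exp (-((ramIdx R.1 P : ℕ) : ℤ)) ∧
      ∀ S : Qs, S ≠ R → S.1.1 (B ⟨R, p⟩) ≤ exp (-((ramIdx S.1 P : ℕ) : ℤ))
  int : ∀ z : K', (∀ R ∈ Qs, R.1 z ≤ 1) ↔ ∀ i, P.1 (B.repr z i) ≤ 1

theorem exists_layers (hF : IsFF k K) (P : Place k K) :
    ∃ (Qs : Finset (Place k K')) (f : Qs → ℕ) (a : ∀ R : Qs, Fin (f R) → K') (t : Qs → K')
      (B : Module.Basis (Σ R : Qs, Fin (ramIdx R.1 P) × Fin (f R)) K K'), Layers P Qs f a t B := by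
  classical
  have hQs : ∀ R, R ∈ (over_finite (K' := K') hF P).toFinset ↔ IsOver R P := fun R => Set.Finite.mem_toFinset _
  obtain ⟨f, a, t, B, h1, h2, h3, -⟩ := exists_layered_basis hF P _ hQs 0
  refine ⟨_, f, a, t, B, hQs, h1, fun R p => ?_, h3⟩
  simpa using h2 R p

variable {P : Place k K} {Qs : Finset (Place k K')} {f : Qs → ℕ} {a : ∀ R : Qs, Fin (f R) → K'}
  {t : Qs → K'} {B : Module.Basis (Σ R : Qs, Fin (ramIdx R.1 P) × Fin (f R)) K K'}

theorem Layers.val_B (L : Layers P Qs f a t B) (R : Qs) (p : Fin (ramIdx R.1 P) × Fin (f R)) :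
    R.1.1 (B ⟨R, p⟩) ≤ exp (-((p.1 : ℕ) : ℤ)) ∧ ∀ S ∈ Qs, S.1 (B ⟨R, p⟩) ≤ 1 := by
  refine ⟨?_, (L.int _).2 fun i => ?_⟩
  · rw [← sub_add_cancel (B ⟨R, p⟩) (a R p.2 * t R ^ (p.1 : ℕ))]
    refine (R.1.1.map_add _ _).trans (max_le ((L.near R p).1.trans (exp_le_exp.2 (by have := p.1.2; omega))) ?_)
    rw [map_mul, map_pow, (L.res R).2.1, ← exp_nsmul]
    refine (mul_le_of_le_one_left' ((L.res R).2.2.1 _)).trans (le_of_eq ?_)
    simp
  · classical
    rw [B.repr_self, Finsupp.single_apply]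
    split_ifs <;> simp

/-- The coordinates of a small element vanish in the low layers, and give its leading term. -/
theorem Layers.layer (hF : IsFF k K) (L : Layers P Qs f a t B) {z : K'} (hz : ∀ S ∈ Qs, S.1 z ≤ 1) (R : Qs) :
    ∀ n : ℕ, n ≤ ramIdx R.1 P → R.1.1 z ≤ exp (-(n : ℤ)) →
      (∀ i : Fin (ramIdx R.1 P), (i : ℕ) < n → ∀ j, P.1 (B.repr z ⟨R, i, j⟩) < 1) ∧
      ∀ hn : n < ramIdx R.1 P,
        R.1.1 (z - (∑ j, algebraMap K K' (B.repr z ⟨R, ⟨n, hn⟩, j⟩) * a R j) * t R ^ n) ≤ exp (-((n : ℤ) + 1)) := by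
  classical
  obtain ⟨e, he⟩ := (L.hover R.1).1 R.2
  have hee : ramIdx R.1 P = e := ramIdx_eq hF he
  have he1 := over_pos hF he
  set c := fun q => B.repr z q
  have hc : ∀ q, P.1 (c q) ≤ 1 := (L.int z).1 hz
  have hcv : ∀ q, R.1.1 (algebraMap K K' (c q)) ≤ 1 := fun q => by rw [he]; exact pow_le_one' (hc q) e
  -- modulo `t ^ e` only the terms at `R` matter
  have hT : R.1.1 (z - ∑ p : Fin (ramIdx R.1 P) × Fin (f R),
      algebraMap K K' (c ⟨R, p⟩) * (a R p.2 * t R ^ (p.1 : ℕ))) ≤ exp (-(ramIdx R.1 P : ℤ)) := by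
    have hsum : z = ∑ q, algebraMap K K' (c q) * B q := by
      conv_lhs => rw [← B.sum_repr z]
      simp only [Algebra.smul_def, c]
    rw [Fintype.sum_sigma, ← Finset.add_sum_erase _ _ (Finset.mem_univ R)] at hsum
    rw [hsum, add_sub_right_comm, ← Finset.sum_sub_distrib]
    refine (R.1.1.map_add _ _).trans (max_le (R.1.1.map_sum_le fun p _ => ?_)
      (R.1.1.map_sum_le fun S hS => R.1.1.map_sum_le fun p _ => ?_))
    · rw [← mul_sub, map_mul]
      exact (mul_le_of_le_one_left' (hcv _)).trans (L.near R p).1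
    · rw [map_mul]
      exact (mul_le_of_le_one_left' (hcv _)).trans ((L.near S p).2 R (Finset.ne_of_mem_erase hS).symm)
  intro n
  induction n with
  | zero =>
    intro _ _
    refine ⟨fun i hi => absurd hi (Nat.not_lt_zero _), fun hn => ?_⟩
    have hsplit : ∑ p : Fin (ramIdx R.1 P) × Fin (f R), algebraMap K K' (c ⟨R, p⟩) * (a R p.2 * t R ^ (p.1 : ℕ)) =
        (∑ j, algebraMap K K' (c ⟨R, ⟨0, hn⟩, j⟩) * a R j) * t R ^ 0 +
          ∑ i ∈ Finset.univ.erase (⟨0, hn⟩ : Fin (ramIdx R.1 P)),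
            ∑ j, algebraMap K K' (c ⟨R, i, j⟩) * (a R j * t R ^ (i : ℕ)) := by
      rw [Fintype.sum_prod_type, ← Finset.add_sum_erase _ _ (Finset.mem_univ (⟨0, hn⟩ : Fin (ramIdx R.1 P))),
        Finset.sum_mul]
      simp
    rw [hsplit] at hT
    have h2 : R.1.1 (∑ i ∈ Finset.univ.erase (⟨0, hn⟩ : Fin (ramIdx R.1 P)),
        ∑ j, algebraMap K K' (c ⟨R, i, j⟩) * (a R j * t R ^ (i : ℕ))) ≤ exp (-((0 : ℕ) : ℤ) - 1) := by
      refine R.1.1.map_sum_le fun i hi => R.1.1.map_sum_le fun j _ => ?_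
      have hi0 : (i : ℕ) ≠ 0 := fun h => Finset.ne_of_mem_erase hi (Fin.ext h)
      rw [map_mul, map_mul, map_pow, (L.res R).2.1, ← exp_nsmul]
      refine (mul_le_of_le_one_left' (hcv _)).trans ((mul_le_of_le_one_left' ((L.res R).2.2.1 j)).trans ?_)
      rw [exp_le_exp, nsmul_eq_mul]; omega
    rw [sub_add_eq_sub_sub] at hT
    have := (R.1.1.map_add _ _).trans (max_le (hT.trans (exp_le_exp.2 (by omega))) h2)
    rw [sub_add_cancel] at this
    exact this.trans (exp_le_exp.2 (by omega))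
  | succ n ih =>
    intro hn1 hzn
    obtain ⟨hlow, hlead⟩ := ih (by omega) (hzn.trans (exp_le_exp.2 (by omega)))
    have hn : n < ramIdx R.1 P := hn1
    have hlayer : ∀ j, P.1 (c ⟨R, ⟨n, hn⟩, j⟩) < 1 := by
      refine (L.res R).2.2.2 _ (fun j => hc _) ((le_exp_neg_one_iff R.1).mp ?_)
      have h := (Valuation.map_sub _ z _).trans (max_le hzn ((hlead hn).trans (exp_le_exp.2 (by push_cast; omega))))
      rw [sub_sub_cancel, map_mul, map_pow, (L.res R).2.1, ← exp_nsmul, nsmul_eq_mul] at h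
      refine le_of_mul_le_mul_right (h.trans (le_of_eq ?_)) (zero_lt_iff.mpr exp_ne_zero)
      rw [← exp_add]; congr 1; push_cast; ring
    have hall : ∀ i : Fin (ramIdx R.1 P), (i : ℕ) < n + 1 → ∀ j, P.1 (c ⟨R, i, j⟩) < 1 := fun i hi j => by
      rcases Nat.lt_succ_iff_lt_or_eq.1 hi with h | h
      · exact hlow i h j
      · rw [show i = ⟨n, hn⟩ from Fin.ext h]; exact hlayer j
    refine ⟨hall, fun hn' => ?_⟩
    have hsplit : ∑ p : Fin (ramIdx R.1 P) × Fin (f R), algebraMap K K' (c ⟨R, p⟩) * (a R p.2 * t R ^ (p.1 : ℕ)) =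
        (∑ j, algebraMap K K' (c ⟨R, ⟨n + 1, hn'⟩, j⟩) * a R j) * t R ^ (n + 1) +
          ∑ i ∈ Finset.univ.erase (⟨n + 1, hn'⟩ : Fin (ramIdx R.1 P)),
            ∑ j, algebraMap K K' (c ⟨R, i, j⟩) * (a R j * t R ^ (i : ℕ)) := by
      rw [Fintype.sum_prod_type, ← Finset.add_sum_erase _ _ (Finset.mem_univ (⟨n + 1, hn'⟩ : Fin (ramIdx R.1 P))),
        Finset.sum_mul]
      simp [mul_assoc]
    rw [hsplit, sub_add_eq_sub_sub] at hT
    have h2 : R.1.1 (∑ i ∈ Finset.univ.erase (⟨n + 1, hn'⟩ : Fin (ramIdx R.1 P)),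
        ∑ j, algebraMap K K' (c ⟨R, i, j⟩) * (a R j * t R ^ (i : ℕ))) ≤ exp (-(((n + 1 : ℕ) : ℤ) + 1)) := by
      refine R.1.1.map_sum_le fun i hi => R.1.1.map_sum_le fun j _ => ?_
      rw [map_mul, map_mul, map_pow, (L.res R).2.1, he, ← exp_nsmul, nsmul_eq_mul]
      rcases Nat.lt_trichotomy i.1 (n + 1) with hlt | heq | hgt
      · have h1 := (le_exp_neg_one_iff P).mpr (hall i hlt j)
        refine (mul_le_of_le_one_right' (mul_le_one' ((L.res R).2.2.1 j) ?_)).trans ?_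
        · rw [← exp_zero, exp_le_exp]; omega
        · refine (pow_le_pow_left' h1 e).trans ?_
          rw [← exp_nsmul, exp_le_exp, nsmul_eq_mul]; omega
      · exact absurd (Fin.ext heq) (Finset.ne_of_mem_erase hi)
      · refine (mul_le_of_le_one_left' (pow_le_one' (hc _) e)).trans ((mul_le_of_le_one_left' ((L.res R).2.2.1 j)).trans ?_)
        rw [exp_le_exp]; omega
    have := (R.1.1.map_add _ _).trans (max_le (hT.trans (exp_le_exp.2 (by omega))) h2)
    rwa [sub_add_cancel] at this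

/-- Elements vanishing at all places over `P` have traces vanishing at `P`. -/
theorem trace_lt_one (hF : IsFF k K) (P : Place k K) {w : K'} (hw : ∀ R : Place k K', IsOver R P → R.1 w < 1) :
    P.1 (Algebra.trace K K' w) < 1 := by
  classical
  obtain ⟨Qs, f, a, t, B, L⟩ := exists_layers (K' := K') hF P
  rw [Algebra.trace_eq_matrix_trace B, Matrix.trace]
  refine P.1.map_sum_lt one_ne_zero fun q _ => ?_
  rw [Matrix.diag_apply, Algebra.leftMulMatrix_eq_repr_mul]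
  obtain ⟨R, i, j⟩ := q
  refine (L.layer hF (z := w * B ⟨R, i, j⟩) (fun S hS => ?_) R (i + 1) i.2 ?_).1 i (Nat.lt_succ_self _) j
  · rw [map_mul]
    exact mul_le_one' (hw S ((L.hover S).1 hS)).le ((L.val_B R (i, j)).2 S hS)
  · rw [map_mul]
    refine (mul_le_mul' ((le_exp_neg_one_iff R.1).mpr (hw R.1 ((L.hover R.1).1 R.2))) (L.val_B R (i, j)).1).trans ?_
    rw [← exp_add, exp_le_exp]; push_cast; omega

/-- The residue of a trace: `e` times the trace of the residue. -/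
theorem residue_trace (hF : IsFF k K) {P : Place k K} {Q : Place k K'} {e : ℕ} (he : IsOverWith Q P e)
    (ι : Res P →+* Res Q)
    (hι : ∀ (x : P.O) (y : Q.O), (y : K') = algebraMap K K' x → ι (IsLocalRing.residue P.O x) = IsLocalRing.residue Q.O y)
    {w : K'} (hwQ : Q.1 w ≤ 1) (hw : ∀ R : Place k K', IsOver R P → R ≠ Q → R.1 w < 1) :
    ∃ hmem : P.1 (Algebra.trace K K' w) ≤ 1,
      IsLocalRing.residue P.O ⟨Algebra.trace K K' w, hmem⟩ =
        (e : Res P) * @Algebra.trace (Res P) (Res Q) _ _ ι.toAlgebra (IsLocalRing.residue Q.O ⟨w, hwQ⟩) := by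
  classical
  letI := ι.toAlgebra
  have hwall : ∀ R : Place k K', IsOver R P → R.1 w ≤ 1 := fun R hR => by
    rcases eq_or_ne R Q with rfl | hne
    exacts [hwQ, (hw R hR hne).le]
  have hmem := trace_le_one hF P hwall
  refine ⟨hmem, ?_⟩
  obtain ⟨Qs, f, a, t, B, L⟩ := exists_layers (K' := K') hF P
  let R₀ : Qs := ⟨Q, (L.hover Q).2 ⟨e, he⟩⟩
  have hee : ramIdx R₀.1 P = e := ramIdx_eq hF he
  have he1 := over_pos hF he
  have h0 : 0 < ramIdx R₀.1 P := by omega
  obtain ⟨hf, ht, ha, hind⟩ := L.res R₀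
  let c : _ → _ → K := fun q q' => B.repr (w * B q) q'
  have hzint : ∀ q, ∀ S ∈ Qs, S.1 (w * B q) ≤ 1 := fun ⟨R, p⟩ S hS => by
    rw [map_mul]; exact mul_le_one' (hwall S ((L.hover S).1 hS)) ((L.val_B R p).2 S hS)
  have hc : ∀ q q', P.1 (c q q') ≤ 1 := fun q => (L.int _).1 (hzint q)
  let M : Fin (f R₀) → Fin (f R₀) → P.O := fun j' j => ⟨c ⟨R₀, ⟨0, h0⟩, j⟩ ⟨R₀, ⟨0, h0⟩, j'⟩, hc _ _⟩
  let r : K → Res P := fun x => if h : P.1 x ≤ 1 then IsLocalRing.residue P.O ⟨x, h⟩ else 0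
  have hr : ∀ x : P.O, r x = IsLocalRing.residue P.O x := fun x => dif_pos x.2
  -- the diagonal away from `Q`
  have hoff : ∀ q, q.1 ≠ R₀ → P.1 (c q q) < 1 := fun ⟨R, i, j⟩ hR => by
    refine (L.layer hF (hzint _) R (i + 1) i.2 ?_).1 i (Nat.lt_succ_self _) j
    rw [map_mul]
    refine (mul_le_mul' ((le_exp_neg_one_iff R.1).mpr (hw R.1 ((L.hover R.1).1 R.2) fun h => hR (Subtype.ext h)))
      (L.val_B R (i, j)).1).trans ?_
    rw [← exp_add, exp_le_exp]; push_cast; omega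
  -- every layer at `Q` is the residue matrix
  have hlayer : ∀ (i : Fin (ramIdx R₀.1 P)) (j j' : Fin (f R₀)),
      P.1 (c ⟨R₀, i, j⟩ ⟨R₀, i, j'⟩ - M j' j) < 1 := by
    intro i j
    have hzi : Q.1 (w * B ⟨R₀, i, j⟩) ≤ exp (-((i : ℕ) : ℤ)) := by
      rw [map_mul]; exact (mul_le_of_le_one_left' hwQ).trans (L.val_B R₀ (i, j)).1
    have h1 : Q.1 (w * B ⟨R₀, i, j⟩ -
        (∑ j', algebraMap K K' (c ⟨R₀, i, j⟩ ⟨R₀, i, j'⟩) * a R₀ j') * t R₀ ^ (i : ℕ)) ≤ exp (-(((i : ℕ) : ℤ) + 1)) :=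
      (L.layer hF (hzint _) R₀ i i.2.le hzi).2 i.2
    have h2 : Q.1 (w * B ⟨R₀, ⟨0, h0⟩, j⟩ -
        (∑ j', algebraMap K K' (M j' j) * a R₀ j') * t R₀ ^ 0) ≤ exp (-(((0 : ℕ) : ℤ) + 1)) :=
      (L.layer hF (hzint _) R₀ 0 (Nat.zero_le _) (by
        show Q.1 (w * B ⟨R₀, ⟨0, h0⟩, j⟩) ≤ _
        simpa using hzint ⟨R₀, ⟨0, h0⟩, j⟩ Q R₀.2)).2 h0
    have h3 : Q.1 (w * (B ⟨R₀, i, j⟩ - a R₀ j * t R₀ ^ (i : ℕ))) ≤ exp (-(((i : ℕ) : ℤ) + 1)) := by
      rw [map_mul]
      exact (mul_le_of_le_one_left' hwQ).trans ((L.near R₀ (i, j)).1.trans (exp_le_exp.2 (by have := i.2; omega)))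
    have h4 : Q.1 (w * (B ⟨R₀, ⟨0, h0⟩, j⟩ - a R₀ j * t R₀ ^ 0) * t R₀ ^ (i : ℕ)) ≤ exp (-(((i : ℕ) : ℤ) + 1)) := by
      rw [map_mul, map_mul, map_pow, ht, ← exp_nsmul]
      refine (mul_le_mul' ((mul_le_of_le_one_left' hwQ).trans ((L.near R₀ (⟨0, h0⟩, j)).1)) le_rfl).trans ?_
      rw [← exp_add, exp_le_exp, nsmul_eq_mul]; omega
    have h5 : Q.1 ((w * B ⟨R₀, ⟨0, h0⟩, j⟩ -
        (∑ j', algebraMap K K' (M j' j) * a R₀ j') * t R₀ ^ 0) * t R₀ ^ (i : ℕ)) ≤ exp (-(((i : ℕ) : ℤ) + 1)) := by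
      rw [map_mul, map_pow, ht, ← exp_nsmul]
      refine (mul_le_mul' h2 le_rfl).trans ?_
      rw [← exp_add, exp_le_exp, nsmul_eq_mul]; omega
    refine hind _ (fun j' => (Valuation.map_sub _ _ _).trans (max_le (hc _ _) (M j' j).2))
      ((le_exp_neg_one_iff Q).mp ?_)
    have h6 : Q.1 ((∑ j', algebraMap K K' (c ⟨R₀, i, j⟩ ⟨R₀, i, j'⟩ - (M j' j : K)) * a R₀ j') * t R₀ ^ (i : ℕ)) ≤
        exp (-(((i : ℕ) : ℤ) + 1)) := by
      simp only [map_sub, sub_mul, Finset.sum_sub_distrib]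
      set U := ∑ j', algebraMap K K' (c ⟨R₀, i, j⟩ ⟨R₀, i, j'⟩) * a R₀ j'
      set U' := ∑ j', algebraMap K K' (M j' j) * a R₀ j'
      rw [show U * t R₀ ^ (i : ℕ) - U' * t R₀ ^ (i : ℕ) =
        (-(w * B ⟨R₀, i, j⟩ - U * t R₀ ^ (i : ℕ)) + w * (B ⟨R₀, i, j⟩ - a R₀ j * t R₀ ^ (i : ℕ))) -
        (w * (B ⟨R₀, ⟨0, h0⟩, j⟩ - a R₀ j * t R₀ ^ 0) * t R₀ ^ (i : ℕ) -
          (w * B ⟨R₀, ⟨0, h0⟩, j⟩ - U' * t R₀ ^ 0) * t R₀ ^ (i : ℕ)) by ring]
      refine (Valuation.map_sub _ _ _).trans (max_le ((Q.1.map_add _ _).trans (max_le ?_ h3))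
        ((Valuation.map_sub _ _ _).trans (max_le h4 h5)))
      rwa [Valuation.map_neg]
    rw [map_mul, map_pow, ht, ← exp_nsmul, nsmul_eq_mul] at h6
    refine le_of_mul_le_mul_right (h6.trans (le_of_eq ?_)) (zero_lt_iff.mpr exp_ne_zero)
    rw [← exp_add]; congr 1; ring
  have hdiag : ∀ q, P.1 (c q q) ≤ 1 := fun q => hc q q
  have htr : Algebra.trace K K' w = ∑ q, c q q := by
    rw [Algebra.trace_eq_matrix_trace B, Matrix.trace]
    simp only [Matrix.diag_apply, Algebra.leftMulMatrix_eq_repr_mul, c]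
  have hsum : IsLocalRing.residue P.O ⟨Algebra.trace K K' w, hmem⟩ =
      (e : Res P) * ∑ j, IsLocalRing.residue P.O (M j j) := by
    have e1 : (⟨Algebra.trace K K' w, hmem⟩ : P.O) = ∑ q, ⟨c q q, hdiag q⟩ := Subtype.ext (by
      rw [AddSubmonoidClass.coe_finsetSum]; exact htr)
    rw [e1, map_sum, Fintype.sum_sigma, Finset.sum_eq_single R₀ (fun R _ hR => Finset.sum_eq_zero fun p _ =>
      (residue_eq_zero P _).mpr (hoff ⟨R, p⟩ hR)) (fun h => absurd (Finset.mem_univ R₀) h),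
      Fintype.sum_prod_type]
    have e2 : ∀ i j, IsLocalRing.residue P.O ⟨c ⟨R₀, i, j⟩ ⟨R₀, i, j⟩, hdiag _⟩ = IsLocalRing.residue P.O (M j j) :=
      fun i j => by
        rw [← sub_eq_zero, ← map_sub, residue_eq_zero]
        exact hlayer i j j
    simp only [e2, Finset.sum_const, Finset.card_univ, Fintype.card_fin, nsmul_eq_mul, hee]
  rw [hsum]
  congr 1
  -- the residue matrix is multiplication by the residue of `w`
  let abar : Fin (f R₀) → Res Q := fun j => IsLocalRing.residue Q.O ⟨a R₀ j, ha j⟩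
  have hsmul : ∀ (x : P.O) (y : Q.O), IsLocalRing.residue P.O x • IsLocalRing.residue Q.O y =
      IsLocalRing.residue Q.O (⟨algebraMap K K' x, by
        show Q.1 _ ≤ 1
        rw [he]; exact pow_le_one' x.2 e⟩ * y) := fun x y => by
    rw [Algebra.smul_def, map_mul]
    congr 1
    exact hι x _ rfl
  have hcomb : ∀ g : Fin (f R₀) → P.O, ∃ hm : Q.1 (∑ j, algebraMap K K' (g j) * a R₀ j) ≤ 1,
      ∑ j, IsLocalRing.residue P.O (g j) • abar j = IsLocalRing.residue Q.O ⟨_, hm⟩ := fun g => by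
    have hm : Q.1 (∑ j, algebraMap K K' (g j) * a R₀ j) ≤ 1 := Q.1.map_sum_le fun j _ => by
      rw [map_mul, he]; exact mul_le_one' (pow_le_one' (g j).2 e) (ha j)
    refine ⟨hm, ?_⟩
    simp only [abar, hsmul, ← map_sum]
    congr 1
    exact Subtype.ext (AddSubmonoidClass.coe_finsetSum _ _)
  haveI hres : FiniteDimensional k (Res Q) := residue_finite (IsFF.ext (K' := K') hF) Q
  haveI : IsScalarTower k (Res P) (Res Q) := IsScalarTower.of_algebraMap_eq fun x => by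
    rw [residue_algebraMap, residue_algebraMap]
    exact (hι _ _ (IsScalarTower.algebraMap_apply k K K' x)).symm
  obtain ⟨_, hdim⟩ := tower_facts k (Res P) (Res Q) hres
  have hli : LinearIndependent (Res P) abar := by
    rw [Fintype.linearIndependent_iff]
    intro g hg j
    choose g' hg' using fun j => IsLocalRing.residue_surjective (g j)
    obtain ⟨hm, hgs⟩ := hcomb g'
    simp only [hg'] at hgs
    rw [hg, eq_comm, residue_eq_zero] at hgs
    rw [← hg' j, residue_eq_zero]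
    exact hind _ (fun j => (g' j).2) hgs j
  have hcard : Fintype.card (Fin (f R₀)) = Module.finrank (Res P) (Res Q) := by
    refine Nat.eq_of_mul_eq_mul_right (deg_pos hF P) ?_
    rw [Fintype.card_fin, hf]
    exact hdim.trans (Nat.mul_comm _ _)
  let b := Module.Basis.mk hli (hli.span_eq_top_of_card_eq_finrank' hcard).ge
  rw [Algebra.trace_eq_matrix_trace b, Matrix.trace]
  refine Finset.sum_congr rfl fun j _ => ?_
  rw [Matrix.diag_apply, Algebra.leftMulMatrix_eq_repr_mul]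
  obtain ⟨hm, hgs⟩ := hcomb fun j' => M j' j
  have hbj : IsLocalRing.residue Q.O ⟨w, hwQ⟩ * b j = ∑ j', IsLocalRing.residue P.O (M j' j) • b j' := by
    simp only [b, Module.Basis.mk_apply]
    rw [hgs, ← map_mul, ← sub_eq_zero, ← map_sub, residue_eq_zero]
    show Q.1 (w * a R₀ j - _) < 1
    refine (le_exp_neg_one_iff Q).mp ?_
    have h2 := (L.layer hF (hzint ⟨R₀, ⟨0, h0⟩, j⟩) R₀ 0 (Nat.zero_le _) (by
        show Q.1 (w * B ⟨R₀, ⟨0, h0⟩, j⟩) ≤ _
        simpa using hzint ⟨R₀, ⟨0, h0⟩, j⟩ Q R₀.2)).2 h0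
    have h3 : Q.1 (w * (B ⟨R₀, ⟨0, h0⟩, j⟩ - a R₀ j * t R₀ ^ 0)) ≤ exp (-1 : ℤ) := by
      rw [map_mul]
      exact (mul_le_of_le_one_left' hwQ).trans (((L.near R₀ (⟨0, h0⟩, j)).1).trans (exp_le_exp.2 (by omega)))
    have h7 := (Valuation.map_sub _ _ _).trans (max_le h2 h3)
    refine le_trans (le_of_eq ?_) h7
    congr 1
    simp only [pow_zero, mul_one]
    show _ = w * B ⟨R₀, ⟨0, h0⟩, j⟩ - _ - _
    ring
  rw [hbj, b.repr_sum_self]

end Groth.Agent.CurvFam16.FFDiff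

namespace Groth.Agent.CurvFam16.FFDiff

open FunFld WithZero
open Groth.Agent.FFLib

universe u v

variable {k : Type u} {K K' : Type v} [Field k] [Field K] [Field K'] [Algebra k K] [Algebra K K']
  [Algebra k K'] [IsScalarTower k K K'] [FiniteDimensional K K']

/-- Multiplying by a uniformizer shifts the bounds by the ramification indices. -/
theorem val_unif_mul (hF : IsFF k K) {P : Place k K} {τ : K} (hτ : P.1 τ = exp (-1 : ℤ)) {R : Place k K'}
    (hR : IsOver R P) (z : K') :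
    R.1 (algebraMap K K' τ * z) = exp (-(ramIdx R P : ℤ)) * R.1 z := by
  obtain ⟨e, he⟩ := hR
  rw [map_mul, he, hτ, ramIdx_eq hF he, ← exp_nsmul]
  congr 2
  simp

/-- The bounds `e - 1` have integral traces. -/
theorem traceBound_ram (hF : IsFF k K) (P : Place k K) :
    TraceBound (K' := K') P fun R => (ramIdx R P : ℤ) - 1 := fun z hz => by
  obtain ⟨τ, hτ0, hτ⟩ := exists_unif P
  have h := trace_lt_one hF P (w := algebraMap K K' τ * z) fun R hR => by
    rw [val_unif_mul hF hτ hR]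
    refine lt_of_le_of_lt (mul_le_mul' le_rfl (hz R hR)) ?_
    simp only []
    rw [← exp_add, ← exp_zero, exp_lt_exp]
    omega
  rw [← Algebra.smul_def, map_smul, smul_eq_mul, map_mul, hτ] at h
  by_contra hgt
  rw [not_le] at hgt
  have h0 : Algebra.trace K K' z ≠ 0 := fun e => by rw [e, map_zero] at hgt; exact not_lt_zero hgt
  rw [val_eq_exp P h0] at h hgt
  rw [← exp_add, ← exp_zero, exp_lt_exp] at h
  rw [← exp_zero, exp_lt_exp] at hgt
  omega

open Classical in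
/-- The bounds `e - 1`, raised by one at `Q`, have non-integral traces exactly when `Q` is tame over `P`. -/
theorem not_traceBound_iff (hF : IsFF k K) {P : Place k K} {Q : Place k K'} {e : ℕ} (he : IsOverWith Q P e)
    (ι : Res P →+* Res Q)
    (hι : ∀ (x : P.O) (y : Q.O), (y : K') = algebraMap K K' x → ι (IsLocalRing.residue P.O x) = IsLocalRing.residue Q.O y) :
    ¬ TraceBound P (fun R => if R = Q then (e : ℤ) else (ramIdx R P : ℤ) - 1) ↔
      (e : Res P) ≠ 0 ∧ @Algebra.IsSeparable (Res P) (Res Q) _ _ ι.toAlgebra := by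
  letI := ι.toAlgebra
  haveI hres : FiniteDimensional k (Res Q) := residue_finite (IsFF.ext (K' := K') hF) Q
  haveI : IsScalarTower k (Res P) (Res Q) := IsScalarTower.of_algebraMap_eq fun x => by
    rw [residue_algebraMap, residue_algebraMap]
    exact (hι _ _ (IsScalarTower.algebraMap_apply k K K' x)).symm
  haveI : FiniteDimensional (Res P) (Res Q) := (tower_facts k (Res P) (Res Q) hres).1
  obtain ⟨τ, hτ0, hτ⟩ := exists_unif P
  have hτ' : algebraMap K K' τ ≠ 0 := (map_ne_zero _).2 hτ0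
  have hQe : ramIdx Q P = e := ramIdx_eq hF he
  constructor
  · intro hnb
    by_contra hn
    refine hnb fun z hz => ?_
    have hwQ : Q.1 (algebraMap K K' τ * z) ≤ 1 := by
      rw [val_unif_mul hF hτ ⟨e, he⟩, hQe]
      refine (mul_le_mul' le_rfl (hz Q ⟨e, he⟩)).trans ?_
      simp only [if_pos]
      rw [← exp_add, neg_add_cancel, exp_zero]
    obtain ⟨hmem, hres'⟩ := residue_trace hF he ι hι hwQ fun R hR hne => by
      rw [val_unif_mul hF hτ hR]
      refine lt_of_le_of_lt (mul_le_mul' le_rfl (hz R hR)) ?_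
      simp only [if_neg hne]
      rw [← exp_add, ← exp_zero, exp_lt_exp]
      omega
    have h0 : IsLocalRing.residue P.O ⟨_, hmem⟩ = 0 := by
      rw [hres']
      rcases not_and_or.1 hn with h | h
      · rw [not_not.1 h, zero_mul]
      · rw [Algebra.trace_eq_zero_of_not_isSeparable h, LinearMap.zero_apply, mul_zero]
    rw [residue_eq_zero] at h0
    change P.1 (Algebra.trace K K' (algebraMap K K' τ * z)) < 1 at h0
    rw [← Algebra.smul_def, map_smul, smul_eq_mul, map_mul, hτ] at h0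
    by_contra hgt
    rw [not_le] at hgt
    have h0' : Algebra.trace K K' z ≠ 0 := fun e => by rw [e, map_zero] at hgt; exact not_lt_zero hgt
    rw [val_eq_exp P h0'] at h0 hgt
    rw [← exp_add, ← exp_zero, exp_lt_exp] at h0
    rw [← exp_zero, exp_lt_exp] at hgt
    omega
  · rintro ⟨hne, hsep⟩ hb
    haveI := hsep
    obtain ⟨ybar, hy⟩ : ∃ ybar, Algebra.trace (Res P) (Res Q) ybar ≠ 0 := by
      by_contra! h
      exact Algebra.trace_ne_zero (Res P) (Res Q) (LinearMap.ext h)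
    obtain ⟨y, rfl⟩ := IsLocalRing.residue_surjective ybar
    obtain ⟨w, hw⟩ := exists_approx (over_finite (K' := K') hF P).toFinset
      (fun R => if R = Q then (y : K') else 0) (fun _ => (1 : ℤ))
    have hwR : ∀ R : Place k K', IsOver R P → R.1 (w - if R = Q then (y : K') else 0) < 1 := fun R hR =>
      (hw R ((Set.Finite.mem_toFinset _).2 hR)).trans_lt (by rw [← exp_zero, exp_lt_exp]; norm_num)
    have hwy : Q.1 (w - y) < 1 := by simpa using hwR Q ⟨e, he⟩
    have hwQ : Q.1 w ≤ 1 := by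
      rw [← sub_add_cancel w (y : K')]
      exact (Q.1.map_add _ _).trans (max_le hwy.le y.2)
    obtain ⟨hmem, hres'⟩ := residue_trace hF he ι hι hwQ fun R hR hR' => by simpa [hR'] using hwR R hR
    have hwres : IsLocalRing.residue Q.O ⟨w, hwQ⟩ = IsLocalRing.residue Q.O y := by
      rw [← sub_eq_zero, ← map_sub, residue_eq_zero]
      exact hwy
    rw [hwres] at hres'
    have hz := hb ((algebraMap K K' τ)⁻¹ * w) fun R hR => by
      obtain ⟨e', he'⟩ := id hR
      rw [map_mul, map_inv₀, he', hτ, ← exp_nsmul, ← exp_neg, nsmul_eq_mul]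
      by_cases hRQ : R = Q
      · subst hRQ
        simp only [if_pos, (over_unique hF he' he).2]
        refine (mul_le_of_le_one_right' hwQ).trans (le_of_eq ?_)
        congr 1; ring
      · simp only [if_neg hRQ, ramIdx_eq hF he']
        have h1 : R.1 w ≤ exp (-1 : ℤ) := (le_exp_neg_one_iff R).mpr (by simpa [hRQ] using hwR R hR)
        refine (mul_le_mul' le_rfl h1).trans (le_of_eq ?_)
        rw [← exp_add]; congr 1; ring
    rw [← map_inv₀, ← Algebra.smul_def, map_smul, smul_eq_mul, map_mul, map_inv₀, hτ,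
      inv_mul_le_iff₀ (zero_lt_iff.mpr exp_ne_zero), mul_one] at hz
    have : IsLocalRing.residue P.O ⟨_, hmem⟩ = 0 := (residue_eq_zero P _).mpr ((le_exp_neg_one_iff P).mp hz)
    rw [this] at hres'
    exact mul_ne_zero hne hy hres'.symm

end Groth.Agent.CurvFam16.FFDiff
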