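import Groth.Agent.CurvFam16.GenFF.Base
import Groth.Agent.CurveLuroth.FF
import Mathlib.AlgebraicGeometry.ZariskisMainTheorem

/-! Morphisms of smooth proper curves from homomorphisms of function fields. -/

noncomputable section

set_option linter.style.haveILetI false
set_option linter.unusedSectionVars false
set_option backward.isDefEq.respectTransparency false
set_option backward.isDefEq.respectTransparency.types false

universe u

open CategoryTheory CategoryTheory.Limits AlgebraicGeometry TopologicalSpace Opposite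

namespace Groth.Agent.CurvFam16.FFHom

attribute [local instance] GenFF.ffAlg

theorem ffC_eq {k : Type u} [Field k] {X : Scheme.{u}} [X.Over (Spec (CommRingCat.of k))] [IsIntegral X] :
    CurveLuroth.ffC (X ↘ Spec (CommRingCat.of k)) = CommRingCat.ofHom (algebraMap k X.functionField) := by
  have h : CurveLuroth.ffC (X ↘ Spec (CommRingCat.of k)) =
      (Scheme.ΓSpecIso (CommRingCat.of k)).inv ≫ (X ↘ Spec (CommRingCat.of k)).appTop ≫
        X.presheaf.germ ⊤ (genericPoint X) trivial := by
    apply Spec.map_injective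
    rw [CurveLuroth.spec_ffC, Spec.map_comp, Spec.map_comp, ← Scheme.fromSpecStalk_toSpecΓ]
    simp only [Category.assoc]
    rw [← Scheme.toSpecΓ_naturality_assoc]
    simp
  rw [h]
  rfl

/-- A morphism `B ⟶ A` restricting to `ψ` at the generic points. -/
def Restricts {A B : Scheme.{u}} [IrreducibleSpace A] [IrreducibleSpace B]
    (H : B ⟶ A) (ψ : A.functionField ⟶ B.functionField) : Prop :=
  B.fromSpecStalk (genericPoint B) ≫ H = Spec.map ψ ≫ A.fromSpecStalk (genericPoint A)

theorem Restricts.id {A : Scheme.{u}} [IrreducibleSpace A] : Restricts (𝟙 A) (𝟙 A.functionField) := by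
  simp [Restricts]

theorem Restricts.comp {A B C : Scheme.{u}} [IrreducibleSpace A] [IrreducibleSpace B] [IrreducibleSpace C]
    {G : C ⟶ B} {φ : B.functionField ⟶ C.functionField} {H : B ⟶ A} {ψ : A.functionField ⟶ B.functionField}
    (hG : Restricts G φ) (hH : Restricts H ψ) : Restricts (G ≫ H) (ψ ≫ φ) := by
  unfold Restricts at hG hH ⊢
  rw [reassoc_of% hG, hH, Spec.map_comp_assoc]

theorem Restricts.unique {A B : Scheme.{u}} [IsIntegral A] [IsIntegral B] [A.IsSeparated]
    {H H' : B ⟶ A} {ψ : A.functionField ⟶ B.functionField} (h : Restricts H ψ) (h' : Restricts H' ψ) : H = H' := by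
  haveI := H23.RatExtend.isDominant_fromSpecStalk (X := B)
  exact ext_of_isDominant (B.fromSpecStalk (genericPoint B)) (h.trans h'.symm)

theorem Restricts.generic {A B : Scheme.{u}} [IsIntegral A] [IsIntegral B]
    {H : B ⟶ A} {ψ : A.functionField ⟶ B.functionField} (h : Restricts H ψ) :
    H (genericPoint B) = genericPoint A := by
  have h' := congrArg (fun g => g (IsLocalRing.closedPoint B.functionField)) h
  haveI : Subsingleton (Spec A.functionField) := inferInstanceAs (Subsingleton (PrimeSpectrum A.functionField))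
  simp only [Scheme.Hom.comp_apply] at h'
  rw [Subsingleton.elim (Spec.map ψ (IsLocalRing.closedPoint B.functionField))
    (IsLocalRing.closedPoint A.functionField)] at h'
  erw [Scheme.fromSpecStalk_closedPoint, Scheme.fromSpecStalk_closedPoint] at h'
  exact h'

theorem Restricts.injective {A B : Scheme.{u}} [IsIntegral A] [IsIntegral B]
    {H : B ⟶ A} {ψ ψ' : A.functionField ⟶ B.functionField} (h : Restricts H ψ) (h' : Restricts H ψ') : ψ = ψ' := by
  apply Spec.map_injective
  exact (cancel_mono (A.fromSpecStalk (genericPoint A))).1 (h.symm.trans h')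

variable {k : Type u} [Field k] {A B : Scheme.{u}} [A.Over (Spec (CommRingCat.of k))] [B.Over (Spec (CommRingCat.of k))]
  [IsIntegral A] [IsIntegral B] [IsProper (A ↘ Spec (CommRingCat.of k))] [IsProper (B ↘ Spec (CommRingCat.of k))]
  [Smooth (B ↘ Spec (CommRingCat.of k))]

/-- A homomorphism of function fields comes from a morphism of curves. -/
theorem exists_hom (hB : topologicalKrullDim B = 1) (w : A.functionField →ₐ[k] B.functionField) :
    ∃ H : B ⟶ A, H ≫ (A ↘ Spec (CommRingCat.of k)) = B ↘ Spec (CommRingCat.of k) ∧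
      Restricts H (CommRingCat.ofHom w.toRingHom) := by
  haveI : A.IsSeparated := ⟨by rw [← Limits.terminal.comp_from (A ↘ Spec (CommRingCat.of k))]; infer_instance⟩
  let ψ : A.functionField ⟶ B.functionField := CommRingCat.ofHom w.toRingHom
  have hψ : CurveLuroth.ffC (A ↘ Spec (CommRingCat.of k)) ≫ ψ = CurveLuroth.ffC (B ↘ Spec (CommRingCat.of k)) := by
    rw [ffC_eq, ffC_eq]
    ext c
    exact w.commutes c
  have h₀ : (Spec.map ψ ≫ A.fromSpecStalk (genericPoint A)) ≫ (A ↘ Spec (CommRingCat.of k)) =
      B.fromSpecStalk _ ≫ (B ↘ Spec (CommRingCat.of k)) := by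
    rw [Category.assoc, ← CurveLuroth.spec_ffC, ← Spec.map_comp, hψ, CurveLuroth.spec_ffC]
  have hval : ∀ p : B, ValuationRing (B.presheaf.stalk p) := fun p => by
    rcases GenFF.eq_or_isClosed k B hB p with rfl | hp
    · show ValuationRing B.functionField
      infer_instance
    · haveI := GenFF.isDVR k B hB hp
      infer_instance
  obtain ⟨W, hW, H, hsub, hH, hH'⟩ := H23.RatExtend.extend (B ↘ Spec (CommRingCat.of k))
    (A ↘ Spec (CommRingCat.of k)) _ h₀ Set.univ
    fun p _ => H23.RatExtend.exists_lift (B ↘ Spec (CommRingCat.of k)) (A ↘ Spec (CommRingCat.of k)) _ h₀ p (hval p)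
  haveI : IsIso W.ι := by
    have : Surjective W.ι := ⟨fun y => ⟨⟨y, hsub trivial⟩, rfl⟩⟩
    exact (isIso_iff_isOpenImmersion_and_surjective _).2 ⟨inferInstance, this⟩
  refine ⟨inv W.ι ≫ H, by rw [Category.assoc, hH, IsIso.inv_hom_id_assoc], ?_⟩
  show _ = _
  rw [← hH', ← Scheme.Opens.fromSpecStalkOfMem_ι W (genericPoint B) hW, Category.assoc, IsIso.hom_inv_id_assoc]

variable [Smooth (A ↘ Spec (CommRingCat.of k))]

/-- An isomorphism of function fields comes from an isomorphism of curves. -/
theorem exists_iso (hA : topologicalKrullDim A = 1) (hB : topologicalKrullDim B = 1)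
    (w : A.functionField ≃ₐ[k] B.functionField) :
    ∃ H : B ≅ A, H.hom ≫ (A ↘ Spec (CommRingCat.of k)) = B ↘ Spec (CommRingCat.of k) ∧
      Restricts H.hom (CommRingCat.ofHom w.toAlgHom.toRingHom) := by
  haveI : A.IsSeparated := ⟨by rw [← Limits.terminal.comp_from (A ↘ Spec (CommRingCat.of k))]; infer_instance⟩
  haveI : B.IsSeparated := ⟨by rw [← Limits.terminal.comp_from (B ↘ Spec (CommRingCat.of k))]; infer_instance⟩
  obtain ⟨H, hH, hr⟩ := exists_hom (A := A) hB w.toAlgHom
  obtain ⟨G, -, hr'⟩ := exists_hom (A := B) hA w.symm.toAlgHom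
  have e1 : CommRingCat.ofHom w.toAlgHom.toRingHom ≫ CommRingCat.ofHom w.symm.toAlgHom.toRingHom = 𝟙 _ := by
    ext a; exact w.symm_apply_apply a
  have e2 : CommRingCat.ofHom w.symm.toAlgHom.toRingHom ≫ CommRingCat.ofHom w.toAlgHom.toRingHom = 𝟙 _ := by
    ext a; exact w.apply_symm_apply a
  refine ⟨⟨H, G, ?_, ?_⟩, hH, hr⟩
  · exact Restricts.unique (hr.comp hr') (e2.symm ▸ Restricts.id)
  · exact Restricts.unique (hr'.comp hr) (e1.symm ▸ Restricts.id)

end Groth.Agent.CurvFam16.FFHom
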