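import Groth.Agent.CurvFam16.FFDiffLocal

/-! The Riemann-Hurwitz formula with arbitrary constants: exponents at least `e - 1`, equal exactly when tame. -/

set_option linter.style.haveILetI false
set_option linter.unusedSectionVars false

namespace Groth.Agent.CurvFam16.FFHurwitz

open FunFld WithZero IntermediateField
open Groth.Agent.FFLib
open Groth.Agent.CurvFam16.FFTrace

universe u v

/-- Tameness of `Q` over `P`, through a given map of residue fields. -/
def IsTame {k : Type u} {K K' : Type v} [Field k] [Field K] [Field K'] [Algebra k K] [Algebra k K']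
    (P : Place k K) (Q : Place k K') (e : ℕ) (ι : Res P →+* Res Q) : Prop :=
  (e : Res P) ≠ 0 ∧ @Algebra.IsSeparable (Res P) (Res Q) _ _ ι.toAlgebra

/-- Lower bound and equality for the different exponents over an exact field of constants. -/
theorem exists_exact {k k' : Type u} {K K' : Type v} [Field k] [Field k'] [Field K] [Field K'] [Algebra k K]
    [Algebra k k'] [Algebra k' K'] [Algebra k K'] [IsScalarTower k k' K'] [Algebra K K'] [IsScalarTower k K K']
    [FiniteDimensional k k'] [FiniteDimensional K K'] [Algebra.IsSeparable K K']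
    (hK : IsFunctionField k K) (hK' : IsFunctionField k' K') :
    ∃ D : Divisor k K',
      (Module.finrank k k' : ℤ) * (2 * (genus k' K' : ℤ) - 2) =
        (Module.finrank K K' : ℤ) * (2 * (genus k K : ℤ) - 2) + D.deg ∧
      ∀ (P : Place k K) (Q : Place k K') (e : ℕ), IsOverWith Q P e → (e : ℤ) - 1 ≤ D Q ∧
        ∀ ι : Res P →+* Res Q, (∀ (x : P.O) (y : Q.O), (y : K') = algebraMap K K' x →
          ι (IsLocalRing.residue P.O x) = IsLocalRing.residue Q.O y) → (D Q = (e : ℤ) - 1 ↔ IsTame P Q e ι) := by
  classical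
  obtain ⟨D, hD, hdeg⟩ := FFDiff.exists_different k' hK hK'
  refine ⟨D, hdeg, fun P Q e he => ?_⟩
  have hge : ∀ R, IsOver R P → (ramIdx R P : ℤ) - 1 ≤ D R :=
    (hD P fun R => (ramIdx R P : ℤ) - 1).1 (FFDiff.traceBound_ram hK.1 P)
  have hQ := hge Q ⟨e, he⟩
  rw [ramIdx_eq hK.1 he] at hQ
  refine ⟨hQ, fun ι hι => ?_⟩
  show _ ↔ (e : Res P) ≠ 0 ∧ _
  rw [← FFDiff.not_traceBound_iff hK.1 he ι hι, hD]
  constructor
  · intro h hall
    have := hall Q ⟨e, he⟩
    rw [if_pos rfl] at this
    omega
  · intro h
    by_contra hne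
    refine h fun R hR => ?_
    split_ifs with hRQ
    · subst hRQ; omega
    · exact hge R hR

variable {k : Type u} {K K' : Type u} [Field k] [Field K] [Field K'] [Algebra k K] [Algebra k K']
  [Algebra K K'] [IsScalarTower k K K'] [FiniteDimensional K K'] [Algebra.IsSeparable K K']

/-- Riemann-Hurwitz for separable extensions of function fields over any field of constants. -/
theorem exists_hurwitz (hF : IsFF k K) :
    ∃ D : Divisor k K', -2 * chi k K' = (Module.finrank K K' : ℤ) * (-2 * chi k K) + D.deg ∧
      ∀ (P : Place k K) (Q : Place k K') (e : ℕ), IsOverWith Q P e → (e : ℤ) - 1 ≤ D Q ∧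
        ∀ ι : Res P →+* Res Q, (∀ (x : P.O) (y : Q.O), (y : K') = algebraMap K K' x →
          ι (IsLocalRing.residue P.O x) = IsLocalRing.residue Q.O y) → (D Q = (e : ℤ) - 1 ↔ IsTame P Q e ι) := by
  haveI := finite_algebraicClosure hF
  haveI : IsScalarTower k (algebraicClosure k K) K' := IsScalarTower.of_algebraMap_eq fun c =>
    IsScalarTower.algebraMap_apply k K K' c
  have hKY := isFunctionField_algebraicClosure hF
  have hX : IsFF (algebraicClosure k K) K' := IsFF.ext (K := K) hKY.1
  haveI := finite_algebraicClosure hX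
  have hKX := isFunctionField_algebraicClosure hX
  haveI : FiniteDimensional k (algebraicClosure (algebraicClosure k K) K') :=
    FiniteDimensional.trans k (algebraicClosure k K) _
  haveI : IsScalarTower k (algebraicClosure (algebraicClosure k K) K') K' :=
    IsScalarTower.of_algebraMap_eq fun c => rfl
  obtain ⟨D, hdeg, hD⟩ := exists_exact hKY hKX
  let ρ := placeEquiv (k := k) (k' := algebraicClosure k K) (K' := K')
  let D₀ : Divisor k K' := Finsupp.equivMapDomain ρ D
  have hup : upDiv (k' := algebraicClosure k K) D₀ = D := Finsupp.ext fun Q => by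
    rw [upDiv_apply]; simp [D₀, Finsupp.equivMapDomain_apply, ρ]
  refine ⟨D₀, ?_, fun P₀ Q₀ e he => ?_⟩
  · have h := deg_upDiv (k' := algebraicClosure k K) D₀
    rw [hup] at h
    rw [chi_eq (hF.ext) hKX, chi_eq hF hKY, ← h, ← Module.finrank_mul_finrank k (algebraicClosure k K)
      (algebraicClosure (algebraicClosure k K) K')]
    push_cast
    linear_combination (Module.finrank k (algebraicClosure k K) : ℤ) * hdeg
  · obtain ⟨Q, rfl⟩ := ρ.surjective Q₀
    obtain ⟨P, rfl⟩ := (placeEquiv (k := k) (k' := algebraicClosure k K) (K' := K)).surjective P₀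
    have hQ : D₀ (ρ Q) = D Q := by simp [D₀, Finsupp.equivMapDomain_apply]
    obtain ⟨h1, h2⟩ := hD P Q e he
    refine ⟨hQ.symm ▸ h1, fun ι hι => ?_⟩
    rw [hQ]
    exact h2 ι hι

end Groth.Agent.CurvFam16.FFHurwitz
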