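import Groth.Agent.FFLib.RR
import Groth.Agent.FFLib.Rational

/-! Equations of function fields of degree two over a rational subfield. -/

set_option linter.unusedSectionVars false

universe u

set_option linter.style.haveILetI false

open FunFld WithZero Polynomial IntermediateField
open scoped IntermediateField

namespace Groth.Agent.CurvFam16.FFHyp

open Groth.Agent.FFLib

section Quad

variable {F L : Type*} [Field F] [Field L] [Algebra F L]

theorem exists_eq_add_mul (hdeg : Module.finrank F L = 2) {z : L}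
    (hz : z ∉ Set.range (algebraMap F L)) (w : L) :
    ∃ a b : F, algebraMap F L a + algebraMap F L b * z = w := by
  have : FiniteDimensional F L := Module.finite_of_finrank_eq_succ hdeg
  have hli : LinearIndependent F ![(1 : L), z] := by
    rw [LinearIndependent.pair_iff' one_ne_zero]
    intro a ha
    exact hz ⟨a, by rw [← ha, Algebra.smul_def, mul_one]⟩
  have hspan := hli.span_eq_top_of_card_eq_finrank (by rw [Fintype.card_fin, hdeg])
  have hw : w ∈ Submodule.span F (Set.range ![(1 : L), z]) := hspan ▸ Submodule.mem_top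
  rw [Submodule.mem_span_range_iff_exists_fun] at hw
  obtain ⟨c, hc⟩ := hw
  refine ⟨c 0, c 1, ?_⟩
  rw [← hc, Fin.sum_univ_two]
  simp [Algebra.smul_def]

/-- Coordinates along `1, y`. -/
noncomputable def quadBasis (hdeg : Module.finrank F L = 2) {y : L} (hy : y ∉ Set.range (algebraMap F L)) :
    Module.Basis (Fin 2) F L :=
  basisOfLinearIndependentOfCardEqFinrank (b := ![(1 : L), y]) (by
    rw [LinearIndependent.pair_iff' one_ne_zero]
    intro a ha
    exact hy ⟨a, by rw [← ha, Algebra.smul_def, mul_one]⟩) (by rw [Fintype.card_fin, hdeg])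

theorem quadBasis_eq (hdeg : Module.finrank F L = 2) {y : L} (hy : y ∉ Set.range (algebraMap F L)) :
    ⇑(quadBasis hdeg hy) = ![(1 : L), y] :=
  coe_basisOfLinearIndependentOfCardEqFinrank _ _

/-- The nontrivial automorphism of a quadratic extension. -/
theorem exists_conj_aut (hdeg : Module.finrank F L = 2) {y : L} (hy : y ∉ Set.range (algebraMap F L)) {r u : F}
    (hyy : y ^ 2 = algebraMap F L r * y + algebraMap F L u) :
    ∃ σ : L ≃ₐ[F] L, σ y = algebraMap F L r - y := by
  set b := quadBasis hdeg hy with hbdef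
  have hb := quadBasis_eq hdeg hy
  let l : L →ₗ[F] L := b.constr F ![(1 : L), algebraMap F L r - y]
  have hl1 : l 1 = 1 := by
    have := b.constr_basis F ![(1 : L), algebraMap F L r - y] 0
    simpa [l, hbdef, hb] using this
  have hly : l y = algebraMap F L r - y := by
    have := b.constr_basis F ![(1 : L), algebraMap F L r - y] 1
    simpa [l, hbdef, hb] using this
  have hl : ∀ a c : F, l (algebraMap F L a + algebraMap F L c * y) =
      algebraMap F L a + algebraMap F L c * (algebraMap F L r - y) := fun a c => by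
    rw [← Algebra.smul_def c, map_add, map_smul, hly, Algebra.smul_def,
      show algebraMap F L a = a • (1 : L) from (by rw [Algebra.smul_def, mul_one]), map_smul, hl1]
  have hmul : ∀ z w : L, l (z * w) = l z * l w := fun z w => by
    obtain ⟨a, c, rfl⟩ := exists_eq_add_mul hdeg hy z
    obtain ⟨a', c', rfl⟩ := exists_eq_add_mul hdeg hy w
    rw [show (algebraMap F L a + algebraMap F L c * y) * (algebraMap F L a' + algebraMap F L c' * y) =
        algebraMap F L (a * a' + c * c' * u) + algebraMap F L (a * c' + a' * c + c * c' * r) * y by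
      simp only [map_add, map_mul]
      linear_combination (algebraMap F L c * algebraMap F L c') * hyy, hl, hl, hl]
    simp only [map_add, map_mul]
    linear_combination (-(algebraMap F L c * algebraMap F L c')) * hyy
  haveI : FiniteDimensional F L := Module.finite_of_finrank_eq_succ hdeg
  let f : L →ₐ[F] L := AlgHom.ofLinearMap l hl1 hmul
  exact ⟨AlgEquiv.ofBijective f (AlgHom.bijective f), hly⟩

end Quad

variable {k K : Type*} [Field k] [Field K] [Algebra k K]

theorem exists_pole (hF : IsFF k K) {t : K} (ht : Transcendental k t) :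
    ∃ (P : Place k K) (e : ℤ), 0 < e ∧ P.1 t = exp e ∧ (poles t : Divisor k K) P = e := by
  have ht0 : t ≠ 0 := fun e => ht (e ▸ isAlgebraic_zero)
  obtain ⟨P, hP⟩ := exists_place_pole hF ht
  have h := (one_lt_val_iff P ht0).1 hP
  refine ⟨P, -P.ord t, by omega, val_eq_exp P ht0, ?_⟩
  rw [poles, Finsupp.mapRange_apply, div_apply hF, max_eq_left]
  omega

theorem poles_eq_zero_of_le (hF : IsFF k K) {t : K} {P : Place k K} (h : P.1 t ≤ 1) :
    (poles t : Divisor k K) P = 0 := by
  rw [poles, Finsupp.mapRange_apply, div_apply hF, max_eq_right]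
  rcases eq_or_ne t 0 with rfl | ht0
  · simp
  · have := (val_le_one_iff P ht0).1 h; omega

theorem val_aeval_le_one (P : Place k K) {t : K} (h : P.1 t ≤ 1) (p : k[X]) :
    P.1 (aeval t p) ≤ 1 := FFLib.val_aeval_le_one P.2.1 h p

theorem val_aeval (P : Place k K) {t : K} {e : ℤ} (he : 0 < e) (hv : P.1 t = exp e) {p : k[X]}
    (hp : p ≠ 0) : P.1 (aeval t p) = exp (p.natDegree * e) := by
  have hpow : ∀ i : ℕ, P.1 (t ^ i) = exp ((i : ℤ) * e) := fun i => by
    rw [map_pow, hv, ← exp_nsmul, nsmul_eq_mul]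
  rw [aeval_eq_sum_range, Finset.sum_range_succ]
  have htop : P.1 (p.coeff p.natDegree • t ^ p.natDegree) = exp (p.natDegree * e) := by
    rw [show p.coeff p.natDegree = p.leadingCoeff from rfl, val_smul P (leadingCoeff_ne_zero.2 hp), hpow]
  rw [← htop]
  refine Valuation.map_add_eq_of_lt_right _ ?_
  rw [htop]
  refine Valuation.map_sum_lt _ exp_ne_zero fun i hi => ?_
  rw [Finset.mem_range] at hi
  by_cases hc : p.coeff i = 0
  · rw [hc, zero_smul, map_zero]; exact zero_lt_iff.2 exp_ne_zero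
  · rw [val_smul P hc, hpow, exp_lt_exp]
    exact mul_lt_mul_of_pos_right (by exact_mod_cast hi) he

theorem aeval_ne_zero {t : K} (ht : Transcendental k t) {p : k[X]} (hp : p ≠ 0) : aeval t p ≠ 0 :=
  fun h => ht ⟨p, hp, h⟩

/-- An element of the rational subfield with poles only over infinity is a polynomial. -/
theorem exists_poly (hK : IsFunctionField k K) {t : K} (ht : Transcendental k t) {r : K} (hr : r ∈ k⟮t⟯)
    {m : ℕ} (hm : ∀ P : Place k K, P.1 r ≤ exp ((m : ℤ) * (poles t : Divisor k K) P)) :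
    ∃ p : k[X], aeval t p = r ∧ p.natDegree ≤ m := by
  rcases eq_or_ne r 0 with rfl | hr0
  · exact ⟨0, map_zero _, by simp⟩
  obtain ⟨a, b, hab⟩ := (mem_adjoin_simple_iff k r).1 hr
  have ha : a ≠ 0 := fun h => hr0 (by rw [hab, h, map_zero, zero_div])
  have hb : b ≠ 0 := fun h => hr0 (by rw [hab, h, map_zero, div_zero])
  obtain ⟨d, a', b', hcop, rfl, rfl⟩ : ∃ d a' b' : k[X], IsCoprime a' b' ∧ a = a' * d ∧ b = b' * d := by
    classical
    obtain ⟨x, z, hx, hz, hu⟩ := extract_gcd a b
    exact ⟨_, x, z, gcd_isUnit_iff x z |>.1 hu, hx.trans (mul_comm _ _), hz.trans (mul_comm _ _)⟩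
  obtain ⟨ha', hd⟩ := mul_ne_zero_iff.1 ha
  obtain ⟨hb', -⟩ := mul_ne_zero_iff.1 hb
  have hab' : r = aeval t a' / aeval t b' := by
    rw [hab, map_mul, map_mul, mul_div_mul_right _ _ (aeval_ne_zero ht hd)]
  have hconst : b'.natDegree = 0 := by
    by_contra hdeg
    have htr : Transcendental k (aeval t b') := by
      intro halg
      obtain ⟨c, hc⟩ := hK.2 _ halg
      have : aeval t (b' - C c) = 0 := by rw [map_sub, aeval_C, hc, sub_self]
      exact ht ⟨_, fun h => hdeg (by rw [sub_eq_zero.1 h, natDegree_C]), this⟩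
    obtain ⟨P, hP⟩ := exists_place_zero hK.1 htr
    have ht1 : P.1 t ≤ 1 := by
      by_contra hlt
      rw [not_le] at hlt
      obtain ⟨e, he⟩ : ∃ e, P.1 t = exp e := ⟨_, val_eq_exp P fun e => ht (e ▸ isAlgebraic_zero)⟩
      rw [he, ← exp_zero, exp_lt_exp] at hlt
      rw [val_aeval P hlt he hb', ← exp_zero, exp_lt_exp] at hP
      nlinarith
    obtain ⟨u, v, huv⟩ := hcop
    have h1 : P.1 (aeval t a') = 1 := by
      refine le_antisymm (val_aeval_le_one P ht1 _) (not_lt.1 fun hlt => ?_)
      have := congrArg (fun q => P.1 (aeval t q)) huv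
      simp only [map_add, map_mul, map_one] at this
      have h2 : P.1 (aeval t u * aeval t a' + aeval t v * aeval t b') < 1 := by
        refine Valuation.map_add_lt _ ?_ ?_
        · rw [map_mul]; exact (mul_le_of_le_one_left' (val_aeval_le_one P ht1 _)).trans_lt hlt
        · rw [map_mul]; exact (mul_le_of_le_one_left' (val_aeval_le_one P ht1 _)).trans_lt hP
      exact h2.ne this
    have h3 := hm P
    rw [poles_eq_zero_of_le hK.1 ht1, mul_zero, exp_zero, hab', map_div₀, h1, one_div] at h3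
    have h0 : (0 : WithZero (Multiplicative ℤ)) < P.1 (aeval t b') := zero_lt_iff.2 (val_ne_zero P (aeval_ne_zero ht hb'))
    exact absurd ((inv_le_one₀ h0).1 h3) (not_le.2 hP)
  obtain ⟨c, rfl⟩ := natDegree_eq_zero.1 hconst
  have hc : c ≠ 0 := fun h => hb' (by rw [h, C_0])
  have hpr : aeval t (C c⁻¹ * a') = r := by
    rw [hab', map_mul, aeval_C, aeval_C, map_inv₀, div_eq_inv_mul]
  refine ⟨C c⁻¹ * a', hpr, ?_⟩
  obtain ⟨P, e, he, hv, hpe⟩ := exists_pole hK.1 ht
  have h := hm P
  rw [← hpr, val_aeval P he hv (mul_ne_zero (by simp [hc]) ha'), hpe, exp_le_exp] at h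
  exact_mod_cast le_of_mul_le_mul_right h he

theorem deg_zsmul (D : Divisor k K) (n : ℕ) : ((n : ℤ) • D).deg = n * D.deg := by
  induction n with
  | zero => simp
  | succ n ih => push_cast; rw [add_smul, one_smul, Divisor.deg_add, ih]; ring

variable (hK : IsFunctionField k K) {t : K} (ht : Transcendental k t)
  (h2 : Module.finrank k⟮t⟯ K = 2)

include ht in
theorem pow_mem_L {i m : ℕ} (hi : i ≤ m) (hF : IsFF k K) :
    t ^ i ∈ L ((m : ℤ) • (poles t : Divisor k K)) := by
  refine mem_L.2 fun P => ?_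
  rw [map_pow, Finsupp.smul_apply, smul_eq_mul]
  refine (pow_le_pow_left' (val_le_exp_poles hF t P) i).trans ?_
  rw [← exp_nsmul, nsmul_eq_mul, exp_le_exp]
  exact mul_le_mul_of_nonneg_right (by exact_mod_cast hi) (poles_nonneg t P)

include hK ht h2 in
theorem ell_poles {m : ℕ} (hm : genus k K ≤ m) :
    (ell ((m : ℤ) • (poles t : Divisor k K)) : ℤ) = 2 * m + 1 - genus k K := by
  have hd : ((m : ℤ) • (poles t : Divisor k K)).deg = 2 * m := by
    rw [deg_zsmul, deg_poles hK.1 ht, h2]; push_cast; ring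
  rw [ell_of_deg_gt hK (by rw [hd]; omega), hd]

include hK ht h2 in
/-- An element of `L((g+1)D)` outside the rational subfield. -/
theorem exists_gen : ∃ y : K, y ∉ k⟮t⟯ ∧ ∀ P : Place k K,
    P.1 y ≤ exp (((genus k K + 1 : ℕ) : ℤ) * (poles t : Divisor k K) P) := by
  by_contra hno
  push Not at hno
  set m := genus k K + 1
  let D := (m : ℤ) • (poles t : Divisor k K)
  haveI := L_finite hK.1 D
  have hsub : ∀ y ∈ L D, ∃ p : k[X], aeval t p = y ∧ p.natDegree ≤ m := by
    intro y hy
    have hy' : ∀ P : Place k K, P.1 y ≤ exp ((m : ℤ) * (poles t : Divisor k K) P) := fun P => by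
      simpa [D] using mem_L.1 hy P
    refine exists_poly hK ht (by_contra fun h => ?_) hy'
    obtain ⟨P, hP⟩ := hno y h
    exact (not_lt.2 (hy' P)) hP
  have hle : L D ≤ (Polynomial.degreeLT k (m + 1)).map (aeval t).toLinearMap := by
    intro y hy
    obtain ⟨p, rfl, hp⟩ := hsub y hy
    exact ⟨p, mem_degreeLT.2 ((degree_le_natDegree).trans_lt (by exact_mod_cast Nat.lt_succ_of_le hp)), rfl⟩
  haveI : Module.Finite k (Polynomial.degreeLT k (m + 1)) := Module.Finite.equiv (degreeLTEquiv k (m + 1)).symm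
  have h1 := Submodule.finrank_mono hle
  have h2' : Module.finrank k ((Polynomial.degreeLT k (m + 1)).map (aeval t).toLinearMap) ≤ m + 1 :=
    (Submodule.finrank_map_le _ _).trans (by rw [(degreeLTEquiv k (m + 1)).finrank_eq, Module.finrank_fin_fun])
  have h3 := ell_poles hK ht h2 (m := m) (by omega)
  have h4 : ell D ≤ m + 1 := h1.trans h2'
  change (ell D : ℤ) = _ at h3
  omega

include hK ht h2 in
/-- The quadratic relation satisfied by such an element. -/
theorem exists_equation {y : K} (hy : y ∉ k⟮t⟯) {m : ℕ}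
    (hm : ∀ P : Place k K, P.1 y ≤ exp ((m : ℤ) * (poles t : Divisor k K) P)) :
    ∃ p q : k[X], y ^ 2 + aeval t q * y = aeval t p ∧ q.natDegree ≤ m ∧ p.natDegree ≤ 2 * m := by
  have hy' : y ∉ Set.range (algebraMap k⟮t⟯ K) := fun ⟨c, hc⟩ => hy (hc ▸ c.2)
  obtain ⟨u, r, hru⟩ := exists_eq_add_mul h2 hy' (y ^ 2)
  have hyy : y ^ 2 = algebraMap k⟮t⟯ K r * y + algebraMap k⟮t⟯ K u := hru.symm.trans (add_comm _ _)
  obtain ⟨σ, hσ⟩ := exists_conj_aut h2 hy' hyy
  have hσt : σ t = t := σ.commutes ⟨t, mem_adjoin_simple_self k t⟩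
  let σ' : K ≃ₐ[k] K := σ.restrictScalars k
  have hm' : ∀ P : Place k K, P.1 (σ y) ≤ exp ((m : ℤ) * (poles t : Divisor k K) P) := by
    intro P
    let Q : Place k K := ⟨P.1.comap (σ' : K →+* K), fun c => by
      show P.1 (σ' (algebraMap k K c)) ≤ 1
      rw [σ'.commutes]; exact P.2.1 c, fun g => by
      obtain ⟨x, hx⟩ := P.2.2 g
      exact ⟨σ'.symm x, by show P.1 (σ' (σ'.symm x)) = g; rw [σ'.apply_symm_apply, hx]⟩⟩
    have hQ : (poles t : Divisor k K) Q = (poles t : Divisor k K) P := by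
      simp only [poles, Finsupp.mapRange_apply, div_apply hK.1, Place.ord]
      rw [show Q.1 t = P.1 t from congrArg P.1 hσt]
    have := hm Q
    rw [hQ] at this
    exact this
  have hyσ : algebraMap k⟮t⟯ K r = y + σ y := by rw [hσ]; ring
  have hr : ∀ P : Place k K, P.1 (algebraMap k⟮t⟯ K r) ≤ exp ((m : ℤ) * (poles t : Divisor k K) P) :=
    fun P => by rw [hyσ]; exact (P.1.map_add _ _).trans (max_le (hm P) (hm' P))
  have hu : ∀ P : Place k K, P.1 (algebraMap k⟮t⟯ K u) ≤ exp (((2 * m : ℕ) : ℤ) * (poles t : Divisor k K) P) :=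
    fun P => by
    rw [show algebraMap k⟮t⟯ K u = -(y * σ y) by rw [hσ]; linear_combination -hyy, Valuation.map_neg, map_mul]
    refine (mul_le_mul' (hm P) (hm' P)).trans (le_of_eq ?_)
    rw [← exp_add]; push_cast; ring_nf
  obtain ⟨q, hq, hqd⟩ := exists_poly hK ht r.2 hr
  obtain ⟨p, hp, hpd⟩ := exists_poly hK ht u.2 hu
  refine ⟨p, -q, ?_, by rwa [natDegree_neg], hpd⟩
  have hq' : aeval t q = algebraMap k⟮t⟯ K r := hq
  have hp' : aeval t p = algebraMap k⟮t⟯ K u := hp
  rw [map_neg, hq', hp']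
  linear_combination hyy

include hK ht h2 in
/-- The lower bound on the degrees. -/
theorem le_max_natDegree {y : K} (hy : y ∉ k⟮t⟯) {p q : k[X]}
    (he : y ^ 2 + aeval t q * y = aeval t p) :
    2 * genus k K + 1 ≤ max (2 * q.natDegree) p.natDegree := by
  by_contra hlt
  obtain ⟨g, hg⟩ : ∃ g, genus k K = g := ⟨_, rfl⟩
  rw [hg] at hlt
  let D := (g : ℤ) • (poles t : Divisor k K)
  have hpolyb : ∀ (s : k[X]) (n : ℕ), s.natDegree ≤ n → ∀ P : Place k K,
      P.1 (aeval t s) ≤ exp ((n : ℤ) * (poles t : Divisor k K) P) := fun s n hs P => by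
    rw [aeval_eq_sum_range]
    refine Valuation.map_sum_le _ fun i hi => ?_
    rw [Finset.mem_range] at hi
    by_cases hc : s.coeff i = 0
    · rw [hc, zero_smul, map_zero]; exact (zero_lt_iff.2 exp_ne_zero).le
    · rw [val_smul P hc]
      simpa using mem_L.1 (pow_mem_L ht (show i ≤ n by omega) hK.1) P
  have hy0 : y ≠ 0 := fun h => hy (h ▸ zero_mem _)
  have hyL : y ∈ L D := by
    refine mem_L.2 fun P => ?_
    simp only [D, Finsupp.smul_apply, smul_eq_mul]
    by_contra hlt'
    rw [not_le] at hlt'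
    have hq := (hpolyb q g (by omega) P).trans_lt hlt'
    have hp := hpolyb p (2 * g) (by omega) P
    have hsum : P.1 (y ^ 2 + aeval t q * y) = P.1 (y ^ 2) := by
      refine Valuation.map_add_eq_of_lt_left _ ?_
      rw [map_mul, map_pow, pow_two]
      exact mul_lt_mul_of_pos_right hq (zero_lt_iff.2 (val_ne_zero P hy0))
    rw [he] at hsum
    rw [hsum, map_pow, val_eq_exp P hy0, ← exp_nsmul, exp_le_exp] at hp
    rw [val_eq_exp P hy0, exp_lt_exp] at hlt'
    rw [two_nsmul] at hp
    push_cast at hp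
    nlinarith
  haveI := L_finite hK.1 D
  let W : Submodule k K := (Polynomial.degreeLT k (g + 1)).map (aeval t).toLinearMap
  haveI : Module.Finite k (Polynomial.degreeLT k (g + 1)) := Module.Finite.equiv (degreeLTEquiv k (g + 1)).symm
  have hW : W ≤ L D := by
    rintro _ ⟨s, hs, rfl⟩
    refine mem_L.2 fun P => ?_
    have hd : s.natDegree ≤ g := by
      rcases eq_or_ne s 0 with rfl | h
      · simp
      · exact Nat.lt_succ_iff.1 ((natDegree_lt_iff_degree_lt h).2 (mem_degreeLT.1 hs))
    simpa [D] using hpolyb s g hd P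
  have hWlt : W < L D := lt_of_le_of_ne hW fun h => hy <| by
    obtain ⟨s, -, hs⟩ := show y ∈ W by rw [h]; exact hyL
    rw [← hs]
    exact algebra_adjoin_le_adjoin k _ (Polynomial.aeval_mem_adjoin_singleton k t)
  have hWdim : Module.finrank k W = g + 1 := by
    rw [← (Submodule.equivMapOfInjective _ (transcendental_iff_injective.1 ht) _).finrank_eq,
      (degreeLTEquiv k (g + 1)).finrank_eq, Module.finrank_fin_fun]
  have h3 := Submodule.finrank_lt_finrank_of_lt hWlt
  have h4 := ell_poles hK ht h2 (m := g) hg.le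
  change Module.finrank k W < ell D at h3
  change (ell D : ℤ) = _ at h4
  omega

include hK ht h2 in
theorem adjoin_pair_eq_top {y : K} (hy : y ∉ k⟮t⟯) : adjoin k ({t, y} : Set K) = ⊤ := by
  have hy' : y ∉ Set.range (algebraMap k⟮t⟯ K) := fun ⟨c, hc⟩ => hy (hc ▸ c.2)
  refine eq_top_iff.2 fun z _ => ?_
  obtain ⟨a, b, rfl⟩ := exists_eq_add_mul h2 hy' z
  have hle : k⟮t⟯ ≤ adjoin k ({t, y} : Set K) := adjoin.mono k _ _ (by simp)
  exact add_mem (hle a.2) (mul_mem (hle b.2) (subset_adjoin k _ (by simp)))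

include hK ht h2 in
/-- The hyperelliptic equation, with `Q = 0` possible away from characteristic two. -/
theorem exists_hyperelliptic_equation :
    (∃ (y : K) (P Q : k[X]), adjoin k ({t, y} : Set K) = ⊤ ∧ y ^ 2 + aeval t Q * y = aeval t P ∧
      2 * genus k K + 1 ≤ max (2 * Q.natDegree) P.natDegree ∧
      max (2 * Q.natDegree) P.natDegree ≤ 2 * genus k K + 2) ∧
    ((2 : k) ≠ 0 → ∃ (y : K) (P : k[X]), adjoin k ({t, y} : Set K) = ⊤ ∧ y ^ 2 = aeval t P ∧
      2 * genus k K + 1 ≤ P.natDegree ∧ P.natDegree ≤ 2 * genus k K + 2) := by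
  obtain ⟨y, hy, hm⟩ := exists_gen hK ht h2
  obtain ⟨p, q, he, hq, hp⟩ := exists_equation hK ht h2 hy hm
  refine ⟨⟨y, p, q, adjoin_pair_eq_top hK ht h2 hy, he, le_max_natDegree hK ht h2 hy he, by omega⟩, fun h => ?_⟩
  obtain ⟨s, hsd⟩ : ∃ s : k[X], s = C (2⁻¹ : k) * q := ⟨_, rfl⟩
  have hs : 2 * s = q := by
    rw [hsd, ← mul_assoc, show (2 : k[X]) = C (2 : k) from (map_ofNat C 2).symm, ← C_mul, mul_inv_cancel₀ h, C_1, one_mul]
  have hy'' : y + aeval t s ∉ k⟮t⟯ := fun h' => hy (by
    simpa using sub_mem h' (algebra_adjoin_le_adjoin k _ (Polynomial.aeval_mem_adjoin_singleton k t (p := s))))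
  have he' : (y + aeval t s) ^ 2 + aeval t (0 : k[X]) * (y + aeval t s) = aeval t (p + s ^ 2) := by
    rw [map_zero, zero_mul, add_zero, map_add, map_pow, ← he, ← hs, map_mul, map_ofNat]
    ring
  have hl := le_max_natDegree hK ht h2 hy'' he'
  rw [natDegree_zero, mul_zero, Nat.zero_max] at hl
  refine ⟨y + aeval t s, p + s ^ 2, adjoin_pair_eq_top hK ht h2 hy'', by rw [← he']; simp, hl,
    (natDegree_add_le _ _).trans (max_le (by omega) ?_)⟩
  refine natDegree_pow_le.trans ?_
  have : s.natDegree ≤ q.natDegree := hsd ▸ natDegree_C_mul_le _ _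
  omega

end Groth.Agent.CurvFam16.FFHyp
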