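import Groth.Agent.FFLib.Diff.RH
import Groth.Agent.FFLib.Diff.ScalarExt
import Groth.Agent.FFLib.RR
import Groth.Agent.FFLib.Trace.Local
import Mathlib.FieldTheory.AlgebraicClosure

/-! The genus inequality for separable extensions of arbitrary function fields, via traces of repartitions. -/

set_option linter.style.haveILetI false
set_option linter.unusedSectionVars false

namespace Groth.Agent.CurvFam16.FFTrace

open FunFld WithZero IntermediateField
open Groth.Agent.FFLib

universe u v

section Scalars

variable {k k' : Type u} {K' : Type v} [Field k] [Field k'] [Field K'] [Algebra k k'] [Algebra k' K'] [Algebra k K']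
  [IsScalarTower k k' K'] [FiniteDimensional k k']

/-- The places over the two constant fields. -/
noncomputable def placeEquiv : Place k' K' ≃ Place k K' := Equiv.ofBijective _ restrPlace_bijective

theorem placeEquiv_val (Q : Place k' K') : (placeEquiv (k := k) Q).1 = Q.1 := rfl

/-- A divisor read over the larger constant field. -/
noncomputable def upDiv (D : Divisor k K') : Divisor k' K' :=
  Finsupp.equivMapDomain (placeEquiv (k := k) (k' := k')).symm D

theorem upDiv_apply (D : Divisor k K') (Q : Place k' K') : upDiv D Q = D (placeEquiv Q) := by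
  rw [upDiv, Finsupp.equivMapDomain_apply, Equiv.symm_symm]

theorem deg_upDiv (D : Divisor k K') :
    (Module.finrank k k' : ℤ) * (upDiv (k' := k') D).deg = D.deg := by
  classical
  rw [upDiv, Divisor.deg, Divisor.deg, Finsupp.sum_equivMapDomain, Finsupp.mul_sum]
  refine Finset.sum_congr rfl fun Q _ => ?_
  have h := deg_restrPlace (k := k) ((placeEquiv (k := k) (k' := k') (K' := K')).symm Q)
  rw [show restrPlace ((placeEquiv (k := k) (k' := k') (K' := K')).symm Q) = Q from
    (placeEquiv (k := k) (k' := k')).apply_symm_apply Q] at h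
  simp only []
  rw [h]
  push_cast
  ring

/-- `L(D)` does not depend on the constants. -/
theorem ell_upDiv (D : Divisor k K') : (Module.finrank k k' : ℤ) * ell (upDiv (k' := k') D) = ell D := by
  have h : (FunFld.L (upDiv (k' := k') D)).restrictScalars k = FunFld.L D := by
    ext x
    show (∀ Q : Place k' K', Q.1 x ≤ exp (upDiv (k' := k') D Q)) ↔ ∀ P : Place k K', P.1 x ≤ exp (D P)
    simp only [upDiv_apply]
    exact (placeEquiv (k := k) (k' := k') (K' := K')).forall_congr_left.trans (by
      refine forall_congr' fun P => ?_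
      rw [Equiv.apply_symm_apply]
      rw [← placeEquiv_val (k := k) ((placeEquiv (k := k) (k' := k') (K' := K')).symm P), Equiv.apply_symm_apply])
  have h2 := Module.finrank_mul_finrank k k' (FunFld.L (upDiv (k' := k') D))
  rw [← ((Submodule.restrictScalarsEquiv k k' K' (FunFld.L (upDiv (k' := k') D))).restrictScalars k).finrank_eq,
    h] at h2
  exact_mod_cast h2

end Scalars

section Cotrace

variable {k k' : Type u} {K K' : Type v} [Field k] [Field k'] [Field K] [Field K'] [Algebra k K] [Algebra k k']
  [Algebra k' K'] [Algebra k K'] [IsScalarTower k k' K'] [Algebra K K'] [IsScalarTower k K K']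
  [FiniteDimensional k k'] [FiniteDimensional K K'] [Algebra.IsSeparable K K']

/-- The trace lowers bounds given by conorms. -/
theorem trace_le_exp (hF : IsFF k K) (P : Place k K) (n : ℤ) {z : K'}
    (hz : ∀ (Q : Place k K') (e : ℕ), IsOverWith Q P e → Q.1 z ≤ exp ((e : ℤ) * n)) :
    P.1 (Algebra.trace K K' z) ≤ exp n := by
  obtain ⟨t, ht0, ht⟩ := exists_val_eq_exp P n
  have h := trace_le_one hF P (z := (algebraMap K K' t)⁻¹ * z) fun Q hQ => by
    obtain ⟨e, he⟩ := hQ
    rw [map_mul, map_inv₀, he t, ht, ← exp_nsmul, inv_mul_le_iff₀ (zero_lt_iff.mpr exp_ne_zero), mul_one,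
      nsmul_eq_mul]
    exact hz Q e he
  rw [← map_inv₀, ← Algebra.smul_def, map_smul, smul_eq_mul, map_mul, map_inv₀, ht,
    inv_mul_le_iff₀ (zero_lt_iff.mpr exp_ne_zero), mul_one] at h
  exact h

/-- A Weil differential extends along the trace. -/
theorem exists_not_mem_ADK (hF : IsFF k K) {ω : Module.Dual k (adele k K)} {C : Divisor k K}
    (h0 : ω ≠ 0) (hC : ω ∈ WD C) :
    ADK (upDiv (k' := k') (conorm K' C)) ≠ ⊤ := by
  intro htop
  obtain ⟨θ, hθ⟩ := Algebra.trace_surjective K K' 1
  obtain ⟨c, hc⟩ : ∃ c, ω c ≠ 0 := by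
    by_contra! h
    exact h0 (LinearMap.ext h)
  have hbelow : ∀ Q : Place k' K', ∃ (P : Place k K) (e : ℕ), IsOverWith (placeEquiv Q) P e := fun Q => by
    obtain ⟨P, e, -, he⟩ := exists_over hF (placeEquiv (k := k) Q)
    exact ⟨P, e, he⟩
  choose below e he using hbelow
  let a : Place k' K' → K' := fun Q => θ * algebraMap K K' (c.1 (below Q))
  have ha : a ∈ adele k' K' := by
    show ∀ᶠ Q : Place k' K' in Filter.cofinite, Q.1 (a Q) ≤ 1
    rw [Filter.eventually_cofinite]
    have hθfin : {Q : Place k' K' | ¬ Q.1 θ ≤ 1}.Finite := by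
      refine ((finite_support_ord (hF.ext (K' := K')) θ).preimage
        ((placeEquiv (k := k) (k' := k') (K' := K')).injective.injOn)).subset fun Q hQ h => hQ ?_
      rcases eq_or_ne θ 0 with hθ0 | hθ0
      · rw [hθ0, map_zero]; exact zero_le
      · have h' : (placeEquiv (k := k) Q).ord θ = 0 := h
        rw [← placeEquiv_val (k := k) Q, val_eq_exp _ hθ0, h', neg_zero, exp_zero]
    have hcfin : {P : Place k K | ¬ P.1 (c.1 P) ≤ 1}.Finite := Filter.eventually_cofinite.1 c.2
    refine (hθfin.union ((hcfin.biUnion fun P _ => over_finite (K' := K') hF P).preimage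
      ((placeEquiv (k := k) (k' := k') (K' := K')).injective.injOn))).subset fun Q hQ => ?_
    by_contra hn
    rw [Set.mem_union, not_or] at hn
    refine hQ ?_
    show Q.1 (θ * algebraMap K K' (c.1 (below Q))) ≤ 1
    rw [map_mul]
    refine mul_le_one' (not_not.1 hn.1) ?_
    rw [← placeEquiv_val (k := k) Q, he Q]
    refine pow_le_one' (not_not.1 fun hb => hn.2 ?_) _
    exact Set.mem_biUnion hb (⟨e Q, he Q⟩ : IsOver _ _)
  have hmem : (⟨a, ha⟩ : adele k' K') ∈ ADK (upDiv (k' := k') (conorm K' C)) := htop ▸ Submodule.mem_top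
  obtain ⟨u, hu, _, ⟨x, rfl⟩, hux⟩ := Submodule.mem_sup.mp hmem
  refine hc (mem_WD.mp hC c (Submodule.mem_sup.mpr ⟨c.1 - diag k K (Algebra.trace K K' x), ?_,
    diag k K (Algebra.trace K K' x), ⟨_, rfl⟩, sub_add_cancel _ _⟩))
  intro P
  rw [Pi.sub_apply, diag_apply]
  have hz : c.1 P - Algebra.trace K K' x = Algebra.trace K K' (θ * algebraMap K K' (c.1 P) - x) := by
    rw [map_sub, mul_comm θ, ← Algebra.smul_def, map_smul, hθ, smul_eq_mul, mul_one]
  rw [hz]
  refine trace_le_exp hF P _ fun Q e' he' => ?_
  obtain ⟨Q', rfl⟩ := (placeEquiv (k := k) (k' := k') (K' := K')).surjective Q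
  obtain ⟨hP, -⟩ := over_unique hF (he Q') he'
  have hb := hu Q'
  rw [upDiv_apply, conorm_apply hF C he'] at hb
  rw [placeEquiv_val]
  have : u Q' = θ * algebraMap K K' (c.1 P) - x := by
    have := congrFun hux Q'
    rw [Pi.add_apply, diag_apply] at this
    rw [← hP]
    exact eq_sub_of_add_eq this
  rwa [this] at hb

/-- `n (2g - 2) ≤ [k' : k] (2g' - 2)`. -/
theorem genus_le (hK : IsFunctionField k K) (hK' : IsFunctionField k' K') :
    (Module.finrank K K' : ℤ) * (2 * (genus k K : ℤ) - 2) ≤
      (Module.finrank k k' : ℤ) * (2 * (genus k' K' : ℤ) - 2) := by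
  obtain ⟨ω, hω, h0⟩ := exists_weil_ne_zero hK
  obtain ⟨C, hC⟩ := exists_isDivOf hK hω h0
  set G : Divisor k' K' := upDiv (conorm K' C) with hG
  have hne : WD G ≠ ⊥ := fun hb => by
    obtain ⟨f, hf0, hf⟩ := Submodule.exists_le_ker_of_lt_top (ADK G)
      (lt_top_iff_ne_top.2 (exists_not_mem_ADK hK.1 h0 ((hC C).2 le_rfl)))
    have hfW : f ∈ WD G := (Submodule.mem_dualAnnihilator f).2 fun a ha => hf ha
    rw [hb, Submodule.mem_bot] at hfW
    exact hf0 hfW
  obtain ⟨η, hη, hη0⟩ := Submodule.exists_mem_ne_zero_of_ne_bot hne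
  obtain ⟨C', hC'⟩ := exists_isDivOf hK' ⟨G, hη⟩ hη0
  have h1 : G.deg ≤ C'.deg := Divisor.deg_mono ((hC' G).1 hη)
  rw [deg_canonical hK' ⟨η, hη0, hC'⟩] at h1
  have h2 := deg_upDiv (k' := k') (conorm K' C)
  rw [deg_conorm hK.1, deg_canonical hK ⟨ω, h0, hC⟩, ← hG] at h2
  rw [← h2]
  exact mul_le_mul_of_nonneg_left h1 (Int.natCast_nonneg _)

end Cotrace

section Closure

variable {k : Type u} {K : Type u} [Field k] [Field K] [Algebra k K]

theorem finite_algebraicClosure (hF : IsFF k K) : FiniteDimensional k (algebraicClosure k K) := by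
  haveI := L_zero_finite hF
  refine Submodule.finiteDimensional_of_le (S₁ := Subalgebra.toSubmodule (algebraicClosure k K).toSubalgebra)
    (S₂ := FunFld.L (0 : Divisor k K)) fun x hx P => ?_
  have hx' : IsAlgebraic k x := mem_algebraicClosure_iff.1 hx
  rw [Finsupp.zero_apply, exp_zero]
  rcases eq_or_ne x 0 with rfl | hx0
  · rw [map_zero]; exact zero_le
  by_contra h
  exact transcendental_of_val_ne_one P hx0 (ne_of_gt (not_le.mp h)) hx'

/-- A function field over its exact field of constants. -/
theorem isFunctionField_algebraicClosure (hF : IsFF k K) : IsFunctionField (algebraicClosure k K) K := by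
  haveI := finite_algebraicClosure hF
  refine ⟨isFF_scalar_ext (K := K) (k' := algebraicClosure k K) hF, fun y hy => ?_⟩
  exact ⟨⟨y, mem_algebraicClosure_iff.2 (hy.restrictScalars k)⟩, rfl⟩

end Closure

section Asymptotic

variable {k : Type u} {K : Type u} [Field k] [Field K] [Algebra k K]

/-- The exact Riemann-Roch constant over any field of constants. -/
theorem exists_ell_eq {k' : Type u} [Field k'] [Algebra k k'] [Algebra k' K] [IsScalarTower k k' K]
    [FiniteDimensional k k'] (hK : IsFunctionField k' K) :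
    ∃ N : ℤ, ∀ D : Divisor k K, N ≤ D.deg →
      (ell D : ℤ) = D.deg + (Module.finrank k k' : ℤ) * (1 - genus k' K) := by
  refine ⟨(Module.finrank k k' : ℤ) * (2 * (genus k' K : ℤ) - 2) + 1, fun D hD => ?_⟩
  have h1 := deg_upDiv (k' := k') D
  have h2 := ell_upDiv (k' := k') D
  have hd : (0 : ℤ) < Module.finrank k k' := by exact_mod_cast Module.finrank_pos
  have h3 := ell_of_deg_gt hK (D := upDiv (k' := k') D) (by
    by_contra hle
    rw [not_lt] at hle
    have := mul_le_mul_of_nonneg_left hle hd.le
    omega)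
  rw [← h2, h3, ← h1]
  ring

/-- The spaces of divisors of degree at most zero are bounded by the constants. -/
theorem ell_le_of_deg_nonpos (hF : IsFF k K) {D : Divisor k K} (hD : D.deg ≤ 0) :
    ell D ≤ ell (0 : Divisor k K) := by
  rcases Nat.eq_zero_or_pos (ell D) with h | h
  · rw [h]; exact Nat.zero_le _
  obtain ⟨z, hz0, -, hz⟩ := exists_le_add_div hF h
  have h1 := (ell_le_of_le hF hz).2
  rw [ell_add_div hF D hz0, Divisor.deg_add, deg_div hF, Divisor.deg_zero] at h1
  omega

end Asymptotic

section Chi

variable {k : Type u} {K K' : Type u} [Field k] [Field K] [Field K'] [Algebra k K] [Algebra k K']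

variable (k K) in
/-- The Euler characteristic of the structure sheaf read in the function field. -/
noncomputable def chi : ℤ :=
  (Module.finrank k (algebraicClosure k K) : ℤ) * (1 - genus (algebraicClosure k K) K)

/-- The Euler characteristic computed with any field of constants. -/
theorem chi_eq (hF : IsFF k K) {k' : Type u} [Field k'] [Algebra k k'] [Algebra k' K] [IsScalarTower k k' K]
    [FiniteDimensional k k'] (hK : IsFunctionField k' K) :
    chi k K = (Module.finrank k k' : ℤ) * (1 - genus k' K) := by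
  haveI := finite_algebraicClosure hF
  obtain ⟨N, hN⟩ := exists_ell_eq (k := k) hK
  obtain ⟨N', hN'⟩ := exists_ell_eq (k := k) (isFunctionField_algebraicClosure hF)
  obtain ⟨D, -, hD⟩ := exists_ge_deg hF (0 : Divisor k K) (max N N')
  have h1 := hN D (le_trans (le_max_left _ _) hD)
  have h2 := hN' D (le_trans (le_max_right _ _) hD)
  unfold chi
  linarith

variable [Algebra K K'] [IsScalarTower k K K'] [FiniteDimensional K K'] [Algebra.IsSeparable K K']

/-- `χ(O_X) ≤ [K' : K] χ(O_Y)`. -/
theorem chi_le (hF : IsFF k K) :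
    chi k K' ≤ (Module.finrank K K' : ℤ) * chi k K := by
  haveI := finite_algebraicClosure hF
  haveI : IsScalarTower k (algebraicClosure k K) K' := IsScalarTower.of_algebraMap_eq fun c =>
    IsScalarTower.algebraMap_apply k K K' c
  have hKY := isFunctionField_algebraicClosure hF
  have hX : IsFF (algebraicClosure k K) K' := IsFF.ext (K := K) hKY.1
  haveI := finite_algebraicClosure hX
  have hKX := isFunctionField_algebraicClosure hX
  haveI : FiniteDimensional k (algebraicClosure (algebraicClosure k K) K') :=
    FiniteDimensional.trans k (algebraicClosure k K) _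
  haveI : IsScalarTower k (algebraicClosure (algebraicClosure k K) K') K' :=
    IsScalarTower.of_algebraMap_eq fun c => rfl
  have hgen := genus_le hKY hKX
  rw [chi_eq (hF.ext) hKX, chi_eq hF hKY, ← Module.finrank_mul_finrank k (algebraicClosure k K)
    (algebraicClosure (algebraicClosure k K) K')]
  have hd : (0 : ℤ) ≤ Module.finrank k (algebraicClosure k K) := Int.natCast_nonneg _
  have := mul_le_mul_of_nonneg_left hgen hd
  push_cast
  linarith

end Chi

end Groth.Agent.CurvFam16.FFTrace
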