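import Groth.Agent.CurvFam16.GenFF.Realize
import Groth.Agent.CurveLuroth.Line
import Mathlib.FieldTheory.RatFunc.IntermediateField
import Mathlib.AlgebraicGeometry.ZariskisMainTheorem

/-! Maps of curves to the projective line and transcendental elements of the function field. -/

noncomputable section

set_option linter.style.haveILetI false
set_option linter.unusedSectionVars false
set_option backward.isDefEq.respectTransparency false
set_option backward.isDefEq.respectTransparency.types false

universe u

open CategoryTheory CategoryTheory.Limits AlgebraicGeometry TopologicalSpace Opposite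

namespace Groth.Agent.CurvFam16.P1Map

attribute [local instance] GenFF.ffAlg

/-- Residue fields at generic points are the function fields. -/
theorem residue_bijective (X : Scheme.{u}) [IsIntegral X] :
    Function.Bijective (X.residue (genericPoint X)).hom := by
  haveI : IsField (X.presheaf.stalk (genericPoint X)) := Field.toIsField X.functionField
  refine ⟨?_, X.residue_surjective _⟩
  letI := (‹IsField (X.presheaf.stalk (genericPoint X))›).toField
  exact (X.residue (genericPoint X)).hom.injective

/-- The map of function fields. -/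
abbrev ffMap {X Y : Scheme.{u}} [IrreducibleSpace X] [IrreducibleSpace Y] (f : X ⟶ Y)
    (e : f (genericPoint X) = genericPoint Y) : Y.functionField ⟶ X.functionField :=
  Y.presheaf.stalkSpecializes (specializes_of_eq e) ≫ f.stalkMap (genericPoint X)

theorem residueDegree_eq {X Y : Scheme.{u}} [IsIntegral X] [IsIntegral Y] (f : X ⟶ Y)
    (e : f (genericPoint X) = genericPoint Y) :
    (f.residueDegree (genericPoint X) = @Module.finrank Y.functionField X.functionField _ _
        (ffMap f e).hom.toAlgebra.toModule) ∧
    ((letI := (f.residueFieldMap (genericPoint X)).hom.toAlgebra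
      Algebra.IsSeparable (Y.residueField (f (genericPoint X))) (X.residueField (genericPoint X))) ↔
     (letI := (ffMap f e).hom.toAlgebra
      Algebra.IsSeparable Y.functionField X.functionField)) := by
  let sp := Y.presheaf.stalkSpecializes (specializes_of_eq e)
  have hsp : Function.Bijective sp.hom := by
    haveI : IsIso sp := by
      have key : ∀ (z : Y) (h : z = genericPoint Y), IsIso (Y.presheaf.stalkSpecializes (specializes_of_eq h)) := by
        rintro z rfl
        rw [TopCat.Presheaf.stalkSpecializes_refl]
        infer_instance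
      exact key _ e
    exact ConcreteCategory.bijective_of_isIso sp
  have hresY : Function.Bijective (Y.residue (f (genericPoint X))).hom := by
    have key : ∀ (z : Y), z = genericPoint Y → Function.Bijective (Y.residue z).hom := by
      rintro z rfl; exact residue_bijective Y
    exact key _ e
  let i : Y.functionField ≃+* Y.residueField (f (genericPoint X)) :=
    RingEquiv.ofBijective ((Y.residue (f (genericPoint X))).hom.comp sp.hom) (hresY.comp hsp)
  let j : X.functionField ≃+* X.residueField (genericPoint X) :=
    RingEquiv.ofBijective (X.residue (genericPoint X)).hom (residue_bijective X)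
  letI := (ffMap f e).hom.toAlgebra
  letI := (f.residueFieldMap (genericPoint X)).hom.toAlgebra
  have hc : RingHom.comp (algebraMap (Y.residueField (f (genericPoint X))) (X.residueField (genericPoint X)))
      i.toRingHom = RingHom.comp j.toRingHom (algebraMap Y.functionField X.functionField) := by
    ext a
    exact ConcreteCategory.congr_hom (Scheme.residue_residueFieldMap f (genericPoint X)) (sp a)
  have hc' : RingHom.comp (algebraMap Y.functionField X.functionField) i.symm.toRingHom =
      RingHom.comp j.symm.toRingHom
        (algebraMap (Y.residueField (f (genericPoint X))) (X.residueField (genericPoint X))) := by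
    ext b
    obtain ⟨a, rfl⟩ := i.surjective b
    have h := congrArg j.symm (RingHom.congr_fun hc a)
    simp only [RingHom.comp_apply, RingEquiv.toRingHom_eq_coe, RingEquiv.coe_toRingHom, RingEquiv.symm_apply_apply] at h ⊢
    exact h.symm
  refine ⟨(Algebra.finrank_eq_of_equiv_equiv i j hc).symm, fun h => ?_, fun h => ?_⟩
  · exact Algebra.IsSeparable.of_equiv_equiv i.symm j.symm hc'
  · exact Algebra.IsSeparable.of_equiv_equiv i j hc

variable {k : Type u} [Field k] {X : Scheme.{u}} [X.Over (Spec (CommRingCat.of k))] [IsIntegral X]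

theorem ffC_eq (c : k) :
    (CurveLuroth.ffC (X ↘ Spec (CommRingCat.of k))).hom c = algebraMap k X.functionField c := by
  have h : CurveLuroth.ffC (X ↘ Spec (CommRingCat.of k)) =
      (Scheme.ΓSpecIso (CommRingCat.of k)).inv ≫ (X ↘ Spec (CommRingCat.of k)).appTop ≫
        X.presheaf.germ ⊤ (genericPoint X) trivial := by
    apply Spec.map_injective
    rw [CurveLuroth.spec_ffC, Spec.map_comp, Spec.map_comp, ← Scheme.fromSpecStalk_toSpecΓ]
    simp only [Category.assoc]
    rw [← Scheme.toSpecΓ_naturality_assoc]
    simp
  rw [h]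
  rfl

theorem adjoin_range (w : RatFunc k →ₐ[k] X.functionField) :
    IntermediateField.adjoin k ({w RatFunc.X} : Set X.functionField) = w.fieldRange := by
  rw [AlgHom.fieldRange_eq_map, ← RatFunc.adjoin_X (K := k), IntermediateField.adjoin_map, Set.image_singleton]

theorem finrank_sep_of_equiv (w : RatFunc k →ₐ[k] X.functionField) :
    letI := w.toRingHom.toAlgebra
    (Module.finrank (RatFunc k) X.functionField =
      Module.finrank (IntermediateField.adjoin k ({w RatFunc.X} : Set X.functionField)) X.functionField) ∧
    (Algebra.IsSeparable (RatFunc k) X.functionField ↔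
      Algebra.IsSeparable (IntermediateField.adjoin k ({w RatFunc.X} : Set X.functionField)) X.functionField) := by
  letI := w.toRingHom.toAlgebra
  let i : RatFunc k ≃+* IntermediateField.adjoin k ({w RatFunc.X} : Set X.functionField) :=
    ((AlgEquiv.ofInjectiveField w).trans (IntermediateField.equivOfEq (adjoin_range w).symm)).toRingEquiv
  have hc : RingHom.comp (algebraMap (IntermediateField.adjoin k ({w RatFunc.X} : Set X.functionField)) X.functionField)
      i.toRingHom = RingHom.comp (RingEquiv.refl X.functionField).toRingHom (algebraMap (RatFunc k) X.functionField) := rfl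
  have hc' : RingHom.comp (algebraMap (RatFunc k) X.functionField) i.symm.toRingHom =
      RingHom.comp (RingEquiv.refl X.functionField).symm.toRingHom
        (algebraMap (IntermediateField.adjoin k ({w RatFunc.X} : Set X.functionField)) X.functionField) := by
    ext b
    exact congrArg Subtype.val (i.apply_symm_apply b)
  exact ⟨Algebra.finrank_eq_of_equiv_equiv i (RingEquiv.refl _) hc,
    fun h => Algebra.IsSeparable.of_equiv_equiv i (RingEquiv.refl _) hc,
    fun h => Algebra.IsSeparable.of_equiv_equiv i.symm (RingEquiv.refl _).symm hc'⟩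

variable [IsProper (X ↘ Spec (CommRingCat.of k))] (hdim : topologicalKrullDim X = 1)

include k hdim in
theorem genericPoint_map_eq {Y : Scheme.{u}} [Y.Over (Spec (CommRingCat.of k))] [IsIntegral Y]
    [IsProper (Y ↘ Spec (CommRingCat.of k))] (hY : topologicalKrullDim Y = 1) (f : X ⟶ Y) [IsFinite f] :
    f (genericPoint X) = genericPoint Y := by
  by_contra hne
  haveI := CurveCohLib.isNoetherian_of_proper (k := k) (X := Y)
  have hy : IsClosed ({f (genericPoint X)} : Set Y) :=
    by_contra fun h => hne (CurveCohLib.eq_genericPoint_of_not_isClosed hY h)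
  have hall : ∀ x : X, f x = f (genericPoint X) := fun x =>
    (((genericPoint_spec X).specializes (Set.mem_univ x)).map f.continuous).mem_closed hy (Set.mem_singleton _)
  have hfin : (Set.univ : Set X).Finite := by
    refine (f.finite_preimage_singleton (f (genericPoint X))).subset fun x _ => hall x
  haveI : JacobsonSpace X := LocallyOfFiniteType.jacobsonSpace (X ↘ Spec (CommRingCat.of k))
  refine GenFF.not_closed_generic hdim ?_
  have hS : IsClosed (Set.univ \ {genericPoint X} ∩ {x : X | IsClosed ({x} : Set X)}) := by
    have h1 : (Set.univ \ {genericPoint X} ∩ {x : X | IsClosed ({x} : Set X)}).Finite := hfin.subset (Set.subset_univ _)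
    rw [← Set.biUnion_of_singleton (Set.univ \ {genericPoint X} ∩ {x : X | IsClosed ({x} : Set X)})]
    exact h1.isClosed_biUnion fun x hx => hx.2
  obtain ⟨y, hy1, hy2⟩ := nonempty_inter_closedPoints (Z := (Set.univ \ {genericPoint X} ∩ {x : X | IsClosed ({x} : Set X)})ᶜ)
    ⟨genericPoint X, fun h => h.1.2 rfl⟩ hS.isOpen_compl.isLocallyClosed
  by_cases hyη : y = genericPoint X
  · exact hyη ▸ hy2
  · exact absurd ⟨⟨trivial, hyη⟩, hy2⟩ hy1

include hdim in
/-- A finite map to the line gives an element of the function field. -/
theorem exists_t_of_map (f : X ⟶ CohB1.ProjSpace 1 k)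
    (hf : f ≫ CohB1.ProjSpace.toSpec 1 k = X ↘ Spec (CommRingCat.of k)) [IsFinite f] :
    ∃ t : X.functionField, Transcendental k t ∧
      Module.finrank (IntermediateField.adjoin k ({t} : Set X.functionField)) X.functionField =
        f.residueDegree (genericPoint X) ∧
      ((letI := (f.residueFieldMap (genericPoint X)).hom.toAlgebra
        Algebra.IsSeparable ((CohB1.ProjSpace 1 k).residueField (f (genericPoint X))) (X.residueField (genericPoint X))) ↔
        Algebra.IsSeparable (IntermediateField.adjoin k ({t} : Set X.functionField)) X.functionField) := by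
  letI := H23.PnChart.isIntegral_projSpace 1 k
  letI : (CohB1.ProjSpace 1 k).Over (Spec (CommRingCat.of k)) := ⟨CohB1.ProjSpace.toSpec 1 k⟩
  haveI : IsProper ((CohB1.ProjSpace 1 k) ↘ Spec (CommRingCat.of k)) := PnCoh.Chow.isProper_toSpec 1 k
  have hP : topologicalKrullDim ↥(CohB1.ProjSpace 1 k) = 1 := by simpa using S10829.result k 1
  have e := genericPoint_map_eq (k := k) hdim hP f
  have hψ : CurveLuroth.ffC (CohB1.ProjSpace.toSpec 1 k) ≫ ffMap f e =
      CurveLuroth.ffC (X ↘ Spec (CommRingCat.of k)) := by
    apply Spec.map_injective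
    rw [CurveLuroth.spec_ffC, Spec.map_comp, Spec.map_comp, CurveLuroth.spec_ffC, Category.assoc,
      Scheme.SpecMap_stalkSpecializes_fromSpecStalk_assoc, Scheme.SpecMap_stalkMap_fromSpecStalk_assoc, hf]
  obtain ⟨θ, hθ⟩ := CurveLuroth.exists_iso_line_field k
  have hw : ∀ c : k, (θ.inv ≫ ffMap f e).hom (algebraMap k (RatFunc k) c) = algebraMap k X.functionField c := by
    intro c
    rw [← ffC_eq, ← hψ]
    have h2 : (CurveLuroth.ratC k ≫ θ.inv).hom c = (CurveLuroth.ffC (CohB1.ProjSpace.toSpec 1 k)).hom c := by
      rw [← hθ, Category.assoc, θ.hom_inv_id, Category.comp_id]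
    exact congrArg (ffMap f e).hom h2
  let w : RatFunc k →ₐ[k] X.functionField := { (θ.inv ≫ ffMap f e).hom with commutes' := hw }
  refine ⟨w RatFunc.X, fun h => RatFunc.transcendental_X ((isAlgebraic_algHom_iff w w.toRingHom.injective).1 h), ?_, ?_⟩ <;>
    obtain ⟨h1, h1'⟩ := residueDegree_eq f e <;> obtain ⟨h2, h2'⟩ := finrank_sep_of_equiv w
  all_goals letI := (ffMap f e).hom.toAlgebra
  all_goals letI := w.toRingHom.toAlgebra
  all_goals
    have hc : RingHom.comp (algebraMap (RatFunc k) X.functionField) θ.commRingCatIsoToRingEquiv.toRingHom =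
        RingHom.comp (RingEquiv.refl X.functionField).toRingHom
          (algebraMap (CohB1.ProjSpace 1 k).functionField X.functionField) :=
      RingHom.ext fun a => congrArg (ffMap f e).hom (ConcreteCategory.congr_hom θ.hom_inv_id a)
  · rw [← h2, h1]
    exact (Algebra.finrank_eq_of_equiv_equiv θ.commRingCatIsoToRingEquiv (RingEquiv.refl _) hc).symm
  · rw [← h2', h1']
    refine ⟨fun h => Algebra.IsSeparable.of_equiv_equiv θ.commRingCatIsoToRingEquiv (RingEquiv.refl _) hc, fun h => ?_⟩
    refine Algebra.IsSeparable.of_equiv_equiv θ.symm.commRingCatIsoToRingEquiv (RingEquiv.refl X.functionField).symm ?_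
    exact RingHom.ext fun a => rfl

variable [Smooth (X ↘ Spec (CommRingCat.of k))]

include hdim in
/-- A transcendental element gives a finite map to the line. -/
theorem exists_map_of_t {t : X.functionField} (ht : Transcendental k t) :
    ∃ f : X ⟶ CohB1.ProjSpace 1 k, f ≫ CohB1.ProjSpace.toSpec 1 k = X ↘ Spec (CommRingCat.of k) ∧ IsFinite f ∧
      f.residueDegree (genericPoint X) =
        Module.finrank (IntermediateField.adjoin k ({t} : Set X.functionField)) X.functionField ∧
      ((letI := (f.residueFieldMap (genericPoint X)).hom.toAlgebra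
        Algebra.IsSeparable ((CohB1.ProjSpace 1 k).residueField (f (genericPoint X))) (X.residueField (genericPoint X))) ↔
        Algebra.IsSeparable (IntermediateField.adjoin k ({t} : Set X.functionField)) X.functionField) := by
  letI := H23.PnChart.isIntegral_projSpace 1 k
  letI : (CohB1.ProjSpace 1 k).Over (Spec (CommRingCat.of k)) := ⟨CohB1.ProjSpace.toSpec 1 k⟩
  haveI hp : IsProper (CohB1.ProjSpace.toSpec 1 k) := PnCoh.Chow.isProper_toSpec 1 k
  haveI : IsProper ((CohB1.ProjSpace 1 k) ↘ Spec (CommRingCat.of k)) := hp
  haveI hPsep : (CohB1.ProjSpace 1 k).IsSeparated := ⟨by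
    rw [← Limits.terminal.comp_from (CohB1.ProjSpace.toSpec 1 k)]; infer_instance⟩
  obtain ⟨θ, hθ⟩ := CurveLuroth.exists_iso_line_field k
  let w : RatFunc k →ₐ[k] X.functionField :=
    RatFunc.liftAlgHom (Polynomial.aeval t) fun p hp => by
      rw [Submonoid.mem_comap, mem_nonZeroDivisors_iff_ne_zero]
      exact fun h => nonZeroDivisors.ne_zero hp (transcendental_iff_injective.1 ht (h.trans (map_zero _).symm))
  have hwX : w RatFunc.X = t := by
    show RatFunc.liftAlgHom _ _ _ = _
    rw [RatFunc.liftAlgHom_apply, RatFunc.num_X, RatFunc.denom_X]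
    simp
  let ψ : (CohB1.ProjSpace 1 k).functionField ⟶ X.functionField := θ.hom ≫ CommRingCat.ofHom w.toRingHom
  have hψ : CurveLuroth.ffC (CohB1.ProjSpace.toSpec 1 k) ≫ ψ = CurveLuroth.ffC (X ↘ Spec (CommRingCat.of k)) := by
    rw [reassoc_of% hθ]
    ext c
    exact (w.commutes c).trans (ffC_eq c).symm
  have h₀ : (Spec.map ψ ≫ (CohB1.ProjSpace 1 k).fromSpecStalk (genericPoint (CohB1.ProjSpace 1 k))) ≫
      CohB1.ProjSpace.toSpec 1 k = X.fromSpecStalk _ ≫ (X ↘ Spec (CommRingCat.of k)) := by
    rw [Category.assoc, ← CurveLuroth.spec_ffC, ← Spec.map_comp, hψ, CurveLuroth.spec_ffC]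
  have hval : ∀ p : X, ValuationRing (X.presheaf.stalk p) := fun p => by
    rcases GenFF.eq_or_isClosed k X hdim p with rfl | hp
    · show ValuationRing X.functionField
      infer_instance
    · haveI := GenFF.isDVR k X hdim hp
      infer_instance
  obtain ⟨W, hW, H, hsub, hH, hH'⟩ := H23.RatExtend.extend (X ↘ Spec (CommRingCat.of k))
    (CohB1.ProjSpace.toSpec 1 k) _ h₀ Set.univ
    fun p _ => H23.RatExtend.exists_lift (X ↘ Spec (CommRingCat.of k)) (CohB1.ProjSpace.toSpec 1 k) _ h₀ p (hval p)
  haveI : IsIso W.ι := by
    have : Surjective W.ι := ⟨fun y => ⟨⟨y, hsub trivial⟩, rfl⟩⟩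
    exact (isIso_iff_isOpenImmersion_and_surjective _).2 ⟨inferInstance, this⟩
  let f : X ⟶ CohB1.ProjSpace 1 k := inv W.ι ≫ H
  have hf : f ≫ CohB1.ProjSpace.toSpec 1 k = X ↘ Spec (CommRingCat.of k) := by
    rw [Category.assoc, hH, IsIso.inv_hom_id_assoc]
  have hfs : X.fromSpecStalk (genericPoint X) ≫ f =
      Spec.map ψ ≫ (CohB1.ProjSpace 1 k).fromSpecStalk (genericPoint (CohB1.ProjSpace 1 k)) := by
    rw [← hH', ← Scheme.Opens.fromSpecStalkOfMem_ι W (genericPoint X) hW, Category.assoc, IsIso.hom_inv_id_assoc]
  have e : f (genericPoint X) = genericPoint (CohB1.ProjSpace 1 k) := by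
    have h := congrArg (fun g => g (IsLocalRing.closedPoint X.functionField)) hfs
    haveI : Subsingleton (Spec (CohB1.ProjSpace 1 k).functionField) :=
      inferInstanceAs (Subsingleton (PrimeSpectrum (CohB1.ProjSpace 1 k).functionField))
    simp only [Scheme.Hom.comp_apply] at h
    rw [Subsingleton.elim (Spec.map ψ (IsLocalRing.closedPoint X.functionField))
      (IsLocalRing.closedPoint (CohB1.ProjSpace 1 k).functionField)] at h
    erw [Scheme.fromSpecStalk_closedPoint, Scheme.fromSpecStalk_closedPoint] at h
    exact h
  haveI : IsProper f := by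
    haveI : IsProper (f ≫ CohB1.ProjSpace.toSpec 1 k) := hf ▸ inferInstance
    exact IsProper.of_comp f (CohB1.ProjSpace.toSpec 1 k)
  haveI : LocallyQuasiFinite f := by
    haveI := CurveCohLib.isNoetherian_of_proper (k := k) (X := X)
    refine .of_finite_preimage_singleton f fun y => ?_
    by_cases hy : IsClosed ({y} : Set ↥(CohB1.ProjSpace 1 k))
    · refine CurveCohLib.finite_of_closedPoints (hy.preimage f.continuous) fun x hx => ?_
      by_contra hxc
      obtain rfl := CurveCohLib.eq_genericPoint_of_not_isClosed hdim hxc
      have hP : topologicalKrullDim ↥(CohB1.ProjSpace 1 k) = 1 := by simpa using S10829.result k 1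
      exact GenFF.not_closed_generic hP ((show f (genericPoint X) = y from hx).symm.trans e ▸ hy)
    · refine (Set.finite_singleton (genericPoint X)).subset fun x hx => ?_
      by_contra hne
      have hxc : IsClosed ({x} : Set X) := by_contra fun h => hne (CurveCohLib.eq_genericPoint_of_not_isClosed hdim h)
      refine hy ?_
      have := f.isClosedMap _ hxc
      rwa [Set.image_singleton, show f x = y from hx] at this
  haveI : IsFinite f := IsFinite.of_isProper_of_locallyQuasiFinite f
  have hff : ffMap f e = ψ := by
    apply Spec.map_injective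
    rw [← cancel_mono ((CohB1.ProjSpace 1 k).fromSpecStalk (genericPoint (CohB1.ProjSpace 1 k))), ← hfs,
      Spec.map_comp, Category.assoc, Scheme.SpecMap_stalkSpecializes_fromSpecStalk,
      Scheme.SpecMap_stalkMap_fromSpecStalk]
  obtain ⟨h1, h1'⟩ := residueDegree_eq f e
  obtain ⟨h2, h2'⟩ := finrank_sep_of_equiv w
  rw [hff] at h1 h1'
  rw [hwX] at h2 h2'
  refine ⟨f, hf, inferInstance, ?_, ?_⟩
  all_goals letI := ψ.hom.toAlgebra
  all_goals letI := w.toRingHom.toAlgebra
  all_goals
    have hc : RingHom.comp (algebraMap (RatFunc k) X.functionField) θ.commRingCatIsoToRingEquiv.toRingHom =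
        RingHom.comp (RingEquiv.refl X.functionField).toRingHom
          (algebraMap (CohB1.ProjSpace 1 k).functionField X.functionField) := rfl
  · rw [← h2, h1]
    exact Algebra.finrank_eq_of_equiv_equiv θ.commRingCatIsoToRingEquiv (RingEquiv.refl _) hc
  · rw [← h2', h1']
    refine ⟨fun h => Algebra.IsSeparable.of_equiv_equiv θ.commRingCatIsoToRingEquiv (RingEquiv.refl _) hc, fun h => ?_⟩
    refine Algebra.IsSeparable.of_equiv_equiv θ.symm.commRingCatIsoToRingEquiv (RingEquiv.refl X.functionField).symm ?_
    ext a
    exact congrArg (fun b => w.toRingHom b) (ConcreteCategory.congr_hom θ.inv_hom_id a)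

end Groth.Agent.CurvFam16.P1Map
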