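import Groth.Agent.CurvFam16.BCFF
import Groth.Agent.CurvFam16.FFHom
import Groth.Agent.CurvFam16.FinBirat
import Groth.Agent.CurvFam16.P1Map
import Mathlib.FieldTheory.SeparablyGenerated
import Mathlib.FieldTheory.IsPerfectClosure
import Mathlib.FieldTheory.PurelyInseparable.Basic
import Mathlib.RingTheory.Spectrum.Prime.Homeomorph

/-! Purely inseparable maps of curves are Frobenius twists. -/

noncomputable section

set_option linter.style.haveILetI false
set_option linter.unusedSectionVars false
set_option backward.isDefEq.respectTransparency false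
set_option backward.isDefEq.respectTransparency.types false

universe u

open CategoryTheory CategoryTheory.Limits AlgebraicGeometry TopologicalSpace Opposite TensorProduct
open IntermediateField

namespace Groth.Agent.CurvFam16.FrobTwist

/-- A copy of `k`, an algebra over `k` by the iterated Frobenius. -/
def Tw (k : Type u) (_p _r : ℕ) : Type u := k

instance {k : Type u} [Field k] (p r : ℕ) : Field (Tw k p r) := inferInstanceAs (Field k)

instance {k : Type u} [Field k] (p r : ℕ) [ExpChar k p] : Algebra k (Tw k p r) :=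
  (iterateFrobenius k p r : k →+* Tw k p r).toAlgebra

variable {k : Type u} [Field k] {p r : ℕ} [ExpChar k p]

theorem algebraMap_tw (c : k) : (algebraMap k (Tw k p r) c : k) = c ^ p ^ r :=
  iterateFrobenius_def (R := k) p r c

instance : IsPurelyInseparable k (Tw k p r) := by
  rw [isPurelyInseparable_iff_pow_mem k p]
  exact fun t => ⟨r, ⟨t, algebraMap_tw (k := k) (p := p) (r := r) t⟩⟩

variable (k p r) in
/-- The Frobenius twist of a scheme over `k`. -/
abbrev Twist (X : Scheme.{u}) [X.Over (Spec (CommRingCat.of k))] : Scheme.{u} :=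
  Curv2.bc k X (Tw k p r)

variable {X : Scheme.{u}} [X.Over (Spec (CommRingCat.of k))]

instance twistOver : (Twist k p r X).Over (Spec (CommRingCat.of k)) := ⟨Curv2.bcSnd k X (Tw k p r)⟩

variable (p r) in
theorem smooth_twist [Smooth (X ↘ Spec (CommRingCat.of k))] :
    Smooth (Twist k p r X ↘ Spec (CommRingCat.of k)) :=
  (MorphismProperty.pullback_snd (X ↘ Spec (CommRingCat.of k))
    (Spec.map (CommRingCat.ofHom (algebraMap k (Tw k p r)))) ‹_› :)

variable (p r) in
theorem isProper_twist [IsProper (X ↘ Spec (CommRingCat.of k))] :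
    IsProper (Twist k p r X ↘ Spec (CommRingCat.of k)) :=
  (MorphismProperty.pullback_snd (X ↘ Spec (CommRingCat.of k))
    (Spec.map (CommRingCat.ofHom (algebraMap k (Tw k p r)))) ‹_› :)

variable (p r) in
/-- The twist of an integral smooth scheme is integral. -/
theorem isIntegral_twist [IsIntegral X] [Smooth (X ↘ Spec (CommRingCat.of k))] :
    IsIntegral (Twist k p r X) := by
  haveI := smooth_twist (k := k) p r (X := X)
  haveI : AlgebraicGeometry.IsReduced (Twist k p r X) :=
    GrpSchLib.isReduced_of_smooth_field (Twist k p r X ↘ Spec (CommRingCat.of k))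
  haveI : Surjective (Curv2.bcFst k X (Tw k p r)) :=
    MorphismProperty.pullback_fst _ _ (GrpSchLib.surjective_spec_map_field (algebraMap k (Tw k p r)))
  obtain ⟨η', hη'⟩ := (Curv2.bcFst k X (Tw k p r)).surjective (genericPoint X)
  have key : ∀ z : Twist k p r X, η' ⤳ z := by
    intro z
    obtain ⟨c, P, hP⟩ := GeomField.exists_chart (k := k) (Curv2.bcFst k X (Tw k p r) z)
    have hc : IsHomeomorph (PrimeSpectrum.comap (algebraMap c.R (c.R ⊗[k] Tw k p r))) :=
      PrimeSpectrum.isHomeomorph_comap_of_isPurelyInseparable k (Tw k p r) c.R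
    obtain ⟨Q, hQ⟩ : z ∈ Set.range (c.bcEmb (Tw k p r)) := by
      rw [c.range_bcEmb]; exact ⟨P, hP⟩
    have hη : genericPoint X ∈ Set.range c.emb :=
      ((genericPoint_spec X).mem_open_set_iff c.emb.isOpenEmbedding.isOpen_range).2
        ⟨_, trivial, P, rfl⟩
    obtain ⟨Q', hQ'⟩ : η' ∈ Set.range (c.bcEmb (Tw k p r)) := by
      rw [c.range_bcEmb]; show _ ∈ Set.range c.emb; rw [hη']; exact hη
    have h1 : c.emb (PrimeSpectrum.comap (algebraMap c.R (c.R ⊗[k] Tw k p r)) Q') ⤳
        c.emb (PrimeSpectrum.comap (algebraMap c.R (c.R ⊗[k] Tw k p r)) Q) := by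
      rw [← c.bcFst_bcEmb, ← c.bcFst_bcEmb, hQ', hQ, hη']
      exact genericPoint_specializes _
    have h2 : Q' ⤳ Q := hc.isInducing.specializes_iff.1 (c.emb.isOpenEmbedding.isInducing.specializes_iff.1 h1)
    rw [← hQ, ← hQ']
    exact h2.map (c.bcEmb (Tw k p r)).continuous
  haveI : Nonempty (Twist k p r X) := ⟨η'⟩
  haveI : PreirreducibleSpace (Twist k p r X) :=
    ⟨fun u v hu hv ⟨a, _, ha⟩ ⟨b, _, hb⟩ =>
      ⟨η', trivial, (key a).mem_open hu ha, (key b).mem_open hv hb⟩⟩
  haveI : IrreducibleSpace (Twist k p r X) := ⟨⟨η'⟩⟩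
  exact isIntegral_of_irreducibleSpace_of_isReduced _

attribute [local instance] GenFF.ffAlg

/-- The twist's function field is a copy of `k(K^q)`. -/
theorem exists_theta [IsIntegral X] [IsIntegral (Twist k p r X)] :
    ∃ θ : (Twist k p r X).functionField →ₐ[k] X.functionField,
      (∀ a : X.functionField, a ^ p ^ r ∈ θ.fieldRange) ∧
      ∀ E : IntermediateField k X.functionField, (∀ a : X.functionField, a ^ p ^ r ∈ E) → θ.fieldRange ≤ E := by
  haveI hX : IsIntegral (Curv2.bc k X (Tw k p r)) := ‹IsIntegral (Twist k p r X)›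
  obtain ⟨π, hπ', hgen'⟩ := BCFF.exists_ff_bc k X (Tw k p r)
  let K' := (Twist k p r X).functionField
  have hπ : ∀ c : k, π (algebraMap k X.functionField c) = algebraMap k K' (c ^ p ^ r) := fun c => by
    rw [hπ', ← algebraMap_tw]; rfl
  have hgen : ∀ z : K', ∃ n ∈ Subring.closure (Set.range π ∪ Set.range (algebraMap k K')),
      ∃ d ∈ Subring.closure (Set.range π ∪ Set.range (algebraMap k K')), z = n / d := fun z => by
    obtain ⟨n, d, h⟩ := hgen' z
    exact ⟨n, n.2, d, d.2, h⟩
  haveI : ExpChar K' p := expChar_of_injective_algebraMap (algebraMap k K').injective p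
  haveI : ExpChar X.functionField p := expChar_of_injective_algebraMap (algebraMap k X.functionField).injective p
  have hclos : ∀ z ∈ Subring.closure (Set.range π ∪ Set.range (algebraMap k K')), z ^ p ^ r ∈ π.range := by
    intro z hz
    induction hz using Subring.closure_induction with
    | mem y hy =>
      rcases hy with ⟨x, rfl⟩ | ⟨c, rfl⟩
      · rw [← map_pow]; exact ⟨_, rfl⟩
      · rw [← map_pow, ← hπ]; exact ⟨_, rfl⟩
    | zero => rw [zero_pow (pow_pos (expChar_pos k p) r).ne']; exact zero_mem _
    | one => rw [one_pow]; exact one_mem _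
    | add a b _ _ ha hb => rw [add_pow_expChar_pow]; exact add_mem ha hb
    | neg a _ ha =>
      rw [← iterateFrobenius_def, map_neg, iterateFrobenius_def]
      exact neg_mem ha
    | mul a b _ _ ha hb => rw [mul_pow]; exact mul_mem ha hb
  have hall : ∀ z : K', ∃ a : X.functionField, π a = z ^ p ^ r := fun z => by
    obtain ⟨n, hn, d, hd, rfl⟩ := hgen z
    obtain ⟨a, ha⟩ := hclos n hn
    obtain ⟨b, hb⟩ := hclos d hd
    exact ⟨a / b, by rw [map_div₀, ha, hb, div_pow]⟩
  choose g hg using hall
  let θ : K' →ₐ[k] X.functionField :=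
    { toFun := g
      map_one' := π.injective (by rw [hg, map_one, one_pow])
      map_mul' := fun a b => π.injective (by rw [map_mul, hg, hg, hg, mul_pow])
      map_zero' := π.injective (by rw [hg, map_zero, zero_pow (pow_pos (expChar_pos k p) r).ne'])
      map_add' := fun a b => π.injective (by rw [map_add, hg, hg, hg, add_pow_expChar_pow])
      commutes' := fun c => π.injective (by
        show π (g _) = _
        rw [hg, hπ, map_pow]) }
  have hθπ : ∀ a, θ (π a) = a ^ p ^ r := fun a => π.injective (by
    show π (g _) = _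
    rw [hg, map_pow])
  refine ⟨θ, fun a => ⟨π a, hθπ a⟩, fun E hE => ?_⟩
  have hclos' : ∀ z ∈ Subring.closure (Set.range π ∪ Set.range (algebraMap k K')), θ z ∈ E := by
    intro z hz
    have : Subring.closure (Set.range π ∪ Set.range (algebraMap k K')) ≤ E.toSubring.comap θ.toRingHom := by
      rw [Subring.closure_le]
      rintro y (⟨a, rfl⟩ | ⟨c, rfl⟩)
      · show θ (π a) ∈ E
        rw [hθπ]; exact hE a
      · show θ (algebraMap k K' c) ∈ E
        rw [θ.commutes]; exact E.algebraMap_mem c
    exact this hz
  rintro _ ⟨z, rfl⟩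
  obtain ⟨n, hn, d, hd, rfl⟩ := hgen z
  show θ (n / d) ∈ E
  rw [map_div₀]
  exact div_mem (hclos' n hn) (hclos' d hd)

attribute [local instance] Curv2.stalkAlgebra

omit [ExpChar k p] in
/-- In the local rings of a smooth scheme `p`-th powers of independent elements are independent. -/
theorem linearIndepOn_pow [Fact p.Prime] [CharP k p] [Smooth (X ↘ Spec (CommRingCat.of k))] (z : X)
    (s : Finset (X.presheaf.stalk z)) (hs : LinearIndepOn k _root_.id (s : Set (X.presheaf.stalk z)))
    [IsIntegral X] :
    LinearIndepOn k (fun x : X.presheaf.stalk z => x ^ p) (s : Set (X.presheaf.stalk z)) := by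
  classical
  haveI : ExpChar k p := .prime Fact.out
  obtain ⟨c, P, rfl⟩ := GeomField.exists_chart (k := k) z
  letI := c.stalkAlg P
  haveI := c.isScalarTower_stalk P
  haveI := c.isLocalization_stalk P
  haveI : Nonempty (Spec (CommRingCat.of c.R)) := ⟨P⟩
  haveI : IsIntegral (Spec (CommRingCat.of c.R)) := isIntegral_of_isOpenImmersion c.emb
  haveI : IsDomain (CommRingCat.of c.R) := (affine_isIntegral_iff _).1 inferInstance
  haveI : IsDomain c.R := ‹IsDomain (CommRingCat.of c.R)›
  haveI := smooth_twist (k := k) p 1 (X := X)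
  haveI : AlgebraicGeometry.IsReduced (Twist k p 1 X) :=
    GrpSchLib.isReduced_of_smooth_field (Twist k p 1 X ↘ Spec (CommRingCat.of k))
  haveI : AlgebraicGeometry.IsReduced (Spec (CommRingCat.of (c.R ⊗[k] Tw k p 1))) :=
    isReduced_of_isOpenImmersion (c.bcEmb (Tw k p 1))
  haveI : _root_.IsReduced (c.R ⊗[k] Tw k p 1) :=
    ((affine_isReduced_iff (CommRingCat.of (c.R ⊗[k] Tw k p 1))).1 inferInstance :)
  set M := (PrimeSpectrum.asIdeal (R := c.R) P).primeCompl
  have hinj : Function.Injective (algebraMap c.R (X.presheaf.stalk (c.emb P))) :=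
    IsLocalization.injective (M := M) (X.presheaf.stalk (c.emb P)) (Ideal.primeCompl_le_nonZeroDivisors _)
  obtain ⟨⟨d, hd⟩, hds⟩ := IsLocalization.exist_integer_multiples M s (fun x => x)
  choose f hf using fun x : ↥s => hds x x.2
  have hu : IsUnit (algebraMap c.R (X.presheaf.stalk (c.emb P)) d) := IsLocalization.map_units _ (⟨d, hd⟩ : M)
  have hf' : ∀ x : ↥s, algebraMap c.R (X.presheaf.stalk (c.emb P)) (f x) =
      algebraMap c.R (X.presheaf.stalk (c.emb P)) d * (x : X.presheaf.stalk (c.emb P)) := fun x => by
    rw [hf x]; exact Algebra.smul_def _ _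
  have hfind : LinearIndependent k f := by
    rw [Fintype.linearIndependent_iff]
    intro g hg x
    have h := congrArg (IsScalarTower.toAlgHom k c.R (X.presheaf.stalk (c.emb P))) hg
    simp only [map_sum, map_smul, IsScalarTower.coe_toAlgHom', hf', map_zero, ← mul_smul_comm,
      ← Finset.mul_sum, hu.mul_right_eq_zero] at h
    have hli : LinearIndependent k (fun y : ↥s => (y : X.presheaf.stalk (c.emb P))) := hs
    exact Fintype.linearIndependent_iff.1 hli g h x
  have key : ∀ g : ↥s → k, ∑ x, g x • f x ^ p = 0 → ∀ x, g x = 0 := by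
    intro g hg
    haveI : Nontrivial (c.R ⊗[k] Tw k p 1) :=
      (Algebra.TensorProduct.includeLeft_injective (S := k) (A := c.R) (B := Tw k p 1)
        (algebraMap k (Tw k p 1)).injective).nontrivial
    haveI : ExpChar (c.R ⊗[k] Tw k p 1) p :=
      expChar_of_injective_algebraMap (algebraMap k (c.R ⊗[k] Tw k p 1)).injective p
    let T : ↥s → Tw k p 1 := g
    let w : c.R ⊗[k] Tw k p 1 := ∑ x, f x ⊗ₜ[k] T x
    have hw : w ^ p = 0 := by
      rw [sum_pow_char p]
      have : ∀ x, (f x ⊗ₜ[k] T x) ^ p = (g x • f x ^ p) ⊗ₜ[k] (1 : Tw k p 1) := fun x => by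
        rw [Algebra.TensorProduct.tmul_pow, TensorProduct.smul_tmul,
          show T x ^ p = g x • (1 : Tw k p 1) from ?_]
        rw [Algebra.smul_def, mul_one]
        have h1 := algebraMap_tw (p := p) (r := 1) (g x)
        rw [pow_one] at h1
        exact h1.symm
      simp only [this]
      rw [← TensorProduct.sum_tmul, hg, TensorProduct.zero_tmul]
    have hw0 : w = 0 := eq_zero_of_pow_eq_zero hw
    let b := Module.Free.chooseBasis k (Tw k p 1)
    intro x
    have hcoord : ∀ j, b.repr (T x) j = 0 := fun j => by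
      refine Fintype.linearIndependent_iff.1 hfind (fun y => b.repr (T y) j) ?_ x
      have h := congrArg ((TensorProduct.rid k c.R).toLinearMap ∘ₗ TensorProduct.map LinearMap.id (b.coord j)) hw0
      simpa [w, map_sum] using h
    exact (b.repr.map_eq_zero_iff.1 (Finsupp.ext hcoord) : T x = 0)
  show LinearIndependent k (fun x : ↥s => (x : X.presheaf.stalk (c.emb P)) ^ p)
  rw [Fintype.linearIndependent_iff]
  intro g hg
  refine key g (hinj ?_)
  rw [map_zero, ← IsScalarTower.coe_toAlgHom' k c.R (X.presheaf.stalk (c.emb P)), map_sum]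
  simp only [map_smul, map_pow, IsScalarTower.coe_toAlgHom', hf', mul_pow, ← mul_smul_comm, ← Finset.mul_sum]
  rw [hg, mul_zero]

variable (p) in
/-- The function field of a smooth proper curve has a separating element. -/
theorem exists_separating [Fact p.Prime] [IsIntegral X] [IsProper (X ↘ Spec (CommRingCat.of k))]
    [Smooth (X ↘ Spec (CommRingCat.of k))] (hdim : topologicalKrullDim X = 1) :
    ∃ x : X.functionField, Algebra.IsSeparable (IntermediateField.adjoin k ({x} : Set X.functionField)) X.functionField := by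
  haveI : CharP k p := by
    rcases ‹ExpChar k p› with _ | _
    · exact absurd (Fact.out : (1 : ℕ).Prime) Nat.not_prime_one
    · assumption
  haveI := GenFF.essFiniteType k X hdim
  obtain ⟨s, hs, hsep⟩ := exists_isTranscendenceBasis_and_isSeparable_of_linearIndepOn_pow_of_essFiniteType
    (k := k) (K := X.functionField) p Fact.out fun t ht => linearIndepOn_pow (genericPoint X) t ht
  have hcard : Cardinal.mk ↥s = 1 := hs.cardinalMk_eq_trdeg.trans (GenFF.trdeg_eq_one k X hdim)
  obtain ⟨x, rfl⟩ := Finset.card_eq_one.1 (by simpa using hcard)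
  exact ⟨x, by rwa [Finset.coe_singleton] at hsep⟩

omit [Field k] in
/-- A field containing the `q`-th powers, of index at least `q`, is `k(K^q)`. -/
theorem eq_of_finrank {K : Type u} [Field k] [Field K] [Algebra k K] [ExpChar K p] {M E : IntermediateField k K}
    (hM : ∀ a : K, a ^ p ^ r ∈ M) (hle : M ≤ E) (hE : Module.finrank E K = p ^ r)
    {x : K} (hsep : Algebra.IsSeparable (IntermediateField.adjoin k ({x} : Set K)) K) : M = E := by
  haveI hMp : ExpChar M p := (algebraMap M K).expChar (algebraMap M K).injective p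
  haveI : IsPurelyInseparable M K := by
    rw [isPurelyInseparable_iff_pow_mem M p]
    exact fun a => ⟨r, ⟨⟨a ^ p ^ r, hM a⟩, rfl⟩⟩
  have htop : M⟮x⟯ = ⊤ := by
    haveI : IsPurelyInseparable M⟮x⟯ K := IsPurelyInseparable.tower_top M M⟮x⟯ K
    have hle' : k⟮x⟯ ≤ M⟮x⟯.restrictScalars k :=
      adjoin_simple_le_iff.mpr (mem_adjoin_simple_self M x)
    haveI : Algebra.IsSeparable M⟮x⟯ K := by
      letI := (IntermediateField.inclusion hle').toRingHom.toAlgebra
      haveI : IsScalarTower k⟮x⟯ (M⟮x⟯.restrictScalars k) K :=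
        IsScalarTower.of_algebraMap_eq fun _ => rfl
      exact (Algebra.isSeparable_tower_top_of_isSeparable k⟮x⟯ (M⟮x⟯.restrictScalars k) K :)
    exact eq_top_iff.mpr fun a _ => by
      obtain ⟨b, rfl⟩ := IsPurelyInseparable.surjective_algebraMap_of_isSeparable M⟮x⟯ K a
      exact b.2
  have hint : IsIntegral M x := (IsPurelyInseparable.isIntegral' M x)
  haveI : FiniteDimensional M K := by
    have := IntermediateField.adjoin.finiteDimensional hint
    rw [htop] at this
    exact Module.Finite.equiv (IntermediateField.topEquiv (F := M) (E := K)).toLinearEquiv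
  refine IntermediateField.eq_of_le_of_finrank_le' hle ?_
  rw [hE, ← IntermediateField.finrank_top', ← htop, adjoin.finrank hint]
  have h0 : Polynomial.aeval x (Polynomial.X ^ p ^ r - Polynomial.C (⟨x ^ p ^ r, hM x⟩ : M)) = 0 := by simp
  have hpos : 0 < p ^ r := pow_pos (expChar_pos K p) r
  refine (Polynomial.natDegree_le_of_dvd (minpoly.dvd M x h0)
    (Polynomial.monic_X_pow_sub_C _ hpos.ne').ne_zero).trans ?_
  rw [Polynomial.natDegree_X_pow_sub_C]

variable {Y : Scheme.{u}} [Y.Over (Spec (CommRingCat.of k))]

omit [ExpChar k p] in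
/-- The map of function fields is a map of algebras. -/
def ffHom [IsIntegral X] [IsIntegral Y] (f : X ⟶ Y)
    (hf : f ≫ (Y ↘ Spec (CommRingCat.of k)) = X ↘ Spec (CommRingCat.of k))
    (e : f (genericPoint X) = genericPoint Y) : Y.functionField →ₐ[k] X.functionField :=
  { (P1Map.ffMap f e).hom with
    commutes' := fun c => by
      have h : CurveLuroth.ffC (Y ↘ Spec (CommRingCat.of k)) ≫ P1Map.ffMap f e =
          CurveLuroth.ffC (X ↘ Spec (CommRingCat.of k)) := by
        apply Spec.map_injective
        rw [Spec.map_comp, CurveLuroth.spec_ffC, CurveLuroth.spec_ffC, Spec.map_comp, Category.assoc,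
          Scheme.SpecMap_stalkSpecializes_fromSpecStalk_assoc, Scheme.SpecMap_stalkMap_fromSpecStalk_assoc, hf]
      rw [FFHom.ffC_eq, FFHom.ffC_eq] at h
      exact congr($h c) }

omit [ExpChar k p] in
/-- A dominant morphism of proper curves is finite. -/
theorem isFinite_of_generic [IsIntegral X] [IsIntegral Y] [IsProper (X ↘ Spec (CommRingCat.of k))]
    [IsProper (Y ↘ Spec (CommRingCat.of k))] (hX : topologicalKrullDim X = 1) (hY : topologicalKrullDim Y = 1)
    (f : X ⟶ Y) (hf : f ≫ (Y ↘ Spec (CommRingCat.of k)) = X ↘ Spec (CommRingCat.of k))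
    (e : f (genericPoint X) = genericPoint Y) : IsFinite f := by
  haveI : IsProper f := by
    haveI : IsProper (f ≫ (Y ↘ Spec (CommRingCat.of k))) := hf ▸ inferInstance
    exact IsProper.of_comp f (Y ↘ Spec (CommRingCat.of k))
  haveI : LocallyQuasiFinite f := by
    haveI := CurveCohLib.isNoetherian_of_proper (k := k) (X := X)
    haveI := CurveCohLib.isNoetherian_of_proper (k := k) (X := Y)
    refine .of_finite_preimage_singleton f fun y => ?_
    by_cases hy : IsClosed ({y} : Set Y)
    · refine CurveCohLib.finite_of_closedPoints (hy.preimage f.continuous) fun x hx => ?_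
      by_contra hxc
      obtain rfl := CurveCohLib.eq_genericPoint_of_not_isClosed hX hxc
      exact GenFF.not_closed_generic hY ((show f (genericPoint X) = y from hx).symm.trans e ▸ hy)
    · refine (Set.finite_singleton (genericPoint X)).subset fun x hx => ?_
      by_contra hne
      have hxc : IsClosed ({x} : Set X) := by_contra fun h => hne (CurveCohLib.eq_genericPoint_of_not_isClosed hX h)
      refine hy ?_
      have := f.isClosedMap _ hxc
      rwa [Set.image_singleton, show f x = y from hx] at this
  exact IsFinite.of_isProper_of_locallyQuasiFinite f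

variable (p) in
/-- A finite purely inseparable map to a normal curve is a Frobenius twist. -/
theorem exists_iso [Fact p.Prime] [IsIntegral X] [IsIntegral Y] [IsProper (X ↘ Spec (CommRingCat.of k))]
    [Smooth (X ↘ Spec (CommRingCat.of k))] [IsProper (Y ↘ Spec (CommRingCat.of k))]
    (hX : topologicalKrullDim X = 1) (hY : topologicalKrullDim Y = 1)
    (hnY : ∀ y : Y, IsIntegrallyClosed (Y.presheaf.stalk y))
    (f : X ⟶ Y) (hf : f ≫ (Y ↘ Spec (CommRingCat.of k)) = X ↘ Spec (CommRingCat.of k))
    (e : f (genericPoint X) = genericPoint Y)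
    (hpi : letI := (P1Map.ffMap f e).hom.toAlgebra
      IsPurelyInseparable Y.functionField X.functionField) :
    ∃ (r : ℕ) (i : Y ≅ Twist k p r X),
      i.hom ≫ (Twist k p r X ↘ Spec (CommRingCat.of k)) = Y ↘ Spec (CommRingCat.of k) := by
  let ι := ffHom f hf e
  letI := (P1Map.ffMap f e).hom.toAlgebra
  haveI : IsPurelyInseparable Y.functionField X.functionField := hpi
  haveI : IsScalarTower k Y.functionField X.functionField :=
    IsScalarTower.of_algebraMap_eq fun c => (ι.commutes c).symm
  haveI := GenFF.essFiniteType k X hX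
  haveI : Algebra.EssFiniteType Y.functionField X.functionField :=
    Algebra.EssFiniteType.of_comp k Y.functionField X.functionField
  haveI : FiniteDimensional Y.functionField X.functionField := by
    obtain ⟨S, hS⟩ := IntermediateField.fg_top Y.functionField X.functionField
    have : FiniteDimensional Y.functionField (IntermediateField.adjoin Y.functionField (S : Set X.functionField)) :=
      IntermediateField.finiteDimensional_adjoin fun x _ => IsPurelyInseparable.isIntegral' Y.functionField x
    rw [hS] at this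
    exact Module.Finite.equiv (IntermediateField.topEquiv (F := Y.functionField) (E := X.functionField)).toLinearEquiv
  haveI : ExpChar Y.functionField p := expChar_of_injective_algebraMap (algebraMap k Y.functionField).injective p
  haveI : ExpChar X.functionField p := expChar_of_injective_algebraMap (algebraMap k X.functionField).injective p
  obtain ⟨r, hr⟩ := IsPurelyInseparable.finrank_eq_pow (F := Y.functionField) X.functionField p
  have hmem : ∀ a : X.functionField, a ^ p ^ r ∈ ι.fieldRange := fun a => by
    obtain ⟨n, y, hy⟩ := IsPurelyInseparable.minpoly_eq_X_pow_sub_C Y.functionField p a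
    have h1 := minpoly.natDegree_le (A := Y.functionField) a
    rw [hy, Polynomial.natDegree_X_pow_sub_C, hr] at h1
    have hn : n ≤ r := (Nat.pow_le_pow_iff_right (Fact.out : p.Prime).one_lt).1 h1
    have h2 : a ^ p ^ n = algebraMap Y.functionField X.functionField y := by
      have := minpoly.aeval Y.functionField a
      rw [hy] at this
      simpa [sub_eq_zero] using this
    obtain ⟨j, rfl⟩ := Nat.exists_eq_add_of_le hn
    refine ⟨y ^ p ^ j, ?_⟩
    show ι (y ^ p ^ j) = _
    rw [pow_add, pow_mul, h2, map_pow]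
    rfl
  haveI := isIntegral_twist (k := k) p r (X := X)
  haveI := smooth_twist (k := k) p r (X := X)
  haveI := isProper_twist (k := k) p r (X := X)
  have hdim' : topologicalKrullDim (Twist k p r X) = 1 := by
    letI : (Curv2.bc k X (Tw k p r)).Over (Spec (CommRingCat.of (Tw k p r))) := ⟨Curv2.bcSnd k X (Tw k p r)⟩
    exact CurveBC.topologicalKrullDim_eq k (Tw k p r) (X' := Curv2.bc k X (Tw k p r))
      (Curv2.bcFst k X (Tw k p r)) (IsPullback.of_hasPullback _ _) hX
  obtain ⟨θ, hθ1, hθ2⟩ := exists_theta (k := k) (p := p) (r := r) (X := X)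
  obtain ⟨x, hx⟩ := exists_separating (k := k) p hX
  let i : Y.functionField ≃+* ι.fieldRange := (AlgEquiv.ofInjectiveField ι).toRingEquiv
  have hfin : Module.finrank ι.fieldRange X.functionField = p ^ r :=
    (Algebra.finrank_eq_of_equiv_equiv i (RingEquiv.refl X.functionField) (RingHom.ext fun _ => rfl)).symm.trans hr
  have heq : θ.fieldRange = ι.fieldRange := eq_of_finrank hθ1 (hθ2 _ hmem) hfin hx
  let w : Y.functionField ≃ₐ[k] (Twist k p r X).functionField :=
    (AlgEquiv.ofInjectiveField ι).trans ((IntermediateField.equivOfEq heq.symm).trans (AlgEquiv.ofInjectiveField θ).symm)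
  obtain ⟨H, hH, hres⟩ := FFHom.exists_hom (A := Y) hdim' w.toAlgHom
  have eH := hres.generic
  have hψ : P1Map.ffMap H eH = CommRingCat.ofHom w.toAlgHom.toRingHom := by
    apply Spec.map_injective
    rw [← cancel_mono (Y.fromSpecStalk (genericPoint Y)), ← hres, Spec.map_comp, Category.assoc,
      Scheme.SpecMap_stalkSpecializes_fromSpecStalk, Scheme.SpecMap_stalkMap_fromSpecStalk]
  haveI := isFinite_of_generic hdim' hY H hH eH
  haveI : IsIso H := isIso_of_finite_birational H eH hnY (by
    show Function.Surjective (P1Map.ffMap H eH).hom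
    rw [hψ]; exact w.surjective)
  exact ⟨r, (asIso H).symm, by rw [Iso.symm_hom, asIso_inv, IsIso.inv_comp_eq, hH]⟩

end Groth.Agent.CurvFam16.FrobTwist
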