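import Groth.Agent.FFLib.Diff.RH
import Groth.Agent.FFLib.Diff.Geom
import Groth.Agent.FFLib.SV.AtPlace
import Groth.Agent.CurveFF.Degree
import Groth.Agent.CurveLuroth.FF
import Groth.Agent.FFLib.Ext

/-! The inequality of Hurwitz over an algebraically closed field. -/

noncomputable section

set_option linter.style.haveILetI false
set_option linter.unusedSectionVars false
set_option backward.isDefEq.respectTransparency false
set_option backward.isDefEq.respectTransparency.types false

universe u v

open CategoryTheory CategoryTheory.Limits AlgebraicGeometry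
open FunFld

namespace Groth.Agent.CurvFam16.Hurwitz

/-- Riemann-Hurwitz as an inequality. -/
theorem ff_le (k : Type u) (K K' : Type u) [Field k] [IsAlgClosed k] [Field K] [Field K'] [Algebra k K]
    [Algebra K K'] [Algebra k K'] [IsScalarTower k K K'] [FiniteDimensional K K'] [Algebra.IsSeparable K K']
    (hK : IsFunctionField k K) (hg : IsGeometric k K) (hK' : IsFunctionField k K') :
    (Module.finrank K K' : ℤ) * (2 * (FunFld.genus k K : ℤ) - 2) ≤ 2 * (FunFld.genus k K' : ℤ) - 2 := by
  classical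
  have hg' : IsGeometric k K' := FFLib.isGeometric_ext (k' := k) hK hg hK'
  obtain ⟨x, hx, hsep⟩ := FFLib.exists_separating_element hK hg
  have hsep' := FFLib.isSeparable_over_map (k' := k) (K' := K') hsep
  have hxK' : Transcendental k (algebraMap K K' x) := FFLib.transcendental_map hx
  have hD := FFLib.D_ne_zero hK hx hsep
  have hD' := FFLib.D_ne_zero hK' hxK' hsep'
  choose t ht using fun P : Place k K => FFLib.exists_unif P
  choose φ hφ hφt using fun P : Place k K => FFLib.exists_expansion' hK P (ht P).2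
  choose t' ht' using fun Q : Place k K' => FFLib.exists_unif Q
  choose ψ hψ hψt using fun Q : Place k K' => FFLib.exists_expansion' hK' Q (ht' Q).2
  have hv : ∀ P, LocRes.vDiff (φ P) 1 x ≠ 0 := fun P h0 => by
    obtain ⟨d, hd⟩ := FFLib.exists_deriv hK hg hD
    have h1 := FFLib.vDiff_unif (hφ P) (ht P).2
    rw [FFLib.vDiff_one, FFLib.D_exp_eq hK hg hD (φ P) hd (t P), map_mul, ← FFLib.vDiff_one, h0, mul_zero] at h1
    exact zero_ne_one h1
  have hv' : ∀ Q, LocRes.vDiff (ψ Q) 1 (algebraMap K K' x) ≠ 0 := fun Q h0 => by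
    obtain ⟨d, hd⟩ := FFLib.exists_deriv hK' hg' hD'
    have h1 := FFLib.vDiff_unif (hψ Q) (ht' Q).2
    rw [FFLib.vDiff_one, FFLib.D_exp_eq hK' hg' hD' (ψ Q) hd (t' Q), map_mul, ← FFLib.vDiff_one, h0, mul_zero] at h1
    exact zero_ne_one h1
  choose below e he1 he using fun Q : Place k K' => FFLib.exists_over (K := K) hK.1 Q
  have he' : ∀ Q (z : K), Q.1 (algebraMap K K' z) = (below Q).1 z ^ e Q := fun Q z => he Q z
  obtain ⟨-, hrh⟩ := FFLib.riemann_hurwitz (k := k) (k' := k) (K := K) (K' := K') hK hg hK'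
    (fun _ => k) φ hφ (fun _ => k) ψ hψ below e he' x hv hv'
  rw [Module.finrank_self, Nat.cast_one, one_mul, one_mul] at hrh
  rw [hrh]
  refine le_add_of_nonneg_right (finsum_nonneg fun Q => mul_nonneg ?_ (Int.natCast_nonneg _))
  obtain ⟨h1, h2⟩ := FFLib.diffExp_ramified (he' Q) (hφ (below Q)) (hψ Q) hK hg (hv _) (hv' Q)
  have hpos : 0 < e Q := he1 Q
  by_cases h : (e Q : k) = 0
  · exact (Int.natCast_nonneg _).trans (h2 h)
  · rw [h1 h]; omega

attribute [local instance] CurveFF.ffAlg

theorem ffC_eq {k : Type u} [Field k] {X : Scheme.{u}} [X.Over (Spec (CommRingCat.of k))] [IsIntegral X] (c : k) :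
    (CurveLuroth.ffC (X ↘ Spec (CommRingCat.of k))).hom c = algebraMap k X.functionField c := by
  have h : CurveLuroth.ffC (X ↘ Spec (CommRingCat.of k)) =
      (Scheme.ΓSpecIso (CommRingCat.of k)).inv ≫ (X ↘ Spec (CommRingCat.of k)).appTop ≫
        X.presheaf.germ ⊤ (genericPoint X) trivial := by
    apply Spec.map_injective
    rw [CurveLuroth.spec_ffC, Spec.map_comp, Spec.map_comp, ← Scheme.fromSpecStalk_toSpecΓ]
    simp only [Category.assoc]
    rw [← Scheme.toSpecΓ_naturality_assoc]
    simp
  rw [h]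
  rfl

theorem algebraMap_map (k : Type u) [Field k] {X Y : Scheme.{u}} [X.Over (Spec (CommRingCat.of k))]
    [Y.Over (Spec (CommRingCat.of k))] [IsIntegral X] [IsIntegral Y] (f : X ⟶ Y)
    (hf : f ≫ (Y ↘ (Spec (CommRingCat.of k))) = X ↘ (Spec (CommRingCat.of k)))
    (e : f (genericPoint X) = genericPoint Y) (c : k) :
    (Y.presheaf.stalkSpecializes (specializes_of_eq e) ≫ f.stalkMap (genericPoint X)).hom
      (algebraMap k Y.functionField c) = algebraMap k X.functionField c := by
  have hψ : CurveLuroth.ffC (Y ↘ Spec (CommRingCat.of k)) ≫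
      (Y.presheaf.stalkSpecializes (specializes_of_eq e) ≫ f.stalkMap (genericPoint X)) =
      CurveLuroth.ffC (X ↘ Spec (CommRingCat.of k)) := by
    apply Spec.map_injective
    rw [CurveLuroth.spec_ffC, Spec.map_comp, Spec.map_comp, CurveLuroth.spec_ffC, Category.assoc,
      Scheme.SpecMap_stalkSpecializes_fromSpecStalk_assoc, Scheme.SpecMap_stalkMap_fromSpecStalk_assoc, hf]
  rw [← ffC_eq, ← ffC_eq]
  exact congr($hψ c)

end Groth.Agent.CurvFam16.Hurwitz
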