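import Groth.Agent.CurvFam16.InvolFix
import Groth.Agent.CurvFam16.FFHom
import Groth.Agent.CurvFam16.P1Map
import Groth.Agent.FFLib.Rational

/-! Automorphisms of curves, their action on places, and rationality in genus zero. -/

noncomputable section

set_option linter.style.haveILetI false
set_option linter.unusedSectionVars false
set_option backward.isDefEq.respectTransparency false
set_option backward.isDefEq.respectTransparency.types false

universe u

open CategoryTheory CategoryTheory.Limits AlgebraicGeometry TopologicalSpace Opposite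
open FunFld WithZero
open Groth.Agent.CurveCohLib.Polar (InR)

namespace Groth.Agent.CurvFam16.Invol

/-- In genus zero with a rational place the function field is rational. -/
theorem exists_adjoin_eq_top_of_genus_zero {k K : Type*} [Field k] [Field K] [Algebra k K]
    (hK : IsFunctionField k K) (hg : FunFld.genus k K = 0) {P : Place k K} (hP : P.deg = 1) :
    ∃ x : K, Transcendental k x ∧ IntermediateField.adjoin k ({x} : Set K) = ⊤ := by
  classical
  let D : Divisor k K := Finsupp.single P 1
  have hd : D.deg = 1 := by rw [FFLib.Divisor.deg_single, hP]; simp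
  have hl : (ell D : ℤ) = 2 := by rw [FFLib.ell_of_deg_gt hK (by rw [hd, hg]; norm_num), hd, hg]; rfl
  haveI := FFLib.L_finite hK.1 D
  haveI := FFLib.L_finite hK.1 (0 : Divisor k K)
  obtain ⟨x, hxL, hx0⟩ : ∃ x, x ∈ L D ∧ x ∉ L (0 : Divisor k K) := by
    by_contra! h
    have := Submodule.finrank_mono (show L D ≤ L (0 : Divisor k K) from h)
    have h0 := FFLib.ell_zero hK
    change Module.finrank k (L (0 : Divisor k K)) = 1 at h0
    change ((Module.finrank k (L D) : ℕ) : ℤ) = 2 at hl
    omega
  have hxne : x ≠ 0 := fun e => hx0 (e ▸ zero_mem _)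
  have hle : ∀ Q : Place k K, -Q.ord x ≤ D Q := fun Q => by
    have h := FFLib.mem_L.1 hxL Q
    rw [FFLib.val_le_exp_iff Q hxne] at h
    omega
  have h2 : ∀ Q : Place k K, Q ≠ P → 0 ≤ Q.ord x := fun Q hQ => by
    have := hle Q
    simp only [D, Finsupp.single_apply, if_neg (Ne.symm hQ)] at this
    omega
  have h1 : P.ord x = -1 := by
    have h := hle P
    simp only [D, Finsupp.single_eq_same] at h
    by_contra hne
    refine hx0 (FFLib.mem_L.2 fun Q => ?_)
    rw [FFLib.val_le_exp_iff Q hxne, Finsupp.coe_zero, Pi.zero_apply]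
    rcases eq_or_ne Q P with rfl | hQ
    · omega
    · have := h2 Q hQ; omega
  exact ⟨x, FFLib.transcendental_of_ord_ne_zero P (by omega), FFLib.adjoin_eq_top_of_pole hK.1 hP h1 h2⟩

attribute [local instance] GenFF.ffAlg

variable {k : Type u} [Field k]

/-- A map preserving generic points restricts to its map of function fields. -/
theorem restricts_ffMap {A B : Scheme.{u}} [IsIntegral A] [IsIntegral B] (H : B ⟶ A)
    (e : H (genericPoint B) = genericPoint A) : FFHom.Restricts H (P1Map.ffMap H e) := by
  show _ = _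
  rw [Spec.map_comp, Category.assoc, Scheme.SpecMap_stalkSpecializes_fromSpecStalk,
    Scheme.SpecMap_stalkMap_fromSpecStalk]

/-- Regular functions at the image pull back to regular functions. -/
theorem inR_of_restricts {A B : Scheme.{u}} [IsIntegral A] [IsIntegral B] {H : B ⟶ A}
    {ψ : A.functionField ⟶ B.functionField} (hψ : FFHom.Restricts H ψ) (z : B) {c : A.functionField}
    (hc : InR (H z) c) : InR z (ψ.hom c) := by
  have e := hψ.generic
  obtain rfl : ψ = P1Map.ffMap H e := hψ.injective (restricts_ffMap H e)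
  obtain ⟨m, rfl⟩ := hc
  obtain ⟨W, hz, r, rfl⟩ := A.presheaf.germ_exist m
  haveI : Nonempty W := ⟨⟨_, hz⟩⟩
  haveI : Nonempty (H ⁻¹ᵁ W : B.Opens) := ⟨⟨z, hz⟩⟩
  have hηB : genericPoint B ∈ H ⁻¹ᵁ W := CurveCohLib.Polar.eta_mem (show z ∈ H ⁻¹ᵁ W from hz)
  have hηA : genericPoint A ∈ W := e ▸ hηB
  refine ⟨B.presheaf.germ (H ⁻¹ᵁ W) z hz (H.app W r), ?_⟩
  rw [B.algebraMap_germ_eq_germToFunctionField, A.algebraMap_germ_eq_germToFunctionField]
  show (H.app W ≫ B.presheaf.germ (H ⁻¹ᵁ W) (genericPoint B) hηB).hom r =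
    (A.presheaf.germ W (genericPoint A) hηA ≫ P1Map.ffMap H e).hom r
  congr 2
  rw [← Category.assoc, TopCat.Presheaf.germ_stalkSpecializes, Scheme.Hom.germ_stalkMap]

variable {X : Scheme.{u}} [X.Over (Spec (CommRingCat.of k))] [IsIntegral X]
  [IsProper (X ↘ Spec (CommRingCat.of k))] [Smooth (X ↘ Spec (CommRingCat.of k))]
  (hdim : topologicalKrullDim X = 1)

/-- An automorphism acts on places through its map of function fields. -/
theorem fixed_iff {H : X ⟶ X} {w : X.functionField ≃ₐ[k] X.functionField}
    (hr : FFHom.Restricts H (CommRingCat.ofHom w.toAlgHom.toRingHom)) (z : GenFF.Pt X)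
    (hHz : IsClosed ({H z.1} : Set X)) :
    H z.1 = z.1 ↔ ∀ c, (GenFF.pl k X hdim z).1 (w c) = (GenFF.pl k X hdim z).1 c := by
  let z' : GenFF.Pt X := ⟨H z.1, hHz⟩
  let P := GenFF.pl k X hdim z
  have hsurj : Function.Surjective (P.1.comap (w : X.functionField →+* X.functionField)) := fun g => by
    obtain ⟨x, hx⟩ := P.2.2 g
    exact ⟨w.symm x, by show P.1 (w (w.symm x)) = g; rw [w.apply_symm_apply, hx]⟩
  let P' : Place k X.functionField := ⟨P.1.comap (w : X.functionField →+* X.functionField),
    fun c => by show P.1 (w (algebraMap k X.functionField c)) ≤ 1; rw [w.commutes]; exact P.2.1 c, hsurj⟩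
  have h : GenFF.pl k X hdim z' = P' := FFLib.place_eq_of_le fun c hc => by
    show P.1 (w c) ≤ 1
    exact (GenFF.inR_iff k X hdim z _).1 (inR_of_restricts hr z.1 ((GenFF.inR_iff k X hdim z' c).2 hc))
  constructor
  · intro he c
    have hz : z' = z := Subtype.ext he
    rw [hz] at h
    exact (congrArg (fun R : Place k X.functionField => R.1 c) h).symm
  · intro hc
    have : P' = P := Subtype.ext (Valuation.ext hc)
    exact congrArg Subtype.val ((GenFF.pl k X hdim).injective (h.trans this))

include hdim in
/-- The fixed closed points are the fixed places. -/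
theorem card_fixed_eq {H : X ⟶ X} {w : X.functionField ≃ₐ[k] X.functionField}
    (hr : FFHom.Restricts H (CommRingCat.ofHom w.toAlgHom.toRingHom))
    (hcl : ∀ x : X, IsClosed ({x} : Set X) → IsClosed ({H x} : Set X)) :
    Nat.card {x : X // IsClosed ({x} : Set X) ∧ H x = x} =
      Nat.card {Q : Place k X.functionField // ∀ c, Q.1 (w c) = Q.1 c} := by
  refine Nat.card_congr ?_
  refine (Equiv.subtypeSubtypeEquivSubtypeInter _ _).symm.trans ?_
  exact (GenFF.pl k X hdim).subtypeEquiv fun z => fixed_iff hdim hr z (hcl z.1 z.2)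

end Groth.Agent.CurvFam16.Invol
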