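import Groth.Agent.FFLib.Diff.RH
import Groth.Agent.FFLib.Diff.Geom
import Groth.Agent.FFLib.SV.AtPlace
import Groth.Agent.FFLib.Ext
import Groth.Agent.FFLib.Quadratic
import Groth.Agent.FFLib.Local.Hasse

/-! The fixed places of an involution of a function field, in characteristic different from two. -/

noncomputable section

set_option linter.style.haveILetI false
set_option linter.unusedSectionVars false

universe u

open FunFld WithZero IntermediateField

namespace Groth.Agent.CurvFam16.InvolFix

open Groth.Agent.FFLib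

variable {k K : Type u} [Field k] [Field K] [Algebra k K]

/-- The elements fixed by an automorphism over the constants. -/
def fixedBy (σ : K ≃ₐ[k] K) : IntermediateField k K where
  carrier := {x | σ x = x}
  mul_mem' := fun {a b} ha hb => by
    simp only [Set.mem_setOf_eq] at ha hb ⊢
    rw [map_mul, ha, hb]
  add_mem' := fun {a b} ha hb => by
    simp only [Set.mem_setOf_eq] at ha hb ⊢
    rw [map_add, ha, hb]
  algebraMap_mem' := fun c => σ.commutes c
  inv_mem' := fun a ha => by
    simp only [Set.mem_setOf_eq] at ha ⊢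
    rw [map_inv₀, ha]

theorem mem_fixedBy {σ : K ≃ₐ[k] K} {x : K} : x ∈ fixedBy σ ↔ σ x = x := Iff.rfl

variable (h2 : (2 : k) ≠ 0) {σ : K ≃ₐ[k] K} (hσσ : ∀ x, σ (σ x) = x) (hne : σ ≠ AlgEquiv.refl)

include h2 in
theorem two_ne_zero' : (2 : K) ≠ 0 := fun h => h2 ((algebraMap k K).injective (by rw [map_ofNat, map_zero, h]))

include h2 hσσ hne in
/-- An anti-invariant element. -/
theorem exists_anti : ∃ v : K, v ≠ 0 ∧ σ v = -v := by
  obtain ⟨x, hx⟩ : ∃ x, σ x ≠ x := not_forall.1 fun h => hne (AlgEquiv.ext h)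
  exact ⟨x - σ x, sub_ne_zero.2 (Ne.symm hx), by rw [map_sub, hσσ, neg_sub]⟩

include h2 hσσ hne in
theorem finrank_fixedBy : Module.finrank (fixedBy σ) K = 2 := by
  have h2K := two_ne_zero' (K := K) h2
  obtain ⟨v, hv0, hv⟩ := exists_anti h2 hσσ hne
  have hvnot : v ∉ Set.range (algebraMap (fixedBy σ) K) := fun ⟨c, hc⟩ => by
    have hcv : σ v = v := hc ▸ c.2
    rw [hv] at hcv
    exact hv0 ((mul_eq_zero.1 (by linear_combination -hcv : (2 : K) * v = 0)).resolve_left h2K)
  have hli : LinearIndependent (fixedBy σ) ![(1 : K), v] := by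
    rw [LinearIndependent.pair_iff' one_ne_zero]
    intro a ha
    exact hvnot ⟨a, by rw [← ha, Algebra.smul_def, mul_one]⟩
  have hsp : Submodule.span (fixedBy σ) (Set.range ![(1 : K), v]) = ⊤ := by
    refine eq_top_iff.2 fun w _ => ?_
    rw [Submodule.mem_span_range_iff_exists_fun]
    let a : fixedBy σ := ⟨(w + σ w) / 2, by rw [mem_fixedBy, map_div₀, map_add, hσσ, map_ofNat, add_comm]⟩
    let b : fixedBy σ := ⟨(w - σ w) / (2 * v), by
      rw [mem_fixedBy, map_div₀, map_sub, map_mul, hσσ, map_ofNat, hv]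
      field_simp
      ring⟩
    refine ⟨![a, b], ?_⟩
    rw [Fin.sum_univ_two]
    show a • (1 : K) + b • v = w
    rw [IntermediateField.smul_def, IntermediateField.smul_def, smul_eq_mul, smul_eq_mul]
    show (w + σ w) / 2 * 1 + (w - σ w) / (2 * v) * v = w
    field_simp
    ring
  have := Module.finrank_eq_card_basis (Module.Basis.mk hli hsp.ge)
  rwa [Fintype.card_fin] at this

/-- A subfield of index two of a function field is a function field. -/
theorem isFunctionField_of_finrank (hK : IsFunctionField k K) (E : IntermediateField k K)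
    (hdeg : Module.finrank E K = 2) : IsFunctionField k E := by
  haveI : FiniteDimensional E K := Module.finite_of_finrank_eq_succ hdeg
  refine ⟨?_, fun x hx => ?_⟩
  · obtain ⟨x, hx⟩ : ∃ x : E, Transcendental k x := by
      by_contra! hno
      haveI : Algebra.IsAlgebraic k E := ⟨fun x => not_not.1 (hno x)⟩
      haveI : Algebra.IsAlgebraic k K := Algebra.IsAlgebraic.trans k E K
      obtain ⟨y, hy, -⟩ := hK.1
      exact hy (Algebra.IsAlgebraic.isAlgebraic y)
    have hxK : Transcendental k (x : K) := transcendental_map (K' := K) hx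
    haveI := IsFF.finite_adjoin hK.1 hxK
    refine ⟨x, hx, ?_⟩
    let φ : (k⟮x⟯ : IntermediateField k E) →ₐ[k] k⟮(x : K)⟯ :=
      (E.val.comp (k⟮x⟯).val).codRestrict (k⟮(x : K)⟯).toSubalgebra fun z => by
        have h : (k⟮x⟯).map E.val = k⟮(x : K)⟯ := by rw [IntermediateField.adjoin_map, Set.image_singleton]; rfl
        show E.val z.1 ∈ k⟮(x : K)⟯
        rw [← h]
        exact ⟨z.1, z.2, rfl⟩
    have hφs : Function.Surjective φ := fun ⟨z, hz⟩ => by
      have h : (k⟮x⟯).map E.val = k⟮(x : K)⟯ := by rw [IntermediateField.adjoin_map, Set.image_singleton]; rfl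
      rw [← h] at hz
      obtain ⟨w, hw, rfl⟩ := hz
      exact ⟨⟨w, hw⟩, rfl⟩
    let i : (k⟮x⟯ : IntermediateField k E) ≃+* k⟮(x : K)⟯ :=
      RingEquiv.ofBijective φ.toRingHom ⟨φ.toRingHom.injective, hφs⟩
    letI : Algebra (k⟮x⟯ : IntermediateField k E) K := ((algebraMap E K).comp (algebraMap (k⟮x⟯ : IntermediateField k E) E)).toAlgebra
    haveI : IsScalarTower (k⟮x⟯ : IntermediateField k E) E K := IsScalarTower.of_algebraMap_eq fun _ => rfl
    haveI : Module.Finite (k⟮x⟯ : IntermediateField k E) K :=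
      Module.Finite.of_equiv_equiv i.symm (RingEquiv.refl K) (by
        refine RingHom.ext fun z => ?_
        obtain ⟨w, rfl⟩ := i.surjective z
        show algebraMap _ K (i.symm (i w)) = _
        rw [i.symm_apply_apply]
        rfl)
    exact FiniteDimensional.left (k⟮x⟯ : IntermediateField k E) E K
  · obtain ⟨c, hc⟩ := hK.2 (x : K) (hx.algHom E.val)
    exact ⟨c, Subtype.ext hc⟩

variable [IsAlgClosed k]

include h2 in
/-- Riemann-Hurwitz for a subfield of index two: the branch places are the fixed ones. -/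
theorem card_fixed (hK : IsFunctionField k K) (E : IntermediateField k K) (hdeg : Module.finrank E K = 2)
    (τ : K ≃ₐ[E] K) (hτ : τ ≠ AlgEquiv.refl) :
    2 * (FunFld.genus k K : ℤ) - 2 = 2 * (2 * (FunFld.genus k E : ℤ) - 2) +
      (Nat.card {Q : Place k K // ∀ x, Q.1 (τ x) = Q.1 x} : ℤ) := by
  classical
  haveI : FiniteDimensional E K := Module.finite_of_finrank_eq_succ hdeg
  have h2K := two_ne_zero' (K := K) h2
  have hE := isFunctionField_of_finrank hK E hdeg
  obtain ⟨w, hw⟩ : ∃ w, τ w ≠ w := not_forall.1 fun h => hτ (AlgEquiv.ext h)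
  have hwnot : w ∉ Set.range (algebraMap E K) := fun ⟨c, hc⟩ => hw (by rw [← hc, τ.commutes])
  obtain ⟨v, hv0, hv, hgen⟩ : ∃ v : K, v ≠ 0 ∧ τ v = -v ∧
      ∀ z : K, ∃ a b : E, algebraMap E K a + algebraMap E K b * v = z := by
    obtain ⟨u, r, hru⟩ := exists_eq_add_mul hdeg hwnot (w ^ 2)
    have e1 : w ^ 2 = algebraMap E K u + algebraMap E K r * w := hru.symm
    have e2 : (τ w) ^ 2 = algebraMap E K u + algebraMap E K r * τ w := by
      have := congrArg τ e1
      rwa [map_pow, map_add, map_mul, τ.commutes, τ.commutes] at this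
    have hsum : τ w + w = algebraMap E K r := by
      have : (τ w - w) * (τ w + w - algebraMap E K r) = 0 := by linear_combination e2 - e1
      exact sub_eq_zero.1 ((mul_eq_zero.1 this).resolve_left (sub_ne_zero.2 hw))
    refine ⟨2 * w - algebraMap E K r, ?_, ?_, ?_⟩
    · intro h
      exact hw (by linear_combination hsum - h)
    · rw [map_sub, map_mul, map_ofNat, τ.commutes]
      linear_combination 2 * hsum
    · intro z
      refine exists_eq_add_mul hdeg (fun ⟨c, hc⟩ => hw ?_) z
      have hc' := congrArg τ hc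
      rw [τ.commutes, map_sub, map_mul, map_ofNat, τ.commutes] at hc'
      exact mul_left_cancel₀ h2K (by linear_combination hc - hc')
  haveI : Algebra.IsSeparable E K := by
    refine ⟨fun z => ?_⟩
    have hz : ((2 : ℕ) : E) ≠ 0 := fun h => h2K (by
      rw [Nat.cast_ofNat] at h
      rw [← map_ofNat (algebraMap E K) 2, h, map_zero])
    refine (Algebra.IsAlgebraic.isAlgebraic (R := E) z).isIntegral |> fun hint => ?_
    refine (Polynomial.separable_iff_derivative_ne_zero (minpoly.irreducible hint)).2 fun hd => ?_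
    have hle := minpoly.natDegree_le (A := E) z
    rw [hdeg] at hle
    have hpos := minpoly.natDegree_pos hint
    have hc := congrArg (Polynomial.coeff · ((minpoly E z).natDegree - 1)) hd
    simp only [Polynomial.coeff_derivative, Polynomial.coeff_zero] at hc
    rw [Nat.sub_add_cancel hpos, (minpoly.monic hint).coeff_natDegree, one_mul] at hc
    rcases (show (minpoly E z).natDegree = 1 ∨ (minpoly E z).natDegree = 2 by omega) with h | h
    · rw [h] at hc; simp at hc
    · rw [h] at hc; norm_num at hc; exact hz (by exact_mod_cast hc)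
  have hgK : IsGeometric k K := isGeometric_of_perfect hK
  have hgE : IsGeometric k E := isGeometric_of_perfect hE
  obtain ⟨x, hx, hsep⟩ := exists_separating_element hE hgE
  have hsep' := isSeparable_over_map (k' := k) (K' := K) hsep
  have hxK : Transcendental k (algebraMap E K x) := transcendental_map hx
  have hD := D_ne_zero hE hx hsep
  have hD' := D_ne_zero hK hxK hsep'
  choose t ht using fun P : Place k E => exists_unif P
  choose φ hφ hφt using fun P : Place k E => exists_expansion' hE P (ht P).2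
  choose t' ht' using fun Q : Place k K => exists_unif Q
  choose ψ hψ hψt using fun Q : Place k K => exists_expansion' hK Q (ht' Q).2
  have hvd : ∀ P, LocRes.vDiff (φ P) 1 x ≠ 0 := fun P h0 => by
    obtain ⟨d, hd⟩ := exists_deriv hE hgE hD
    have h1 := vDiff_unif (hφ P) (ht P).2
    rw [vDiff_one, D_exp_eq hE hgE hD (φ P) hd (t P), map_mul, ← vDiff_one, h0, mul_zero] at h1
    exact zero_ne_one h1
  have hvd' : ∀ Q, LocRes.vDiff (ψ Q) 1 (algebraMap E K x) ≠ 0 := fun Q h0 => by
    obtain ⟨d, hd⟩ := exists_deriv hK hgK hD'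
    have h1 := vDiff_unif (hψ Q) (ht' Q).2
    rw [vDiff_one, D_exp_eq hK hgK hD' (ψ Q) hd (t' Q), map_mul, ← vDiff_one, h0, mul_zero] at h1
    exact zero_ne_one h1
  choose below e he1 he using fun Q : Place k K => exists_over (K := E) hE.1 Q
  have he' : ∀ Q (z : E), Q.1 (algebraMap E K z) = (below Q).1 z ^ e Q := fun Q z => he Q z
  obtain ⟨hfin, hrh⟩ := riemann_hurwitz (k := k) (k' := k) (K := E) (K' := K) hE hgE hK
    (fun _ => k) φ hφ (fun _ => k) ψ hψ below e he' x hvd hvd'
  rw [Module.finrank_self, Nat.cast_one, one_mul, one_mul, hdeg] at hrh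
  have hiff : ∀ Q : Place k K, (∀ z, Q.1 (τ z) = Q.1 z) ↔ e Q = 2 := by
    intro Q
    have hover : IsOverWith Q (below Q) (e Q) := he Q
    obtain ⟨hlo, hhi, hram⟩ := quad_over hE.1 hdeg hover
    refine ⟨fun hfix => ?_, fun h2e => ?_⟩
    · by_contra hne2
      have h1e : e Q = 1 := by omega
      have hord : ∀ z : E, Q.ord (algebraMap E K z) = (below Q).ord z := fun z => by
        rw [ord_over hover, h1e]; simp
      obtain ⟨s, hs0, hs⟩ := exists_val_eq_exp (below Q) (-Q.ord v)
      have hords : (below Q).ord s = Q.ord v := by rw [ord_of_val_eq (below Q) hs]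
      have hs0' : algebraMap E K s ≠ 0 := by simpa using hs0
      obtain ⟨v', hv'def⟩ : ∃ v', v' = v / algebraMap E K s := ⟨_, rfl⟩
      have hv'0 : v' ≠ 0 := hv'def ▸ div_ne_zero hv0 hs0'
      have hv'1 : Q.1 v' = 1 := by
        rw [val_eq_exp Q hv'0, hv'def, div_eq_mul_inv, ord_mul Q hv0 (inv_ne_zero hs0'), ← zpow_neg_one,
          ord_zpow, hord, hords]
        simp
      have hv'τ : τ v' = -v' := by rw [hv'def, map_div₀, hv, τ.commutes, neg_div]
      obtain ⟨c, hc⟩ := exists_value hK.1 (deg_eq_one hK.1 Q) hv'1.le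
      have hc' : Q.1 (-v' - algebraMap k K c) < 1 := by
        rw [← hv'τ, ← (τ.restrictScalars k).commutes c]
        show Q.1 (τ v' - τ (algebraMap k K c)) < 1
        rw [← map_sub, hfix]
        exact hc
      have h2c : Q.1 (algebraMap k K (2 * c)) < 1 := by
        rw [show algebraMap k K (2 * c) = -((v' - algebraMap k K c) + (-v' - algebraMap k K c)) by
          rw [map_mul, map_ofNat]; ring, Valuation.map_neg]
        exact Q.1.map_add_lt hc hc'
      have hc0 : c = 0 := by
        by_contra hc0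
        exact h2c.ne (val_algebraMap Q (mul_ne_zero h2 hc0))
      rw [hc0, map_zero, sub_zero, hv'1] at hc
      exact lt_irrefl _ hc
    · have h := (hram h2e).2 (placeComap (τ.restrictScalars k) Q) ⟨_, isOverWith_placeComap τ hover⟩
      intro z
      exact congrArg (fun R : Place k K => R.1 z) h
  have hdiff : ∀ Q : Place k K,
      LocRes.diffExp (φ (below Q)) (ψ Q) (e Q) x * (Q.deg : ℤ) = if (∀ z, Q.1 (τ z) = Q.1 z) then 1 else 0 := by
    intro Q
    obtain ⟨hlo, hhi, -⟩ := quad_over hE.1 hdeg (he Q : IsOverWith Q (below Q) (e Q))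
    obtain ⟨hd, -⟩ := diffExp_ramified (he' Q) (hφ (below Q)) (hψ Q) hE hgE (hvd _) (hvd' Q)
    have hek : ((e Q : ℕ) : k) ≠ 0 := by
      rcases (show e Q = 1 ∨ e Q = 2 by omega) with h | h <;> rw [h] <;> simp [h2]
    rw [hd hek, deg_eq_one hK.1 Q, Nat.cast_one, mul_one]
    rcases (show e Q = 1 ∨ e Q = 2 by omega) with h | h
    · rw [if_neg (by rw [hiff]; omega), h]; simp
    · rw [if_pos (by rw [hiff]; omega), h]; norm_num
  rw [hrh]
  congr 1
  have hset : {Q : Place k K | ∀ z, Q.1 (τ z) = Q.1 z}.Finite :=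
    hfin.subset fun Q hQ h0 => by
      have := hdiff Q
      simp only at h0
      rw [if_pos (show ∀ z, Q.1 (τ z) = Q.1 z from hQ), h0, zero_mul] at this
      exact zero_ne_one this
  rw [finsum_congr hdiff, finsum_eq_sum_of_support_subset _ (s := hset.toFinset) (by
    intro Q hQ
    simp only [Function.mem_support, ne_eq, ite_eq_right_iff, one_ne_zero, imp_false, not_not] at hQ
    exact hset.mem_toFinset.2 hQ)]
  rw [Finset.sum_congr rfl (g := fun _ => (1 : ℤ)) fun (Q : Place k K) (hQ : Q ∈ hset.toFinset) => if_pos (c := ∀ z, Q.1 (τ z) = Q.1 z) (hset.mem_toFinset.1 hQ)]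
  simp only [Finset.sum_const, nsmul_eq_mul, mul_one]
  exact_mod_cast ((Nat.card_coe_set_eq {Q : Place k K | ∀ z, Q.1 (τ z) = Q.1 z}).trans (Set.ncard_eq_toFinset_card _ hset)).symm

end Groth.Agent.CurvFam16.InvolFix
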