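import Groth.Agent.CurvFam16.FFHyp
import Mathlib.RingTheory.Valuation.Integral

/-! The ring of functions with poles only over infinity in a quadratic function field. -/

set_option linter.unusedSectionVars false
set_option linter.style.haveILetI false

open FunFld WithZero Polynomial IntermediateField
open scoped IntermediateField

namespace Groth.Agent.CurvFam16.HypRing

open Groth.Agent.FFLib

variable {k K : Type*} [Field k] [Field K] [Algebra k K]

/-- An element integral over `k[t]` has no pole where `t` has none. -/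
theorem val_le_one_of_integral {t c : K} (hc : ∃ p : Polynomial (Polynomial k), p.Monic ∧
      Polynomial.eval₂ (Polynomial.aeval t : Polynomial k →ₐ[k] K).toRingHom c p = 0)
    (P : Place k K) (ht : P.1 t ≤ 1) : P.1 c ≤ 1 := by
  obtain ⟨p, hp, hpc⟩ := hc
  let φ : Polynomial k →+* P.1.integer :=
    (Polynomial.aeval t : Polynomial k →ₐ[k] K).toRingHom.codRestrict _ fun q => FFHyp.val_aeval_le_one P ht q
  have hint : IsIntegral P.1.integer c := by
    refine ⟨p.map φ, hp.map _, ?_⟩
    rw [Polynomial.eval₂_map]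
    exact hpc
  exact (Valuation.integer.integers P.1).mem_of_integral hint

/-- The polynomials `p + q y` with bounded degrees. -/
noncomputable def coordMap (t y : K) (m n : ℕ) : (Polynomial.degreeLT k m × Polynomial.degreeLT k n) →ₗ[k] K :=
  ((aeval t).toLinearMap.comp (Submodule.subtype _)).coprod
    (((LinearMap.mulRight k y).comp (aeval t).toLinearMap).comp (Submodule.subtype _))

theorem coordMap_apply (t y : K) (m n : ℕ) (z : Polynomial.degreeLT k m × Polynomial.degreeLT k n) :
    coordMap t y m n z = aeval t (z.1 : k[X]) + aeval t (z.2 : k[X]) * y := rfl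

variable (hK : IsFunctionField k K) {t : K} (ht : Transcendental k t)
  (h2 : Module.finrank k⟮t⟯ K = 2)

include ht in
/-- Uniqueness of the coordinates along `1, y`. -/
theorem coords_unique {y : K} (hy : y ∉ k⟮t⟯) {p q : k[X]} (h : aeval t p + aeval t q * y = 0) : p = 0 ∧ q = 0 := by
  have hq : q = 0 := by
    by_contra hq
    refine hy ?_
    have : y = -aeval t p / aeval t q := by
      rw [eq_div_iff (FFHyp.aeval_ne_zero ht hq)]
      linear_combination h
    rw [this]
    exact div_mem (neg_mem (algebra_adjoin_le_adjoin k _ (Polynomial.aeval_mem_adjoin_singleton k t)))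
      (algebra_adjoin_le_adjoin k _ (Polynomial.aeval_mem_adjoin_singleton k t))
  refine ⟨?_, hq⟩
  rw [hq, map_zero, zero_mul, add_zero] at h
  exact by_contra fun hp => FFHyp.aeval_ne_zero ht hp h

include hK ht h2 in
/-- The functions without poles outside infinity are `k[t] + k[t] y`. -/
theorem exists_coords {y : K} (hy : y ∉ k⟮t⟯)
    (hm : ∀ P : Place k K, P.1 y ≤ exp (((genus k K + 1 : ℕ) : ℤ) * (poles t : Divisor k K) P))
    {c : K} (hc : ∀ P : Place k K, P.1 t ≤ 1 → P.1 c ≤ 1) :
    ∃ p q : k[X], c = aeval t p + aeval t q * y := by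
  classical
  obtain ⟨m, hmg, hcm⟩ : ∃ m : ℕ, genus k K + 1 ≤ m ∧
      ∀ P : Place k K, P.1 c ≤ exp ((m : ℤ) * (poles t : Divisor k K) P) := by
    let S := (poles t : Divisor k K).support
    refine ⟨genus k K + 1 + S.sup fun P => (-P.ord c).toNat, by omega, fun P => ?_⟩
    have hpos : 0 ≤ (poles t : Divisor k K) P := poles_nonneg t P
    rcases eq_or_ne c 0 with rfl | hc0
    · rw [map_zero]; exact (zero_lt_iff.2 exp_ne_zero).le
    rw [val_le_exp_iff P hc0]
    by_cases hP : P ∈ S
    · have h1 : (1 : ℤ) ≤ (poles t : Divisor k K) P := by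
        have := Finsupp.mem_support_iff.1 hP
        omega
      have h2 : (-P.ord c).toNat ≤ S.sup fun P => (-P.ord c).toNat := Finset.le_sup (f := fun P => (-P.ord c).toNat) hP
      have h3 : ((genus k K + 1 + S.sup fun P => (-P.ord c).toNat : ℕ) : ℤ) * 1 ≤
          ((genus k K + 1 + S.sup fun P => (-P.ord c).toNat : ℕ) : ℤ) * (poles t : Divisor k K) P :=
        mul_le_mul_of_nonneg_left h1 (Int.natCast_nonneg _)
      omega
    · have h0 : (poles t : Divisor k K) P = 0 := by simpa [S] using hP
      rw [h0, mul_zero]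
      have ht1 : P.1 t ≤ 1 := by
        have := val_le_exp_poles hK.1 t P
        rwa [h0, exp_zero] at this
      have := (val_le_one_iff P hc0).1 (hc P ht1)
      omega
  obtain ⟨g, hg⟩ : ∃ g, genus k K = g := ⟨_, rfl⟩
  rw [hg] at hm hmg
  let D := (m : ℤ) • (poles t : Divisor k K)
  haveI := L_finite hK.1 D
  haveI : Module.Finite k (Polynomial.degreeLT k (m + 1)) := Module.Finite.equiv (degreeLTEquiv k (m + 1)).symm
  haveI : Module.Finite k (Polynomial.degreeLT k (m - g)) := Module.Finite.equiv (degreeLTEquiv k (m - g)).symm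
  have hmono : ∀ (a b : ℕ) (P : Place k K), a ≤ b →
      (exp ((a : ℤ) * (poles t : Divisor k K) P) : WithZero (Multiplicative ℤ)) ≤
        exp ((b : ℤ) * (poles t : Divisor k K) P) := fun a b P hab =>
    exp_le_exp.2 (mul_le_mul_of_nonneg_right (by exact_mod_cast hab) (poles_nonneg t P))
  have hpoly : ∀ (n : ℕ), ∀ s ∈ Polynomial.degreeLT k (n + 1), ∀ P : Place k K,
      P.1 (aeval t (s : k[X])) ≤ exp ((n : ℤ) * (poles t : Divisor k K) P) := fun n s hs P => by
    rw [aeval_eq_sum_range]
    refine Valuation.map_sum_le _ fun i hi => ?_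
    rw [Finset.mem_range] at hi
    by_cases hci : s.coeff i = 0
    · rw [hci, zero_smul, map_zero]; exact (zero_lt_iff.2 exp_ne_zero).le
    · have hd : i ≤ n := by
        by_contra hlt
        exact hci (coeff_eq_zero_of_degree_lt ((mem_degreeLT.1 hs).trans_le (by exact_mod_cast (show n + 1 ≤ i by omega))))
      rw [val_smul P hci]
      simpa using mem_L.1 (FFHyp.pow_mem_L ht hd hK.1) P
  have hle : LinearMap.range (coordMap (k := k) t y (m + 1) (m - g)) ≤ L D := by
    rintro _ ⟨⟨⟨a, ha⟩, ⟨b, hb⟩⟩, rfl⟩
    refine mem_L.2 fun P => ?_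
    rw [coordMap_apply]
    simp only [D, Finsupp.smul_apply, smul_eq_mul]
    refine (P.1.map_add _ _).trans (max_le (hpoly m a ha P) ?_)
    rw [map_mul]
    have hb' : b ∈ Polynomial.degreeLT k (m - g - 1 + 1) := by rwa [show m - g - 1 + 1 = m - g by omega]
    refine (mul_le_mul' (hpoly (m - g - 1) b hb' P) (hm P)).trans ?_
    rw [← exp_add, ← add_mul, ← Nat.cast_add]
    exact hmono _ _ P (by omega)
  have hinj : Function.Injective (coordMap (k := k) t y (m + 1) (m - g)) := by
    rw [← LinearMap.ker_eq_bot, LinearMap.ker_eq_bot']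
    rintro ⟨a, b⟩ h
    rw [coordMap_apply] at h
    obtain ⟨h1, h2⟩ := coords_unique ht hy h
    exact Prod.ext (Subtype.ext h1) (Subtype.ext h2)
  have heq : LinearMap.range (coordMap (k := k) t y (m + 1) (m - g)) = L D := by
    refine Submodule.eq_of_le_of_finrank_le hle ?_
    rw [LinearMap.finrank_range_of_inj hinj, Module.finrank_prod, (degreeLTEquiv k (m + 1)).finrank_eq,
      (degreeLTEquiv k (m - g)).finrank_eq, Module.finrank_fin_fun, Module.finrank_fin_fun]
    have h4 := FFHyp.ell_poles hK ht h2 (m := m) (by omega)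
    change (ell D : ℤ) = _ at h4
    change ell D ≤ _
    omega
  have hcD : c ∈ L D := mem_L.2 fun P => by simpa [D] using hcm P
  rw [← heq] at hcD
  obtain ⟨⟨a, b⟩, hab⟩ := hcD
  exact ⟨a, b, hab.symm.trans (coordMap_apply t y _ _ _)⟩

end Groth.Agent.CurvFam16.HypRing
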