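import Groth.Agent.CurvFam16.BCFF
import Groth.Agent.CurvFam16.FFHyp
import Mathlib.FieldTheory.RatFunc.Luroth
import Mathlib.FieldTheory.IsPerfectClosure
import Mathlib.FieldTheory.PurelyInseparable.Basic

/-! Double covers of the projective line by curves of positive genus are separable. -/

noncomputable section

set_option linter.style.haveILetI false
set_option linter.unusedSectionVars false
set_option backward.isDefEq.respectTransparency false
set_option backward.isDefEq.respectTransparency.types false

universe u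

open CategoryTheory CategoryTheory.Limits AlgebraicGeometry TopologicalSpace Opposite
open IntermediateField

namespace Groth.Agent.CurvFam16.Insep

/-- The squares of elements of an intermediate field, in characteristic two. -/
def sqField {k K : Type*} [Field k] [IsAlgClosed k] [Field K] [Algebra k K] [CharP K 2]
    (E : IntermediateField k K) : IntermediateField k K :=
  { Subfield.map (frobenius K 2) E.toSubfield with
    algebraMap_mem' := fun c => by
      obtain ⟨d, hd⟩ := IsAlgClosed.exists_pow_nat_eq c (n := 2) (by norm_num)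
      exact ⟨algebraMap k K d, E.algebraMap_mem d, by rw [frobenius_def, ← map_pow, hd]⟩ }

theorem mem_sqField {k K : Type*} [Field k] [IsAlgClosed k] [Field K] [Algebra k K] [CharP K 2]
    (E : IntermediateField k K) (u : K) : u ∈ sqField E ↔ ∃ w ∈ E, w ^ 2 = u := Iff.rfl

/-- In characteristic two, over an algebraically closed field, a function field all of whose squares lie in a rational subfield is rational. -/
theorem exists_adjoin_eq_top {k K : Type*} [Field k] [IsAlgClosed k] [Field K] [Algebra k K] [CharP K 2]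
    {t : K} (ht : Transcendental k t) (hsq : ∀ z : K, z ^ 2 ∈ k⟮t⟯)
    (hK : ∀ y : K, IsAlgebraic k y → y ∈ Set.range (algebraMap k K)) : ∃ s : K, k⟮s⟯ = ⊤ := by
  let l : RatFunc k →ₐ[k] K := RatFunc.liftAlgHom (Polynomial.aeval t) fun p hp => by
    rw [Submonoid.mem_comap, mem_nonZeroDivisors_iff_ne_zero]
    exact fun h => nonZeroDivisors.ne_zero hp (transcendental_iff_injective.1 ht (h.trans (map_zero _).symm))
  have hlX : l RatFunc.X = t := by
    show RatFunc.liftAlgHom _ _ _ = _
    rw [RatFunc.liftAlgHom_apply, RatFunc.num_X, RatFunc.denom_X]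
    simp
  have hl : l.fieldRange = k⟮t⟯ := by
    rw [AlgHom.fieldRange_eq_map, ← RatFunc.adjoin_X (K := k), IntermediateField.adjoin_map, Set.image_singleton, hlX]
  let L : IntermediateField k (RatFunc k) := (sqField (⊤ : IntermediateField k K)).comap l
  have hmem : ∀ z : K, ∃ r ∈ L, l r = z ^ 2 := fun z => by
    obtain ⟨r, hr⟩ := show z ^ 2 ∈ l.fieldRange by rw [hl]; exact hsq z
    exact ⟨r, ⟨z, trivial, hr.symm⟩, hr⟩
  have hne : L ≠ ⊥ := fun hbot => by
    obtain ⟨r, hr, hrt⟩ := hmem t
    rw [hbot, IntermediateField.mem_bot] at hr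
    obtain ⟨c, rfl⟩ := hr
    rw [AlgHom.commutes] at hrt
    exact ht (IsAlgebraic.of_pow (n := 2) (by norm_num) (hrt ▸ isAlgebraic_algebraMap c))
  obtain ⟨s, -, hs⟩ := show l (RatFunc.Luroth.generator L) ∈ sqField (⊤ : IntermediateField k K) from
    RatFunc.Luroth.generator_mem (E := L)
  refine ⟨s, eq_top_iff.2 fun z _ => ?_⟩
  obtain ⟨r, hr, hrz⟩ := hmem z
  have hle : L.map l ≤ sqField k⟮s⟯ := by
    rw [RatFunc.Luroth.eq_adjoin_generator (E := L), IntermediateField.adjoin_map, Set.image_singleton,
      IntermediateField.adjoin_le_iff, Set.singleton_subset_iff]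
    exact ⟨s, mem_adjoin_simple_self k s, hs⟩
  obtain ⟨w, hw, hwz⟩ := hle ⟨r, hr, rfl⟩
  have : w = z := frobenius_inj K 2 (by rw [frobenius_def, frobenius_def]; exact hwz.trans hrz)
  exact this ▸ hw

/-- In an inseparable quadratic extension the squares are in the base field. -/
theorem sq_mem_of_not_separable {k K : Type*} [Field k] [Field K] [Algebra k K] (E : IntermediateField k K)
    (h2 : Module.finrank E K = 2) (hns : ¬ Algebra.IsSeparable E K) :
    (2 : k) = 0 ∧ ∀ z : K, z ^ 2 ∈ E := by
  haveI : FiniteDimensional E K := Module.finite_of_finrank_eq_succ h2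
  obtain ⟨y, hy⟩ := not_forall.1 fun h => hns ⟨h⟩
  have hint : IsIntegral E y := Algebra.IsIntegral.isIntegral y
  have hdeg : (minpoly E y).natDegree = 2 := by
    have hle := minpoly.natDegree_le (A := E) y
    rw [h2] at hle
    have hpos := minpoly.natDegree_pos hint
    by_contra hne
    have h1 : (minpoly E y).natDegree = 1 := by omega
    obtain ⟨c, rfl⟩ := minpoly.natDegree_eq_one_iff.1 h1
    exact hy (isSeparable_algebraMap c)
  have hder : Polynomial.derivative (minpoly E y) = 0 := by
    by_contra hne
    exact hy ((Polynomial.separable_iff_derivative_ne_zero (minpoly.irreducible hint)).2 hne)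
  have hc : ∀ n : ℕ, ((n : E) + 1) * (minpoly E y).coeff (n + 1) = 0 := fun n => by
    have := congrArg (Polynomial.coeff · n) hder
    rw [Polynomial.coeff_derivative, Polynomial.coeff_zero, mul_comm] at this
    exact this
  have hlead : (minpoly E y).coeff 2 = 1 := by
    conv_lhs => rw [← hdeg]
    exact (minpoly.monic hint).coeff_natDegree
  have h20 : (2 : E) = 0 := by
    have := hc 1
    rw [hlead, mul_one, Nat.cast_one, one_add_one_eq_two] at this
    exact this
  have hk : (2 : k) = 0 := (algebraMap k E).injective (by rw [map_ofNat, map_zero, h20])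
  have hK : (2 : K) = 0 := by rw [← map_ofNat (algebraMap k K) 2, hk, map_zero]
  have h1 : (minpoly E y).coeff 1 = 0 := by simpa using hc 0
  have hy2 : y ^ 2 ∈ E := by
    have h := minpoly.aeval E y
    rw [Polynomial.aeval_eq_sum_range, hdeg, Finset.sum_range_succ, Finset.sum_range_succ, Finset.sum_range_one,
      h1, hlead, zero_smul, add_zero, one_smul, pow_zero] at h
    rw [eq_neg_of_add_eq_zero_right h]
    exact neg_mem (by rw [IntermediateField.smul_def, smul_eq_mul, mul_one]; exact SetLike.coe_mem _)
  refine ⟨hk, fun z => ?_⟩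
  have hy' : y ∉ Set.range (algebraMap E K) := fun ⟨c, hc'⟩ => hy (hc' ▸ isSeparable_algebraMap c)
  obtain ⟨a, b, rfl⟩ := FFHyp.exists_eq_add_mul h2 hy' z
  rw [show (algebraMap E K a + algebraMap E K b * y) ^ 2 =
    algebraMap E K a ^ 2 + algebraMap E K b ^ 2 * y ^ 2 by linear_combination (algebraMap E K a * algebraMap E K b * y) * hK]
  exact add_mem (pow_mem a.2 2) (mul_mem (pow_mem b.2 2) hy2)

attribute [local instance] GenFF.ffAlg

variable (k : Type u) [Field k] {X : Scheme.{u}} [X.Over (Spec (CommRingCat.of k))]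
  [IsIntegral X] [IsProper (X ↘ Spec (CommRingCat.of k))] [Smooth (X ↘ Spec (CommRingCat.of k))]
  (hdim : topologicalKrullDim X = 1) (hk : Module.finrank k (Coh.HH X (Coh.structureModule X) 0) = 1)

include hdim hk in
theorem separable_of_genus_pos (hg : 1 ≤ Curv2.genus k X) {t : X.functionField} (ht : Transcendental k t)
    (h2 : Module.finrank (IntermediateField.adjoin k ({t} : Set X.functionField)) X.functionField = 2) :
    Algebra.IsSeparable (IntermediateField.adjoin k ({t} : Set X.functionField)) X.functionField := by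
  by_contra hns
  obtain ⟨hk2, hsq⟩ := sq_mem_of_not_separable _ h2 hns
  let Kb := AlgebraicClosure k
  letI : (Curv2.bc k X Kb).Over (Spec (CommRingCat.of Kb)) := ⟨Curv2.bcSnd k X Kb⟩
  have hpb : IsPullback (Curv2.bcFst k X Kb) ((Curv2.bc k X Kb) ↘ Spec (CommRingCat.of Kb))
      (X ↘ Spec (CommRingCat.of k)) (Spec.map (CommRingCat.ofHom (algebraMap k Kb))) :=
    IsPullback.of_hasPullback _ _
  haveI := CurveBC.isProper k Kb _ hpb
  haveI := CurveBC.smooth k Kb _ hpb
  haveI := CurveBC.isIntegral k Kb _ hpb hk
  have hdim' := CurveBC.topologicalKrullDim_eq k Kb _ hpb hdim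
  have hk' := CurveBC.finrank_h0 k Kb _ hpb hk
  have hK' := GenFF.isFunctionField Kb _ hdim' hk'
  obtain ⟨π, hπ, hgen⟩ := BCFF.exists_ff_bc k X Kb
  haveI : CharP (Curv2.bc k X Kb).functionField 2 := by
    refine CharTwo.of_one_ne_zero_of_two_eq_zero one_ne_zero ?_
    rw [← map_ofNat π 2, ← map_ofNat (algebraMap k X.functionField) 2, hk2, map_zero, map_zero]
  set E : IntermediateField Kb (Curv2.bc k X Kb).functionField := Kb⟮π t⟯ with hE
  have hkt : ∀ x ∈ IntermediateField.adjoin k ({t} : Set X.functionField), π x ∈ E := fun x hx => by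
    induction hx using IntermediateField.adjoin_induction with
    | mem y hy => rw [Set.mem_singleton_iff] at hy; subst hy; exact mem_adjoin_simple_self Kb _
    | algebraMap c => rw [hπ]; exact E.algebraMap_mem _
    | add a b _ _ ha hb => rw [map_add]; exact add_mem ha hb
    | inv a _ ha => rw [map_inv₀]; exact inv_mem ha
    | mul a b _ _ ha hb => rw [map_mul]; exact mul_mem ha hb
  have hclos : ∀ z ∈ Subring.closure (Set.range π ∪ Set.range (algebraMap Kb (Curv2.bc k X Kb).functionField)),
      z ^ 2 ∈ E := fun z hz => by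
    induction hz using Subring.closure_induction with
    | mem y hy =>
      rcases hy with ⟨x, rfl⟩ | ⟨c, rfl⟩
      · rw [← map_pow]; exact hkt _ (hsq x)
      · exact pow_mem (E.algebraMap_mem c) 2
    | zero => rw [zero_pow two_ne_zero]; exact zero_mem E
    | one => rw [one_pow]; exact one_mem E
    | add a b _ _ ha hb => rw [CharTwo.add_sq]; exact add_mem ha hb
    | neg a _ ha => rw [neg_sq]; exact ha
    | mul a b _ _ ha hb => rw [mul_pow]; exact mul_mem ha hb
  have hsq' : ∀ z, z ^ 2 ∈ E := fun z => by
    obtain ⟨n, d, rfl⟩ := hgen z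
    rw [div_pow]
    exact div_mem (hclos _ n.2) (hclos _ d.2)
  have htr : Transcendental Kb (π t) := by
    intro halg
    obtain ⟨c, hc⟩ := hK'.2 _ halg
    have hbot : E = ⊥ := by
      rw [hE, IntermediateField.adjoin_simple_eq_bot_iff, IntermediateField.mem_bot]
      exact ⟨c, hc⟩
    obtain ⟨⟨x, hx, -⟩, -⟩ := hK'
    obtain ⟨d, hd⟩ := IntermediateField.mem_bot.1 (hbot ▸ hsq' x)
    exact hx (IsAlgebraic.of_pow (n := 2) (by norm_num) (hd ▸ isAlgebraic_algebraMap d))
  obtain ⟨s, hs⟩ := exists_adjoin_eq_top htr hsq' hK'.2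
  have h0 := (FFLib.genus_eq_zero_of_adjoin hK' hs).1
  rw [GenFF.genus_eq Kb hdim' hk'] at h0
  haveI := quasiSeparatedSpace_of_quasiSeparated (X ↘ Spec (CommRingCat.of k))
  haveI := QuasiCompact.compactSpace_of_compactSpace (X ↘ Spec (CommRingCat.of k))
  have h1 : Curv2.genus Kb (Curv2.bc k X Kb) = Curv2.genus k X :=
    CurveBC.finrank_hh_unit k Kb _ hpb 1
  omega

end Groth.Agent.CurvFam16.Insep
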