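import Groth.Agent.S1564
import Groth.Agent.CurveCohLib.Pencil
import Groth.Agent.CurveCohLib.Clifford
import Groth.Agent.PnCoh.TwistH0
import Groth.Agent.PicClLib.Basic
import Groth.Agent.Lib.AmpleEmbed
import Groth.Agent.Lib.CurveDeg
import Groth.Agent.PnCoh.Finite.ProjSpace

set_option backward.isDefEq.respectTransparency false
set_option maxHeartbeats 1000000
set_option synthInstance.maxHeartbeats 400000
universe u
open CategoryTheory CategoryTheory.Limits AlgebraicGeometry Opposite
open Groth.Agent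

namespace Groth.Agent.CurvFam16
variable {k : Type u} [Field k] {r : ℕ}

theorem smulAb_app {X : Scheme.{u}} (M : X.Modules) (a : Coh.Γtop X) (m : Γ(M, ⊤)) :
    (Coh.smulAb M a).hom.app (op ⊤) m = (show Γ(X, ⊤) from Coh.resTop X (op ⊤) a) • m := rfl

attribute [local instance] MvPolynomial.gradedAlgebra

theorem linIndep_coord :
    letI : (CohB1.ProjSpace r k).Over (Spec (CommRingCat.of k)) := ⟨CohB1.ProjSpace.toSpec r k⟩
    LinSer.LinIndep k (CohB1.ProjSpace r k) (Twist.twistProjSpace r k 1) (ProjUP.coord r k) := by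
  intro c hc
  classical
  let X1 : Fin (r+1) → MvPolynomial.homogeneousSubmodule (Fin (r+1)) k 1 := fun i => ⟨MvPolynomial.X i, MvPolynomial.isHomogeneous_X k i⟩
  have hz : (PnCoh.globalOfEquiv (ι := Fin (r+1)) (R := k) (d := 1) 0 : Γ(Twist.twistProjSpace r k 1, ⊤)) = 0 := by
    have h := PnCoh.globalOf_add (ι := Fin (r+1)) (R := k) (d := 1) 0 0
    rw [add_zero] at h
    exact add_eq_left.mp h.symm
  have key : ∀ T : Finset (Fin (r+1)), (PnCoh.globalOfEquiv (ι := Fin (r+1)) (R := k) (d := 1) (∑ i ∈ T, c i • X1 i) :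
      Γ(Twist.twistProjSpace r k 1, ⊤)) =
      ∑ i ∈ T, (show Γ(CohB1.ProjSpace r k, ⊤) from Coh.toGlobal (CohB1.ProjSpace.toSpec r k) (c i)) •
        (show Γ(Twist.twistProjSpace r k 1, ⊤) from ProjUP.coord r k i) := by
    intro T
    induction T using Finset.induction_on with
    | empty =>
      rw [Finset.sum_empty, Finset.sum_empty]
      exact hz
    | @insert a T ha ih =>
      rw [Finset.sum_insert ha, Finset.sum_insert ha]
      refine (PnCoh.globalOf_add _ _).trans (congrArg₂ (· + ·) ?_ ih)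
      exact PnCoh.globalOf_smul (c a) (X1 a)
  have h2 : (∑ i, c i • X1 i) = 0 := PnCoh.globalOfEquiv.injective
    (((key Finset.univ).trans hc).trans hz.symm)
  funext j
  have h3 := congrArg (fun p : MvPolynomial.homogeneousSubmodule (Fin (r+1)) k 1 =>
    MvPolynomial.coeff (Finsupp.single j 1) p.1) h2
  simp [X1, MvPolynomial.coeff_sum, MvPolynomial.coeff_X', Finsupp.single_eq_single_iff] at h3
  exact h3

theorem finrank_le {X : Scheme.{u}} [IsAlgClosed k] [X.Over (Spec (CommRingCat.of k))] [IsIntegral X] [IsProper (X ↘ (Spec (CommRingCat.of k)))]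
    (i : X ⟶ CohB1.ProjSpace r k) (hi : i ≫ CohB1.ProjSpace.toSpec r k = (X ↘ (Spec (CommRingCat.of k))))
    (hplane : ∀ s : LinSer.Sect (CohB1.ProjSpace r k) (Twist.twistProjSpace r k 1), s ≠ 0 →
      OmegaSh.pullSect i (Twist.twistProjSpace r k 1) ⊤ s ≠ 0) :
    r + 1 ≤ Module.finrank k (Coh.HH X ((Scheme.Modules.pullback i).obj (Twist.twistProjSpace r k 1)) 0) := by
  letI : (CohB1.ProjSpace r k).Over (Spec (CommRingCat.of k)) := ⟨CohB1.ProjSpace.toSpec r k⟩
  set M := Twist.twistProjSpace r k 1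
  set L := (Scheme.Modules.pullback i).obj M
  haveI := CurveCohLib.isNoetherian_of_proper (k := k) (X := X)
  have hL : PicF.IsInvertible L := PicClLib.isInvertible_pullback i (PnCoh.Finite.isInvertible_twist
    (fun j : ULift.{u} (Fin (r + 1)) => MvPolynomial.X j.down)
    (fun j => ProjPt.X_mem j.down) (by
      refine top_le_iff.1 ((AmpleEmbed.iSup_basicOpen_X r k).ge.trans (iSup_le fun j => ?_))
      exact le_iSup_of_le (ULift.up j) le_rfl) 1)
  refine CurveCohLib.Pencil.le_h0_of_linIndep (k := k) (CurveDeg.isCoh_of_isInvertible hL)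
    (fun j => OmegaSh.pullSect i M ⊤ (ProjUP.coord r k j)) fun c hc => linIndep_coord c ?_
  by_contra h
  refine hplane _ h ((map_sum _ _ _).trans ((Finset.sum_congr rfl fun j _ => ?_).trans hc))
  refine (Scheme.Modules.Hom.app_smul ((Scheme.Modules.pullbackPushforwardAdjunction i).unit.app M)
    (U := ⊤) (Coh.toGlobal (CohB1.ProjSpace.toSpec r k) (c j)) (ProjUP.coord r k j)).trans ?_
  rw [← hi]
  rfl


theorem le_deg {X : Scheme.{u}} [IsAlgClosed k] [X.Over (Spec (CommRingCat.of k))] [IsIntegral X]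
    [IsProper (X ↘ (Spec (CommRingCat.of k)))] (hdim : topologicalKrullDim X = 1)
    (i : X ⟶ CohB1.ProjSpace r k) (hi : i ≫ CohB1.ProjSpace.toSpec r k = (X ↘ (Spec (CommRingCat.of k))))
    (hplane : ∀ s : LinSer.Sect (CohB1.ProjSpace r k) (Twist.twistProjSpace r k 1), s ≠ 0 →
      OmegaSh.pullSect i (Twist.twistProjSpace r k 1) ⊤ s ≠ 0) :
    (r : ℤ) ≤ Curv2.deg k X ((Scheme.Modules.pullback i).obj (Twist.twistProjSpace r k 1)) 1 := by
  letI : (CohB1.ProjSpace r k).Over (Spec (CommRingCat.of k)) := ⟨CohB1.ProjSpace.toSpec r k⟩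
  have h := finrank_le (k := k) i hi hplane
  have hs : Nontrivial (Coh.HH X ((Scheme.Modules.pullback i).obj (Twist.twistProjSpace r k 1)) 0) :=
    Module.nontrivial_of_finrank_pos (R := k) (by omega)
  have hL : PicF.IsInvertible ((Scheme.Modules.pullback i).obj (Twist.twistProjSpace r k 1)) :=
    PicClLib.isInvertible_pullback i (PnCoh.Finite.isInvertible_twist
    (fun j : ULift.{u} (Fin (r + 1)) => MvPolynomial.X j.down)
    (fun j => ProjPt.X_mem j.down) (by
      refine top_le_iff.1 ((AmpleEmbed.iSup_basicOpen_X r k).ge.trans (iSup_le fun j => ?_))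
      exact le_iSup_of_le (ULift.up j) le_rfl) 1)
  have h2 := (S1564.result k X hdim (CurveCohLib.Clifford.finrank_h0_structure k) _ hL hs).1
  omega

end Groth.Agent.CurvFam16
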