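import Groth.Agent.CurvFam16.Insep
import Groth.Agent.CurvFam16.P1Map
import Groth.Agent.S1564

/-! Degree two pencils. -/

noncomputable section

set_option linter.style.haveILetI false
set_option linter.unusedSectionVars false
set_option backward.isDefEq.respectTransparency false
set_option backward.isDefEq.respectTransparency.types false

universe u

open CategoryTheory CategoryTheory.Limits AlgebraicGeometry TopologicalSpace Opposite
open FunFld
open Groth.Agent.FFLib (poles)

namespace Groth.Agent.CurvFam16.Pencil

attribute [local instance] GenFF.ffAlg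

/-- A divisor of degree two moving in a pencil gives an element of degree two. -/
theorem exists_t_of_divisor {k K : Type*} [Field k] [Field K] [Algebra k K] (hK : IsFunctionField k K)
    (hg : 1 ≤ FunFld.genus k K) {D : Divisor k K} (hd : D.deg = 2) (hl : 2 ≤ ell D) :
    ∃ t : K, Transcendental k t ∧ Module.finrank (IntermediateField.adjoin k ({t} : Set K)) K = 2 := by
  classical
  obtain ⟨z, hz0, -, hz⟩ := FFLib.exists_le_add_div hK.1 (D := D) (by omega)
  set D' := D + FunFld.div k z with hD'
  have hl' : 2 ≤ ell D' := by rw [hD', FFLib.ell_add_div hK.1 D hz0]; exact hl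
  have hd' : D'.deg = 2 := by rw [hD', FFLib.Divisor.deg_add, FFLib.deg_div hK.1, hd]; rfl
  haveI := FFLib.L_finite hK.1 D'
  haveI := FFLib.L_finite hK.1 (0 : Divisor k K)
  obtain ⟨t, htL, ht0⟩ : ∃ t, t ∈ L D' ∧ t ∉ L (0 : Divisor k K) := by
    by_contra! h
    have := Submodule.finrank_mono (show L D' ≤ L (0 : Divisor k K) from h)
    have h0 := FFLib.ell_zero hK
    change Module.finrank k (L (0 : Divisor k K)) = 1 at h0
    change 2 ≤ Module.finrank k (L D') at hl'
    omega
  have ht : Transcendental k t := FFLib.transcendental_of_not_range hK fun ⟨c, hc⟩ => ht0 <| by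
    subst hc
    refine FFLib.mem_L.2 fun P => ?_
    rw [Finsupp.coe_zero, Pi.zero_apply, WithZero.exp_zero]
    exact P.2.1 c
  have hle : (poles t : Divisor k K) ≤ D' := fun P => by
    rw [poles, Finsupp.mapRange_apply, FFLib.div_apply hK.1]
    have h1 := FFLib.mem_L.1 htL P
    rw [FFLib.val_le_exp_iff P (fun e : t = 0 => ht (by rw [e]; exact isAlgebraic_zero))] at h1
    have h2 := hz P
    simp only [Finsupp.coe_zero, Pi.zero_apply] at h2
    omega
  have h2 := (FFLib.Divisor.deg_mono hle).trans_eq hd'
  rw [FFLib.deg_poles hK.1 ht] at h2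
  haveI := hK.1
  have hpos : 0 < Module.finrank (IntermediateField.adjoin k ({t} : Set K)) K := by
    haveI := FFLib.IsFF.finite_adjoin hK.1 ht
    exact Module.finrank_pos
  have hne : Module.finrank (IntermediateField.adjoin k ({t} : Set K)) K ≠ 1 := fun h => by
    have := (FFLib.genus_eq_zero_of_adjoin hK (FFLib.adjoin_eq_top_iff.2 h)).1
    omega
  exact ⟨t, ht, by omega⟩

variable (k : Type u) [Field k] {X : Scheme.{u}} [X.Over (Spec (CommRingCat.of k))]
  [IsIntegral X] [IsProper (X ↘ Spec (CommRingCat.of k))] [Smooth (X ↘ Spec (CommRingCat.of k))]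
  (hdim : topologicalKrullDim X = 1) (hk : Module.finrank k (Coh.HH X (Coh.structureModule X) 0) = 1)

include hdim hk in
/-- A module of degree two with two sections gives a separable double cover of the line. -/
theorem exists_cover_of_pencil (hg : 1 ≤ Curv2.genus k X) {L : X.Modules} (hL : PicF.IsInvertible L)
    (hd : Curv2.deg k X L 1 = 2) (h2 : 2 ≤ Module.finrank k (Coh.HH X L 0)) :
    ∃ f : X ⟶ CohB1.ProjSpace 1 k, f ≫ CohB1.ProjSpace.toSpec 1 k = X ↘ (Spec (CommRingCat.of k)) ∧ IsFinite f ∧
      f.residueDegree (genericPoint X) = 2 ∧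
      (letI := (f.residueFieldMap (genericPoint X)).hom.toAlgebra
       Algebra.IsSeparable ((CohB1.ProjSpace 1 k).residueField (f (genericPoint X))) (X.residueField (genericPoint X))) := by
  obtain ⟨U₀, h₀, e₀, he₀⟩ := InvX.exists_frame hL (genericPoint X)
  obtain ⟨t, ht, ht2⟩ := exists_t_of_divisor (GenFF.isFunctionField k X hdim hk)
    (by rw [GenFF.genus_eq k hdim hk]; exact hg) (D := GenFF.divisor k hdim hL he₀ h₀)
    (by rw [GenFF.deg_divisor k hdim hk hL he₀ h₀, hd]) (by rw [← GenFF.finrank_h0_eq_ell k hdim hL he₀ h₀]; exact h2)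
  obtain ⟨f, hf, hfin, hdeg, hsep⟩ := P1Map.exists_map_of_t hdim ht
  exact ⟨f, hf, hfin, hdeg.trans ht2, hsep.2 (Insep.separable_of_genus_pos k hdim hk hg ht ht2)⟩

include hdim hk in
/-- A double cover of the line gives a module of degree two with exactly two sections. -/
theorem exists_pencil_of_cover (hg : 1 ≤ Curv2.genus k X) (f : X ⟶ CohB1.ProjSpace 1 k)
    (hf : f ≫ CohB1.ProjSpace.toSpec 1 k = X ↘ (Spec (CommRingCat.of k))) [IsFinite f]
    (hdeg : f.residueDegree (genericPoint X) = 2) :
    ∃ L : X.Modules, PicF.IsInvertible L ∧ Curv2.deg k X L 1 = 2 ∧ Module.finrank k (Coh.HH X L 0) = 2 := by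
  obtain ⟨t, ht, ht2, -⟩ := P1Map.exists_t_of_map hdim f hf
  rw [hdeg] at ht2
  have hK := GenFF.isFunctionField k X hdim hk
  obtain ⟨L, hL, hd, h0⟩ := GenFF.exists_invertible_of_effective k hdim hk (poles t) (FFLib.poles_nonneg t)
  have hd2 : Curv2.deg k X L 1 = 2 := by rw [hd, FFLib.deg_poles hK.1 ht, ht2]; rfl
  haveI := FFLib.L_finite hK.1 (poles t : Divisor k X.functionField)
  have hge : 2 ≤ FunFld.ell (poles t : Divisor k X.functionField) := by
    have hli : LinearIndependent k ![(1 : X.functionField), t] := by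
      rw [LinearIndependent.pair_iff' one_ne_zero]
      intro a ha
      refine ht ?_
      rw [← ha, ← Algebra.algebraMap_eq_smul_one]
      exact isAlgebraic_algebraMap a
    have hmem : ∀ i, ![(1 : X.functionField), t] i ∈ FunFld.L (poles t : Divisor k X.functionField) := fun i => by
      fin_cases i
      · refine FFLib.mem_L.2 fun P => ?_
        show P.1 (1 : X.functionField) ≤ _
        rw [map_one, ← WithZero.exp_zero, WithZero.exp_le_exp]
        exact FFLib.poles_nonneg t P
      · exact FFLib.mem_L.2 fun P => FFLib.val_le_exp_poles hK.1 t P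
    have := (LinearIndependent.of_comp (FunFld.L (poles t : Divisor k X.functionField)).subtype
      (v := fun i => (⟨_, hmem i⟩ : FunFld.L (poles t : Divisor k X.functionField))) hli).fintype_card_le_finrank
    change 2 ≤ Module.finrank k (FunFld.L (poles t : Divisor k X.functionField))
    simpa using this
  haveI hnt : Nontrivial (Coh.HH X L 0) := Module.nontrivial_of_finrank_pos (R := k) (by omega)
  obtain ⟨hle, heq⟩ := S1564.result k X hdim hk L hL hnt
  refine ⟨L, hL, hd2, ?_⟩
  by_contra hne
  have := heq (by omega) (by omega)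
  omega

end Groth.Agent.CurvFam16.Pencil
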