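import Groth.Agent.KFlatLib.Ring.ShriekComp
import Groth.Agent.KFlatLib.Ring.DualizingLocalExt
import Groth.Prelude.Def_Disc

/-! The cohomology in degree zero of the shriek of the ring along a finite map. -/

set_option linter.style.haveILetI false
set_option backward.isDefEq.respectTransparency false
set_option backward.isDefEq.respectTransparency.types false

universe u

open CategoryTheory CategoryTheory.Limits

attribute [local instance] HasDerivedCategory.standard

namespace Groth.Agent.CurvFam16.ShriekZero

open Groth.Agent.KFlatLib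

variable {A B : Type u} [CommRing A] [CommRing B] [Algebra A B]

/-- The degree zero cohomology of the shriek of the ring is the dual of the algebra. -/
theorem nonempty_hd_zero (R : Dual.D A ⥤ Dual.D B) (adj : DRing.restrictD (algebraMap A B) ⊣ R) :
    Nonempty (Dual.HD B (R.obj (Dual.inD A A)) 0 ≃ₗ[B] Disc.Omega A B) := by
  let Y := R.obj (Dual.inD A A)
  let φ := algebraMap A B
  let S := DerivedCategory.singleFunctor (ModuleCat.{u} A) 0
  let T := DerivedCategory.singleFunctor (ModuleCat.{u} B) 0
  let res := ModuleCat.restrictScalars.{u} φ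
  let c := res.mapDerivedCategorySingleFunctor 0
  obtain ⟨u⟩ := exists_homRingLEquiv Y 0
  let z : (Dual.inD B B ⟶ Y⟦(0 : ℤ)⟧) ≃ₗ[B] (Dual.inD B B ⟶ Y) :=
    Linear.homCongr B (Iso.refl _) ((shiftFunctorZero (Dual.D B) ℤ).app Y)
  let Φ : (Dual.inD B B ⟶ Y) → ((res.obj (ModuleCat.of B B)) ⟶ ModuleCat.of A A) := fun f =>
    S.preimage ((c.app (ModuleCat.of B B)).inv ≫ (adj.homEquiv _ _).symm f)
  have hS : ∀ f, S.map (Φ f) = (c.app (ModuleCat.of B B)).inv ≫ (adj.homEquiv _ _).symm f := fun f =>
    S.map_preimage _
  have hbij : Function.Bijective Φ := by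
    refine ⟨fun f g h => ?_, fun g => ⟨(adj.homEquiv _ _) ((c.app _).hom ≫ S.map g), S.map_injective ?_⟩⟩
    · have := congrArg S.map h
      rw [hS, hS, cancel_epi] at this
      exact (adj.homEquiv _ _).symm.injective this
    · rw [hS, Equiv.symm_apply_apply, Iso.inv_hom_id_assoc]
  have hadd : ∀ f g, Φ (f + g) = Φ f + Φ g := fun f g => S.map_injective (by
    rw [S.map_add, hS, hS, hS, ← Preadditive.comp_add, Adjunction.homEquiv_counit,
      Adjunction.homEquiv_counit, Adjunction.homEquiv_counit, Functor.map_add, Preadditive.add_comp])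
  have hsmul : ∀ (b : B) f, Φ (b • f) = res.map (b • 𝟙 (ModuleCat.of B B)) ≫ Φ f := fun b f => S.map_injective (by
    have h1 : b • f = T.map (b • 𝟙 (ModuleCat.of B B)) ≫ f := by
      rw [Functor.map_smul, CategoryTheory.Functor.map_id, Linear.smul_comp, Category.id_comp]
    rw [h1, S.map_comp, hS, hS, Adjunction.homEquiv_naturality_left_symm]
    rw [← Category.assoc, ← Category.assoc]
    exact congrArg (· ≫ _) (c.inv.naturality (b • 𝟙 (ModuleCat.of B B))).symm)
  let Ψ : (Dual.inD B B ⟶ Y) →ₗ[B] Disc.Omega A B :=
    { toFun := fun f =>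
        ⟨{ toFun := fun x => (Φ f).hom x
           map_add' := fun x y => (Φ f).hom.map_add x y
           map_smul' := fun r x => by
             have e : (algebraMap A B r) • x = r • x := algebraMap_smul B r x
             have h := (Φ f).hom.map_smul r (show res.obj (ModuleCat.of B B) from x)
             rw [← e]
             exact h }⟩
      map_add' := fun f g => Disc.Omega.ext (LinearMap.ext fun x => by
        show (Φ (f + g)).hom x = (Φ f).hom x + (Φ g).hom x
        rw [hadd]; rfl)
      map_smul' := fun b f => Disc.Omega.ext (LinearMap.ext fun x => by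
        show (Φ (b • f)).hom x = (Φ f).hom (b * x)
        rw [hsmul]; rfl) }
  have hΨ : Function.Bijective Ψ := by
    refine ⟨fun f g h => hbij.1 (ModuleCat.hom_ext (LinearMap.ext fun x => ?_)), fun ω => ?_⟩
    · exact congrArg (fun o : Disc.Omega A B => o.toLinearMap x) h
    · obtain ⟨f, hf⟩ := hbij.2 (ConcreteCategory.ofHom (C := ModuleCat.{u} A) (X := res.obj (ModuleCat.of B B)) (Y := ModuleCat.of A A)
        { toFun := fun x : res.obj (ModuleCat.of B B) => ω.toLinearMap (show B from x)
          map_add' := fun x y => ω.toLinearMap.map_add (show B from x) (show B from y)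
          map_smul' := fun r x => by
            have e : (algebraMap A B r) • (show B from x) = r • (show B from x) :=
              algebraMap_smul B r (show B from x)
            have h := ω.toLinearMap.map_smul r (show B from x)
            rw [← e] at h
            exact h })
      refine ⟨f, Disc.Omega.ext (LinearMap.ext fun x => ?_)⟩
      show (Φ f).hom x = _
      rw [hf]; rfl
  exact ⟨u.symm.trans (z.trans (LinearEquiv.ofBijective Ψ hΨ))⟩

end Groth.Agent.CurvFam16.ShriekZero
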